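import Mathlib
import Cfsg.Prelude.Def_KGroupFacts

set_option autoImplicit false
open scoped commutatorElement

namespace Cfsg.Agent.Lib.Helper70

universe u v w

/-! ### Commutators and central elements -/

theorem commutatorElement_mul_central_left {Γ : Type u} [Group Γ] (a b k : Γ)
    (hk : k ∈ Subgroup.center Γ) : ⁅a * k, b⁆ = ⁅a, b⁆ := by
  have h1 : k * b * k⁻¹ = b := by
    rw [← Subgroup.mem_center_iff.mp hk b]; group
  calc ⁅a * k, b⁆ = a * (k * b * k⁻¹) * a⁻¹ * b⁻¹ := by rw [commutatorElement_def]; group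
    _ = ⁅a, b⁆ := by rw [h1, commutatorElement_def]

theorem commutatorElement_mul_central_right {Γ : Type u} [Group Γ] (a b l : Γ)
    (hl : l ∈ Subgroup.center Γ) : ⁅a, b * l⁆ = ⁅a, b⁆ := by
  have h1 : l * a⁻¹ * l⁻¹ = a⁻¹ := by
    rw [← Subgroup.mem_center_iff.mp hl a⁻¹]; group
  calc ⁅a, b * l⁆ = a * b * (l * a⁻¹ * l⁻¹) * b⁻¹ := by rw [commutatorElement_def]; group
    _ = ⁅a, b⁆ := by rw [h1, commutatorElement_def]

theorem commutatorElement_mul_central {Γ : Type u} [Group Γ] (a b k l : Γ)
    (hk : k ∈ Subgroup.center Γ) (hl : l ∈ Subgroup.center Γ) : ⁅a * k, b * l⁆ = ⁅a, b⁆ := by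
  rw [commutatorElement_mul_central_left _ _ _ hk, commutatorElement_mul_central_right _ _ _ hl]

/-- If `H ⊔ Z = ⊤` with `Z` central (in the form: every element is `h * z`), then `⁅G, G⁆ ≤ ⁅H, H⁆`. -/
theorem commutator_le_of_central_supplement {Γ : Type u} [Group Γ] (H : Subgroup Γ)
    (hH : ∀ g : Γ, ∃ h ∈ H, ∃ z ∈ Subgroup.center Γ, g = h * z) : commutator Γ ≤ ⁅H, H⁆ := by
  rw [commutator_eq_closure, Subgroup.closure_le]
  rintro _ ⟨a, b, rfl⟩
  obtain ⟨h, hh, z, hz, rfl⟩ := hH a
  obtain ⟨h', hh', z', hz', rfl⟩ := hH b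
  rw [SetLike.mem_coe, commutatorElement_mul_central h h' z z' hz hz']
  exact Subgroup.commutator_mem_commutator hh hh'

/-- Two homomorphisms from a perfect group that differ by central elements are equal. -/
theorem hom_eq_of_perfect {G : Type u} {X : Type v} [Group G] [Group X] (hG : Group.IsPerfect G)
    (η₁ η₂ : G →* X) (h : ∀ g, η₁ g * (η₂ g)⁻¹ ∈ Subgroup.center X) : η₁ = η₂ := by
  let d : G →* X := MonoidHom.mk' (fun g => η₁ g * (η₂ g)⁻¹) (by
    intro a b
    show η₁ (a * b) * (η₂ (a * b))⁻¹ = η₁ a * (η₂ a)⁻¹ * (η₁ b * (η₂ b)⁻¹)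
    have hb := Subgroup.mem_center_iff.mp (h b) (η₂ a)⁻¹
    calc η₁ (a * b) * (η₂ (a * b))⁻¹ = η₁ a * (η₁ b * (η₂ b)⁻¹ * (η₂ a)⁻¹) := by
          rw [map_mul, map_mul]; group
      _ = η₁ a * ((η₂ a)⁻¹ * (η₁ b * (η₂ b)⁻¹)) := by rw [hb]
      _ = η₁ a * (η₂ a)⁻¹ * (η₁ b * (η₂ b)⁻¹) := by group)
  have hd : ∀ g, d g = η₁ g * (η₂ g)⁻¹ := fun g => rfl
  have hker : d.ker = ⊤ := by
    have h1 : commutator G ≤ d.ker := by
      rw [commutator_eq_closure, Subgroup.closure_le]
      rintro x ⟨p, q, rfl⟩
      show ⁅p, q⁆ ∈ d.ker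
      rw [MonoidHom.mem_ker, map_commutatorElement, commutatorElement_def]
      have hp : d p ∈ Subgroup.center X := h p
      have := Subgroup.mem_center_iff.mp hp (d q)
      rw [← this]; group
    rw [hG.commutator_eq_top] at h1
    exact top_le_iff.mp h1
  ext g
  have hg : g ∈ d.ker := by rw [hker]; trivial
  rw [MonoidHom.mem_ker, hd] at hg
  exact mul_inv_eq_one.mp hg

/-- Grün: in a perfect group, an element all of whose commutators are central is central. -/
theorem mem_center_of_commutators_central {G : Type u} [Group G] (hG : Group.IsPerfect G) (g : G)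
    (hc : ∀ h : G, ⁅g, h⁆ ∈ Subgroup.center G) : g ∈ Subgroup.center G := by
  have h1 : (MulAut.conj g).toMonoidHom = MonoidHom.id G := by
    apply hom_eq_of_perfect hG
    intro h
    have := hc h
    rw [commutatorElement_def] at this
    simpa [MulAut.conj_apply] using this
  rw [Subgroup.mem_center_iff]
  intro h
  have h2 : (MulAut.conj g).toMonoidHom h = h := by rw [h1]; rfl
  have h3 : g * h * g⁻¹ = h := by simpa [MulAut.conj_apply] using h2
  calc h * g = (g * h * g⁻¹) * g := by rw [h3]
    _ = g * h := by group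

/-- A group that is the product of its commutator subgroup and a subgroup of the commutator subgroup is perfect:
stem extensions of perfect groups are perfect. -/
theorem isPerfect_of_stem {Δ : Type u} {G : Type v} [Group Δ] [Group G] (hG : Group.IsPerfect G)
    (τ : Δ →* G) (hτ : Cfsg.IsStemExtension τ) : Group.IsPerfect Δ := by
  obtain ⟨hsurj, hcen, hcomm⟩ := hτ
  rw [Group.isPerfect_def, eq_top_iff]
  intro x _
  have hx : τ x ∈ Subgroup.map τ (commutator Δ) := by
    have : Subgroup.map τ (commutator Δ) = commutator G := by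
      rw [commutator_def, commutator_def, Subgroup.map_commutator, ← MonoidHom.range_eq_map,
        MonoidHom.range_eq_top.mpr hsurj]
    rw [this, hG.commutator_eq_top]; trivial
  obtain ⟨c, hc, hcx⟩ := hx
  have hk : c⁻¹ * x ∈ τ.ker := by
    rw [MonoidHom.mem_ker, map_mul, map_inv, hcx, inv_mul_cancel]
  have : x = c * (c⁻¹ * x) := by group
  rw [this]
  exact Subgroup.mul_mem _ hc (hcomm hk)

/-! ### The central extension `F / [F, R]` attached to a presentation `p : F →* G` -/

section CE

variable {F : Type u} {G : Type v} [Group F] [Group G] (p : F →* G)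

/-- `[F, R]` for `R = ker p`. -/
abbrev FR : Subgroup F := ⁅(⊤ : Subgroup F), p.ker⁆

theorem FR_le_ker : FR p ≤ p.ker := Subgroup.commutator_le_right ⊤ p.ker

/-- The group `F / [F, R]`. -/
abbrev CE : Type u := F ⧸ FR p

/-- The quotient map `F → F / [F, R]`. -/
abbrev CE.mk : F →* CE p := QuotientGroup.mk' (FR p)

/-- The projection `F / [F, R] → G`. -/
def CE.proj : CE p →* G := QuotientGroup.lift (FR p) p (FR_le_ker p)

@[simp] theorem CE.proj_mk (f : F) : CE.proj p (CE.mk p f) = p f := rfl

theorem CE.proj_comp_mk : (CE.proj p).comp (CE.mk p) = p := rfl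

theorem CE.proj_surjective (hp : Function.Surjective p) : Function.Surjective (CE.proj p) := by
  intro g
  obtain ⟨f, rfl⟩ := hp g
  exact ⟨CE.mk p f, rfl⟩

theorem CE.ker_proj_le_center : (CE.proj p).ker ≤ Subgroup.center (CE p) := by
  intro x hx
  obtain ⟨r, rfl⟩ := QuotientGroup.mk'_surjective (FR p) x
  have hr : r ∈ p.ker := by
    rw [MonoidHom.mem_ker] at hx ⊢
    exact hx
  rw [Subgroup.mem_center_iff]
  intro y
  obtain ⟨f, rfl⟩ := QuotientGroup.mk'_surjective (FR p) y
  rw [← map_mul, ← map_mul]
  apply (QuotientGroup.eq (s := FR p)).mpr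
  have : (f * r)⁻¹ * (r * f) = ⁅r⁻¹, f⁻¹⁆ := by
    rw [commutatorElement_def]; group
  rw [this, FR, Subgroup.commutator_comm]
  exact Subgroup.commutator_mem_commutator (Subgroup.inv_mem _ hr) (Subgroup.mem_top _)

/-- The lifting property of `F / [F, R]` for a free group `F`. -/
theorem CE.exists_lift [IsFreeGroup F] {X : Type w} {Q : Type*} [Group X] [Group Q] (θ : G →* Q) (ξ : X →* Q)
    (hξ : Function.Surjective ξ) (hker : ξ.ker ≤ Subgroup.center X) :
    ∃ φ : CE p →* X, ξ.comp φ = θ.comp (CE.proj p) := by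
  let ψ : F →* X := IsFreeGroup.lift (fun a => Function.surjInv hξ (θ (p (IsFreeGroup.of a))))
  have hψ : ξ.comp ψ = θ.comp p := by
    apply IsFreeGroup.ext_hom
    intro a
    show ξ (ψ (IsFreeGroup.of a)) = θ (p (IsFreeGroup.of a))
    rw [IsFreeGroup.lift_of]
    exact Function.surjInv_eq hξ _
  have hψ' : ∀ f, ξ (ψ f) = θ (p f) := fun f => DFunLike.congr_fun hψ f
  have hle : FR p ≤ ψ.ker := by
    rw [FR, Subgroup.commutator_le]
    intro f _ r hr
    rw [MonoidHom.mem_ker, map_commutatorElement, commutatorElement_def]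
    have hr' : ψ r ∈ Subgroup.center X := by
      apply hker
      rw [MonoidHom.mem_ker, hψ', MonoidHom.mem_ker.mp hr, map_one]
    have := Subgroup.mem_center_iff.mp hr' (ψ f)
    rw [this]; group
  refine ⟨QuotientGroup.lift (FR p) ψ hle, ?_⟩
  apply QuotientGroup.monoidHom_ext
  ext f
  exact hψ' f

/-- Schur: the commutator subgroup of `F / [F, R]` is finite when `G` is. -/
theorem CE.finite_commutator [Finite G] (hp : Function.Surjective p) : Finite (commutator (CE p)) := by
  have hs := CE.proj_surjective p hp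
  have hfin : Finite (commutatorSet (CE p)) := by
    have hsub : commutatorSet (CE p) ⊆ Set.range (fun x : G × G =>
        ⁅Function.surjInv hs x.1, Function.surjInv hs x.2⁆) := by
      rintro _ ⟨a, b, rfl⟩
      refine ⟨(CE.proj p a, CE.proj p b), ?_⟩
      have ha : (Function.surjInv hs (CE.proj p a))⁻¹ * a ∈ Subgroup.center (CE p) := by
        apply CE.ker_proj_le_center
        rw [MonoidHom.mem_ker, map_mul, map_inv, Function.surjInv_eq hs, inv_mul_cancel]
      have hb : (Function.surjInv hs (CE.proj p b))⁻¹ * b ∈ Subgroup.center (CE p) := by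
        apply CE.ker_proj_le_center
        rw [MonoidHom.mem_ker, map_mul, map_inv, Function.surjInv_eq hs, inv_mul_cancel]
      have := commutatorElement_mul_central (Function.surjInv hs (CE.proj p a))
        (Function.surjInv hs (CE.proj p b)) _ _ ha hb
      rw [mul_inv_cancel_left, mul_inv_cancel_left] at this
      exact this.symm
    exact (Set.finite_range _).subset hsub
  infer_instance

/-! ### Perfect groups: the commutator subgroup of `F / [F, R]` -/

theorem CE.exists_commutator_rep (hG : Group.IsPerfect G) (hp : Function.Surjective p) (e : CE p) :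
    ∃ c ∈ commutator (CE p), CE.proj p c = CE.proj p e := by
  have : CE.proj p e ∈ Subgroup.map (CE.proj p) (commutator (CE p)) := by
    have h1 : Subgroup.map (CE.proj p) (commutator (CE p)) = commutator G := by
      rw [commutator_def, commutator_def, Subgroup.map_commutator, ← MonoidHom.range_eq_map,
        MonoidHom.range_eq_top.mpr (CE.proj_surjective p hp)]
    rw [h1, hG.commutator_eq_top]; trivial
  obtain ⟨c, hc, hce⟩ := this
  exact ⟨c, hc, hce⟩

theorem CE.isPerfect_commutator (hG : Group.IsPerfect G) (hp : Function.Surjective p) :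
    Group.IsPerfect (commutator (CE p)) := by
  rw [Subgroup.isPerfect_iff]
  apply le_antisymm
  · exact Subgroup.commutator_le_left _ _
  · apply commutator_le_of_central_supplement
    intro e
    obtain ⟨c, hc, hce⟩ := CE.exists_commutator_rep p hG hp e
    refine ⟨c, hc, c⁻¹ * e, ?_, by group⟩
    apply CE.ker_proj_le_center
    rw [MonoidHom.mem_ker, map_mul, map_inv, hce, inv_mul_cancel]

/-- The projection restricted to the commutator subgroup. -/
def CE.projC : commutator (CE p) →* G := (CE.proj p).comp (commutator (CE p)).subtype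

@[simp] theorem CE.projC_apply (x : commutator (CE p)) : CE.projC p x = CE.proj p (x : CE p) := rfl

theorem CE.projC_surjective (hG : Group.IsPerfect G) (hp : Function.Surjective p) :
    Function.Surjective (CE.projC p) := by
  intro g
  obtain ⟨e, rfl⟩ := CE.proj_surjective p hp g
  obtain ⟨c, hc, hce⟩ := CE.exists_commutator_rep p hG hp e
  exact ⟨⟨c, hc⟩, hce⟩

theorem CE.ker_projC_le_center : (CE.projC p).ker ≤ Subgroup.center (commutator (CE p)) := by
  intro x hx
  have hx' : (x : CE p) ∈ Subgroup.center (CE p) := by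
    apply CE.ker_proj_le_center
    rw [MonoidHom.mem_ker] at hx ⊢
    exact hx
  rw [Subgroup.mem_center_iff]
  intro y
  apply Subtype.ext
  exact Subgroup.mem_center_iff.mp hx' y

/-- For perfect `G`, the commutator subgroup of `F / [F, R]` is a stem extension of `G`. -/
theorem CE.isStemExtension_projC (hG : Group.IsPerfect G) (hp : Function.Surjective p) :
    Cfsg.IsStemExtension (CE.projC p) := by
  refine ⟨CE.projC_surjective p hG hp, CE.ker_projC_le_center p, ?_⟩
  rw [(CE.isPerfect_commutator p hG hp).commutator_eq_top]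
  exact le_top

/-- For perfect `G`, homomorphisms out of the commutator subgroup of `F / [F, R]` lifting a given map. -/
theorem CE.exists_liftC [IsFreeGroup F] {X : Type w} {Q : Type*} [Group X] [Group Q] (θ : G →* Q) (ξ : X →* Q)
    (hξ : Function.Surjective ξ) (hker : ξ.ker ≤ Subgroup.center X) :
    ∃ η : commutator (CE p) →* X, ξ.comp η = θ.comp (CE.projC p) := by
  obtain ⟨φ, hφ⟩ := CE.exists_lift p θ ξ hξ hker
  refine ⟨φ.comp (commutator (CE p)).subtype, ?_⟩
  rw [← MonoidHom.comp_assoc, hφ]; rfl

/-- The standard presentation of a group by the free group on its elements. -/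
def stdPres (G : Type u) [Group G] : FreeGroup G →* G := FreeGroup.lift id

theorem stdPres_surjective (G : Type u) [Group G] : Function.Surjective (stdPres G) :=
  fun g => ⟨FreeGroup.of g, by simp [stdPres]⟩

end CE

end Cfsg.Agent.Lib.Helper70
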