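import Mathlib
import Cfsg.Prelude.Def_KGroupFacts

set_option autoImplicit false
open scoped commutatorElement

namespace Cfsg.Agent.Lib.Helper70

universe u v w

/-! ### Central extensions from biadditive maps -/

/-- A biadditive map `G × G → A` on a group `G` with values in an additive commutative group. -/
structure BiAdd (G : Type u) (A : Type v) [Group G] [AddCommGroup A] where
  toFun : G → G → A
  map_mul_left : ∀ g g' h, toFun (g * g') h = toFun g h + toFun g' h
  map_mul_right : ∀ g h h', toFun g (h * h') = toFun g h + toFun g h'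

namespace BiAdd

variable {G : Type u} {A : Type v} [Group G] [AddCommGroup A] (β : BiAdd G A)

theorem map_one_left (h : G) : β.toFun 1 h = 0 := by
  have := β.map_mul_left 1 1 h
  rw [mul_one] at this
  exact left_eq_add.mp this |>.symm ▸ rfl

theorem map_one_right (g : G) : β.toFun g 1 = 0 := by
  have := β.map_mul_right g 1 1
  rw [mul_one] at this
  exact left_eq_add.mp this |>.symm ▸ rfl

theorem map_inv_left (g h : G) : β.toFun g⁻¹ h = - β.toFun g h := by
  have := β.map_mul_left g g⁻¹ h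
  rw [mul_inv_cancel, map_one_left] at this
  exact eq_neg_of_add_eq_zero_right this.symm

theorem map_inv_right (g h : G) : β.toFun g h⁻¹ = - β.toFun g h := by
  have := β.map_mul_right g h h⁻¹
  rw [mul_inv_cancel, map_one_right] at this
  exact eq_neg_of_add_eq_zero_right this.symm

end BiAdd

/-- The central extension of `G` by `A` defined by the biadditive map `β`. -/
structure BExt {G : Type u} {A : Type v} [Group G] [AddCommGroup A] (β : BiAdd G A) where
  z : A
  g : G

namespace BExt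

variable {G : Type u} {A : Type v} [Group G] [AddCommGroup A] {β : BiAdd G A}

@[ext] theorem ext' {x y : BExt β} (hz : x.z = y.z) (hg : x.g = y.g) : x = y := by
  cases x; cases y; simp_all

instance instMul : Mul (BExt β) := ⟨fun x y => ⟨x.z + y.z + β.toFun x.g y.g, x.g * y.g⟩⟩
instance instOne : One (BExt β) := ⟨⟨0, 1⟩⟩
instance instInv : Inv (BExt β) := ⟨fun x => ⟨-x.z + β.toFun x.g x.g, x.g⁻¹⟩⟩

@[simp] theorem mul_z (x y : BExt β) : (x * y).z = x.z + y.z + β.toFun x.g y.g := rfl
@[simp] theorem mul_g (x y : BExt β) : (x * y).g = x.g * y.g := rfl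
@[simp] theorem one_z : (1 : BExt β).z = 0 := rfl
@[simp] theorem one_g : (1 : BExt β).g = 1 := rfl
@[simp] theorem inv_z (x : BExt β) : (x⁻¹).z = -x.z + β.toFun x.g x.g := rfl
@[simp] theorem inv_g (x : BExt β) : (x⁻¹).g = x.g⁻¹ := rfl

instance instGroup : Group (BExt β) :=
  Group.ofLeftAxioms
    (by
      intro x y z
      apply ext'
      · simp only [mul_z, mul_g, β.map_mul_left, β.map_mul_right]; abel
      · simp only [mul_g, mul_assoc])
    (by
      intro x
      apply ext'
      · simp [β.map_one_left]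
      · simp)
    (by
      intro x
      apply ext'
      · simp [β.map_inv_left]
      · simp)

/-- The projection to `G`. -/
def proj (β : BiAdd G A) : BExt β →* G where
  toFun x := x.g
  map_one' := rfl
  map_mul' _ _ := rfl

@[simp] theorem proj_apply (x : BExt β) : proj β x = x.g := rfl

theorem proj_surjective : Function.Surjective (proj β) := fun g => ⟨⟨0, g⟩, rfl⟩

theorem mem_ker_proj (x : BExt β) : x ∈ (proj β).ker ↔ x.g = 1 := Iff.rfl

/-- The kernel of the projection is `A`. -/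
def kerEquiv (β : BiAdd G A) : (proj β).ker ≃* Multiplicative A where
  toFun x := Multiplicative.ofAdd x.1.z
  invFun a := ⟨⟨Multiplicative.toAdd a, 1⟩, rfl⟩
  left_inv := by
    rintro ⟨x, hx⟩
    apply Subtype.ext
    apply ext'
    · rfl
    · exact ((mem_ker_proj x).mp hx).symm
  right_inv _ := rfl
  map_mul' := by
    rintro ⟨x, hx⟩ ⟨y, hy⟩
    show Multiplicative.ofAdd (x * y).z = Multiplicative.ofAdd x.z * Multiplicative.ofAdd y.z
    rw [← ofAdd_add, mul_z, (mem_ker_proj x).mp hx, β.map_one_left, add_zero]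

theorem ker_proj_le_center : (proj β).ker ≤ Subgroup.center (BExt β) := by
  intro x hx
  rw [mem_ker_proj] at hx
  rw [Subgroup.mem_center_iff]
  intro y
  apply ext'
  · simp [hx, β.map_one_left, β.map_one_right, add_comm]
  · simp [hx]

theorem commutator_z (x y : BExt β) (hcomm : x.g * y.g = y.g * x.g) :
    (⁅x, y⁆ : BExt β).z = β.toFun x.g y.g - β.toFun y.g x.g := by
  have h : ⁅x, y⁆ * (y * x) = x * y := by
    rw [commutatorElement_def]; group
  have hz := congrArg BExt.z h
  have hg : (⁅x, y⁆ : BExt β).g = 1 := by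
    have := congrArg BExt.g h
    simp only [mul_g] at this
    rw [hcomm] at this
    exact mul_eq_right.mp this
  simp only [mul_z, mul_g, hg, β.map_one_left] at hz
  have : (⁅x, y⁆ : BExt β).z = (x.z + y.z + β.toFun x.g y.g) - (y.z + x.z + β.toFun y.g x.g) := by
    rw [← hz]; abel
  rw [this]; abel

/-- If `G` is commutative and the values `β g h - β h g` generate `A`, the projection is a stem extension. -/
theorem isStemExtension_proj {G : Type u} {A : Type v} [CommGroup G] [AddCommGroup A] (β : BiAdd G A)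
    (hgen : AddSubgroup.closure {a : A | ∃ g h : G, a = β.toFun g h - β.toFun h g} = ⊤) :
    Cfsg.IsStemExtension (proj β) := by
  refine ⟨proj_surjective, ker_proj_le_center, ?_⟩
  -- the set of `a` with `(a, 1)` in the commutator subgroup is an additive subgroup
  let S : AddSubgroup A :=
    { carrier := {a | (⟨a, 1⟩ : BExt β) ∈ commutator (BExt β)}
      zero_mem' := (commutator (BExt β)).one_mem
      add_mem' := by
        intro a b ha hb
        have := (commutator (BExt β)).mul_mem ha hb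
        have h2 : (⟨a, 1⟩ : BExt β) * ⟨b, 1⟩ = ⟨a + b, 1⟩ := by
          apply ext' <;> simp [β.map_one_left]
        rw [h2] at this
        exact this
      neg_mem' := by
        intro a ha
        have := (commutator (BExt β)).inv_mem ha
        have h2 : (⟨a, 1⟩ : BExt β)⁻¹ = ⟨-a, 1⟩ := by
          apply ext' <;> simp [β.map_one_left]
        rw [h2] at this
        exact this }
  have hS : S = ⊤ := by
    rw [eq_top_iff, ← hgen, AddSubgroup.closure_le]
    rintro a ⟨g, h, rfl⟩
    show (⟨β.toFun g h - β.toFun h g, 1⟩ : BExt β) ∈ commutator (BExt β)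
    have hc : (⁅(⟨0, g⟩ : BExt β), ⟨0, h⟩⁆ : BExt β) = ⟨β.toFun g h - β.toFun h g, 1⟩ := by
      apply ext'
      · rw [commutator_z _ _ (mul_comm _ _)]
      · simp [commutatorElement_def]
    rw [← hc]
    exact Subgroup.commutator_mem_commutator (Subgroup.mem_top _) (Subgroup.mem_top _)
  intro x hx
  rw [mem_ker_proj] at hx
  have : x.z ∈ S := by rw [hS]; trivial
  have hx' : x = ⟨x.z, 1⟩ := by
    apply ext'
    · rfl
    · exact hx
  rw [hx']
  exact this

/-- `BExt β` is in bijection with `A × G`. -/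
def equivProd (β : BiAdd G A) : BExt β ≃ A × G where
  toFun x := (x.z, x.g)
  invFun p := ⟨p.1, p.2⟩
  left_inv _ := rfl
  right_inv _ := rfl

instance instFinite [Finite G] [Finite A] : Finite (BExt β) := Finite.of_equiv _ (equivProd β).symm

end BExt

/-! ### Cyclic kernels -/

/-- A subgroup of a cyclic group generated by `d` with `d ^ n = 1` is a homomorphic image of `ZMod n`. -/
theorem surj_of_le_zpowers {Γ : Type u} [Group Γ] (K : Subgroup Γ) (d : Γ) (n : ℕ)
    (hK : K ≤ Subgroup.zpowers d) (hd : d ^ n = 1) :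
    ∃ π : Multiplicative (ZMod n) →* K, Function.Surjective π := by
  have hcyc : IsCyclic K := by
    have e : K.subgroupOf (Subgroup.zpowers d) ≃* K := Subgroup.subgroupOfEquivOfLe hK
    exact isCyclic_of_surjective e e.surjective
  obtain ⟨w, hw⟩ := hcyc.exists_generator
  have hwn : w ^ n = 1 := by
    obtain ⟨j, hj⟩ := Subgroup.mem_zpowers_iff.mp (hK w.2)
    apply Subtype.ext
    show (w : Γ) ^ n = 1
    rw [← hj, ← zpow_natCast, ← zpow_mul, mul_comm, zpow_mul, zpow_natCast, hd, one_zpow]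
  let f : ℤ →+ Additive K := zmultiplesHom (Additive K) (Additive.ofMul w)
  have hf : f n = 0 := by
    show (n : ℤ) • Additive.ofMul w = 0
    rw [natCast_zsmul, ← ofMul_pow, hwn]; rfl
  refine ⟨AddMonoidHom.toMultiplicativeLeft (ZMod.lift n ⟨f, hf⟩), ?_⟩
  intro x
  obtain ⟨j, hj⟩ := Subgroup.mem_zpowers_iff.mp (hw x)
  refine ⟨Multiplicative.ofAdd (j : ZMod n), ?_⟩
  show (ZMod.lift n ⟨f, hf⟩ (j : ZMod n)).toMul = x
  rw [ZMod.lift_coe]
  show (j • Additive.ofMul w).toMul = x
  rw [← ofMul_zpow, hj]; rfl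

/-- If the kernel of `σ` lies in the cyclic group generated by `c`, `c ^ n = 1`, `σ c` has order `m` and
`n = m * q`, then the kernel is a homomorphic image of `ZMod q`. -/
theorem surj_ker_of_le_zpowers {Γ : Type u} {Q : Type v} [Group Γ] [Group Q] (σ : Γ →* Q) (c : Γ) (n m q : ℕ)
    (hK : σ.ker ≤ Subgroup.zpowers c) (hc : c ^ n = 1) (hm : orderOf (σ c) = m) (hq : n = m * q) :
    ∃ π : Multiplicative (ZMod q) →* σ.ker, Function.Surjective π := by
  apply surj_of_le_zpowers σ.ker (c ^ m) q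
  · intro k hk
    obtain ⟨j, rfl⟩ := Subgroup.mem_zpowers_iff.mp (hK hk)
    rw [MonoidHom.mem_ker, map_zpow] at hk
    have hdvd : (m : ℤ) ∣ j := by
      rw [← hm]; exact orderOf_dvd_iff_zpow_eq_one.mpr hk
    obtain ⟨t, rfl⟩ := hdvd
    rw [Subgroup.mem_zpowers_iff]
    exact ⟨t, by rw [zpow_mul, zpow_natCast]⟩
  · rw [← pow_mul, ← hq, hc]

/-- If the kernel of `σ` lies in the cyclic group generated by `c`, `c ^ n = 1` and `σ c` has order `n`,
then `σ` is injective. -/
theorem ker_eq_bot_of_le_zpowers {Γ : Type u} {Q : Type v} [Group Γ] [Group Q] (σ : Γ →* Q) (c : Γ) (n : ℕ)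
    (hK : σ.ker ≤ Subgroup.zpowers c) (hc : c ^ n = 1) (hm : orderOf (σ c) = n) : σ.ker = ⊥ := by
  rw [eq_bot_iff]
  intro k hk
  obtain ⟨j, rfl⟩ := Subgroup.mem_zpowers_iff.mp (hK hk)
  rw [MonoidHom.mem_ker, map_zpow] at hk
  have hdvd : (n : ℤ) ∣ j := by
    rw [← hm]; exact orderOf_dvd_iff_zpow_eq_one.mpr hk
  obtain ⟨t, rfl⟩ := hdvd
  rw [Subgroup.mem_bot, zpow_mul, zpow_natCast, hc, one_zpow]

/-! ### Commutator subgroups of groups generated by two elements modulo the centre -/

theorem comm_of_closure_eq_top {G : Type u} [Group G] (S : Set G) (hS : Subgroup.closure S = ⊤)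
    (hcomm : ∀ a ∈ S, ∀ b ∈ S, a * b = b * a) (a b : G) : a * b = b * a := by
  have h1 : Subgroup.closure S ≤ Subgroup.centralizer S := by
    rw [Subgroup.closure_le]
    intro x hx
    rw [SetLike.mem_coe, Subgroup.mem_centralizer_iff]
    intro y hy
    exact hcomm y hy x hx
  have hb : b ∈ Subgroup.centralizer (Subgroup.closure S : Set G) := by
    rw [Subgroup.centralizer_closure]
    apply h1
    rw [hS]; trivial
  rw [Subgroup.mem_centralizer_iff] at hb
  exact hb a (by rw [hS]; trivial)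

theorem closure_union_ker_eq_top {Γ : Type u} {Q : Type v} [Group Γ] [Group Q] (σ : Γ →* Q) (x y : Γ)
    (hgen : Subgroup.closure {σ x, σ y} = ⊤) :
    Subgroup.closure (({x, y} : Set Γ) ∪ (σ.ker : Set Γ)) = ⊤ := by
  rw [eq_top_iff]
  intro g _
  have hg : σ g ∈ Subgroup.map σ (Subgroup.closure {x, y}) := by
    rw [MonoidHom.map_closure]
    have : σ '' {x, y} = {σ x, σ y} := by
      rw [Set.image_pair]
    rw [this, hgen]; trivial
  obtain ⟨h, hh, hσ⟩ := hg
  have hk : h⁻¹ * g ∈ σ.ker := by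
    rw [MonoidHom.mem_ker, map_mul, map_inv, hσ, inv_mul_cancel]
  have : g = h * (h⁻¹ * g) := by group
  rw [this]
  apply Subgroup.mul_mem
  · exact Subgroup.closure_mono Set.subset_union_left hh
  · exact Subgroup.subset_closure (Set.mem_union_right _ hk)

/-- If `Γ` is generated by `x`, `y` and a central subgroup `K`, then the commutator subgroup lies in every
normal subgroup containing `⁅x, y⁆`. -/
theorem commutator_le_of_gen {Γ : Type u} [Group Γ] (K : Subgroup Γ) (hK : K ≤ Subgroup.center Γ) (x y : Γ)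
    (hgen : Subgroup.closure (({x, y} : Set Γ) ∪ (K : Set Γ)) = ⊤) (N : Subgroup Γ) [N.Normal]
    (hc : ⁅x, y⁆ ∈ N) : commutator Γ ≤ N := by
  have hxy : (QuotientGroup.mk' N x) * (QuotientGroup.mk' N y) = (QuotientGroup.mk' N y) * (QuotientGroup.mk' N x) := by
    rw [← map_mul, ← map_mul]
    apply (QuotientGroup.eq (s := N)).mpr
    have : (x * y)⁻¹ * (y * x) = (y * x)⁻¹ * ⁅x, y⁆⁻¹ * (y * x) := by
      rw [commutatorElement_def]; group
    rw [this]
    have h1 := ‹N.Normal›.conj_mem _ (N.inv_mem hc) (y * x)⁻¹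
    simpa using h1
  have hcen : ∀ k ∈ K, ∀ q : Γ ⧸ N, QuotientGroup.mk' N k * q = q * QuotientGroup.mk' N k := by
    intro k hk q
    obtain ⟨g, rfl⟩ := QuotientGroup.mk'_surjective N q
    rw [← map_mul, ← map_mul, Subgroup.mem_center_iff.mp (hK hk) g]
  have hall : ∀ a b : Γ ⧸ N, a * b = b * a := by
    apply comm_of_closure_eq_top ((QuotientGroup.mk' N) '' (({x, y} : Set Γ) ∪ (K : Set Γ)))
    · rw [← MonoidHom.map_closure, hgen, ← MonoidHom.range_eq_map,
        MonoidHom.range_eq_top.mpr (QuotientGroup.mk'_surjective N)]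
    · rintro _ ⟨a, ha, rfl⟩ _ ⟨b, hb, rfl⟩
      rcases ha with ha | ha
      · rcases hb with hb | hb
        · rcases ha with rfl | rfl <;> rcases hb with rfl | rfl
          · rfl
          · exact hxy
          · exact hxy.symm
          · rfl
        · exact (hcen b hb _).symm
      · exact hcen a ha _
  rw [commutator_eq_closure, Subgroup.closure_le]
  rintro _ ⟨p, q, rfl⟩
  rw [SetLike.mem_coe, ← QuotientGroup.eq_one_iff, commutatorElement_def]
  have := hall (p : Γ ⧸ N) (q : Γ ⧸ N)
  rw [QuotientGroup.mk_mul, QuotientGroup.mk_mul, QuotientGroup.mk_mul, QuotientGroup.mk_inv, QuotientGroup.mk_inv, this]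
  group

theorem mem_normalizer_zpowers {Γ : Type u} [Group Γ] (g c : Γ)
    (h1 : g * c * g⁻¹ ∈ Subgroup.zpowers c) (h2 : g⁻¹ * c * g ∈ Subgroup.zpowers c) :
    g ∈ Subgroup.normalizer (Subgroup.zpowers c : Set Γ) := by
  rw [Subgroup.mem_normalizer_iff]
  intro h
  constructor
  · intro hh
    obtain ⟨j, rfl⟩ := Subgroup.mem_zpowers_iff.mp hh
    rw [← conj_zpow]
    exact Subgroup.zpow_mem _ h1 j
  · intro hh
    obtain ⟨j, hj⟩ := Subgroup.mem_zpowers_iff.mp hh
    have : h = (g⁻¹ * c * g) ^ j := by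
      have h3 : (g⁻¹ * c * g) ^ j = g⁻¹ * c ^ j * g := by
        have := conj_zpow (a := g⁻¹) (b := c) (i := j)
        rw [inv_inv] at this
        exact this
      rw [h3, hj]; group
    rw [this]
    exact Subgroup.zpow_mem _ h2 j

/-- Dihedral-type groups modulo the centre: the commutator subgroup is cyclic, generated by `⁅ρ, ξ⁆`. -/
theorem commutator_le_zpowers_of_dihedral_type {Γ : Type u} [Group Γ] (K : Subgroup Γ)
    (hK : K ≤ Subgroup.center Γ) (ρ ξ : Γ)
    (hgen : Subgroup.closure (({ρ, ξ} : Set Γ) ∪ (K : Set Γ)) = ⊤)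
    (h2 : ξ * ρ * ξ⁻¹ * ρ ∈ K) (h3 : Commute (ξ * ξ) ρ) :
    commutator Γ ≤ Subgroup.zpowers ⁅ρ, ξ⁆ := by
  set u := ξ * ρ * ξ⁻¹ with hu
  have hcu : Commute ρ u := by
    have hk := Subgroup.mem_center_iff.mp (hK h2) ρ
    show ρ * u = u * ρ
    have : ρ * u = ρ * (u * ρ) * ρ⁻¹ := by group
    rw [this, hk]; group
  set c := ⁅ρ, ξ⁆ with hc
  have hcdef : c = ρ * u⁻¹ := by
    rw [hc, commutatorElement_def, hu]; group
  have hρc : Commute ρ c := by
    rw [hcdef]
    exact (Commute.refl ρ).mul_right hcu.inv_right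
  have hξc : ξ * c * ξ⁻¹ = c⁻¹ := by
    have h3' : ξ * ξ * ρ * ξ⁻¹ * ξ⁻¹ = ρ := by
      rw [h3.eq]; group
    have : ξ * c * ξ⁻¹ = u * (ξ * ξ * ρ * ξ⁻¹ * ξ⁻¹)⁻¹ := by
      rw [hcdef, hu]; group
    rw [this, h3', hcdef]; group
  have hξc' : ξ⁻¹ * c * ξ = c⁻¹ := by
    have : c = ξ⁻¹ * c⁻¹ * ξ := by
      rw [← hξc]; group
    calc ξ⁻¹ * c * ξ = (ξ⁻¹ * c⁻¹ * ξ)⁻¹ := by group
      _ = c⁻¹ := by rw [← this]
  have hnorm : (Subgroup.zpowers c).Normal := by
    rw [← Subgroup.normalizer_eq_top_iff, eq_top_iff, ← hgen, Subgroup.closure_le]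
    intro g hg
    rw [SetLike.mem_coe]
    rcases hg with hg | hg
    · rcases hg with rfl | rfl
      · apply mem_normalizer_zpowers
        · have : g * c * g⁻¹ = c := by rw [hρc.eq]; group
          rw [this]; exact Subgroup.mem_zpowers c
        · have : g⁻¹ * c * g = c := by rw [mul_assoc, ← hρc.eq]; group
          rw [this]; exact Subgroup.mem_zpowers c
      · apply mem_normalizer_zpowers
        · rw [hξc]; exact Subgroup.inv_mem _ (Subgroup.mem_zpowers c)
        · rw [hξc']; exact Subgroup.inv_mem _ (Subgroup.mem_zpowers c)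
    · have hk := Subgroup.mem_center_iff.mp (hK hg) c
      apply mem_normalizer_zpowers
      · have : g * c * g⁻¹ = c := by rw [← hk]; group
        rw [this]; exact Subgroup.mem_zpowers c
      · have : g⁻¹ * c * g = c := by rw [mul_assoc, hk]; group
        rw [this]; exact Subgroup.mem_zpowers c
  exact commutator_le_of_gen K hK ρ ξ hgen (Subgroup.zpowers c) (Subgroup.mem_zpowers c)

theorem dihedral_type_pow_eq_one {Γ : Type u} [Group Γ] (K : Subgroup Γ)
    (hK : K ≤ Subgroup.center Γ) (ρ ξ : Γ) (h2 : ξ * ρ * ξ⁻¹ * ρ ∈ K) (n : ℕ)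
    (hn : Commute ξ (ρ ^ n)) : ⁅ρ, ξ⁆ ^ n = 1 := by
  set u := ξ * ρ * ξ⁻¹ with hu
  have hcu : Commute ρ u := by
    have hk := Subgroup.mem_center_iff.mp (hK h2) ρ
    show ρ * u = u * ρ
    have : ρ * u = ρ * (u * ρ) * ρ⁻¹ := by group
    rw [this, hk]; group
  have hcdef : ⁅ρ, ξ⁆ = ρ * u⁻¹ := by
    rw [commutatorElement_def, hu]; group
  have hun : u ^ n = ρ ^ n := by
    rw [hu, conj_pow, hn.eq]; group
  rw [hcdef, hcu.inv_right.mul_pow, inv_pow, hun, mul_inv_cancel]

/-! ### Trivial multipliers -/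

theorem hasCyclicSchurMultiplier_one_iff {G : Type u} [Group G] [Finite G] :
    Cfsg.HasCyclicSchurMultiplier G 1 ↔
      ∀ (Γ : Type u) [Group Γ] [Finite Γ] (σ : Γ →* G), Cfsg.IsStemExtension σ → σ.ker = ⊥ := by
  constructor
  · rintro ⟨-, h⟩ Γ _ _ σ hσ
    obtain ⟨π, hπ⟩ := h Γ σ hσ
    rw [eq_bot_iff]
    intro x hx
    obtain ⟨a, ha⟩ := hπ ⟨x, hx⟩
    have h1 : a = 1 := Subsingleton.elim _ _
    rw [h1, map_one] at ha
    rw [Subgroup.mem_bot]
    exact (congrArg Subtype.val ha).symm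
  · intro h
    refine ⟨⟨G, inferInstance, inferInstance, MonoidHom.id G, ⟨Function.surjective_id, ?_, ?_⟩, ?_⟩, ?_⟩
    · rw [MonoidHom.ker_id]; exact bot_le
    · rw [MonoidHom.ker_id]; exact bot_le
    · rw [MonoidHom.ker_id]
      exact ⟨MulEquiv.ofUnique⟩
    · intro Γ _ _ σ hσ
      refine ⟨1, ?_⟩
      intro x
      refine ⟨1, ?_⟩
      apply Subtype.ext
      have h1 : (x : Γ) ∈ (⊥ : Subgroup Γ) := (h Γ σ hσ) ▸ x.2
      rw [Subgroup.mem_bot] at h1
      rw [h1]; rfl

/-! ### Further tools -/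

/-- If `⁅x, y⁆` is central and `x` commutes with `y ^ n`, then `⁅x, y⁆ ^ n = 1`. -/
theorem central_commutator_pow_eq_one {Γ : Type u} [Group Γ] (x y : Γ)
    (hc : ⁅x, y⁆ ∈ Subgroup.center Γ) (n : ℕ) (hy : Commute x (y ^ n)) : ⁅x, y⁆ ^ n = 1 := by
  have hcy : Commute ⁅x, y⁆ y := (Subgroup.mem_center_iff.mp hc y).symm
  have h1 : x * y * x⁻¹ = ⁅x, y⁆ * y := by
    rw [commutatorElement_def]; group
  have h2 : (x * y * x⁻¹) ^ n = y ^ n := by
    rw [conj_pow, hy.eq]; group
  rw [h1, hcy.mul_pow] at h2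
  exact mul_eq_right.mp h2

theorem normal_of_le_center {Γ : Type u} [Group Γ] (N : Subgroup Γ) (hN : N ≤ Subgroup.center Γ) : N.Normal := by
  constructor
  intro k hk g
  have := Subgroup.mem_center_iff.mp (hN hk) g
  have h2 : g * k * g⁻¹ = k := by rw [this]; group
  rw [h2]; exact hk

/-- A biadditive map to `ZMod k` with some value `β g h - β h g = 1` gives a stem extension. -/
theorem BExt.isStemExtension_proj_zmod {G : Type u} [CommGroup G] (k : ℕ) (β : BiAdd G (ZMod k)) (g h : G)
    (hgh : β.toFun g h - β.toFun h g = 1) : Cfsg.IsStemExtension (BExt.proj β) := by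
  apply BExt.isStemExtension_proj
  rw [eq_top_iff]
  intro x _
  have hx : x = (ZMod.cast x : ℤ) • (1 : ZMod k) := by
    rw [zsmul_one, ZMod.intCast_cast, ZMod.cast_id', id]
  rw [hx]
  apply AddSubgroup.zsmul_mem
  apply AddSubgroup.subset_closure
  exact ⟨g, h, hgh.symm⟩

end Cfsg.Agent.Lib.Helper70
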