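import Mathlib
import Cfsg.Prelude.Def_KGroupFacts
import Cfsg.Agent.Lib.Helper70.StemTools
import Cfsg.Agent.Lib.Helper70.SchurCE

set_option autoImplicit false
open scoped commutatorElement

namespace Cfsg.Agent.Lib.Helper70

universe u v w

/-! ### Complements -/

/-- A homomorphism of commutative groups into a free abelian group of finite rank has a section over its range. -/
theorem exists_section_range {K : Type u} {A : Type v} [CommGroup K] [CommGroup A]
    [Module.Free ℤ (Additive A)] [Module.Finite ℤ (Additive A)] (f : K →* A) :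
    ∃ h : f.range →* K, ∀ l : f.range, f (h l) = l := by
  let g : Additive K →ₗ[ℤ] Additive A := (MonoidHom.toAdditive f).toIntLinearMap
  let L : Submodule ℤ (Additive A) := LinearMap.range g
  have hfree : Module.Free ℤ L := inferInstance
  obtain ⟨h, hh⟩ := Module.projective_lifting_property g.rangeRestrict LinearMap.id g.surjective_rangeRestrict
  have hh' : ∀ l : L, g (h l) = l := fun l => congrArg Subtype.val (LinearMap.congr_fun hh l)
  have hmem : ∀ l : f.range, Additive.ofMul (l : A) ∈ L := by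
    rintro ⟨_, ⟨k, rfl⟩⟩
    exact ⟨Additive.ofMul k, rfl⟩
  refine ⟨MonoidHom.mk' (fun l => (h ⟨Additive.ofMul (l : A), hmem l⟩).toMul) ?_, ?_⟩
  · intro a b
    have : (⟨Additive.ofMul ((a * b : f.range) : A), hmem (a * b)⟩ : L) =
        ⟨Additive.ofMul (a : A), hmem a⟩ + ⟨Additive.ofMul (b : A), hmem b⟩ := rfl
    rw [this, map_add]
    rfl
  · intro l
    have := hh' ⟨Additive.ofMul (l : A), hmem l⟩
    exact congrArg Additive.toMul this

/-- A central subgroup `W` has a subgroup `S` meeting the kernel of `α` trivially with `W = S · (W ∩ ker α)`,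
when `α` maps to a free abelian group of finite rank. -/
theorem exists_complement {E : Type u} {A : Type v} [Group E] [CommGroup A]
    [Module.Free ℤ (Additive A)] [Module.Finite ℤ (Additive A)] (α : E →* A) (W : Subgroup E)
    (hW : W ≤ Subgroup.center E) :
    ∃ S : Subgroup E, S ≤ W ∧ S ⊓ α.ker = ⊥ ∧ ∀ w ∈ W, ∃ s ∈ S, s⁻¹ * w ∈ α.ker := by
  letI : CommGroup W :=
    { (inferInstance : Group W) with
      mul_comm := fun a b => Subtype.ext (Subgroup.mem_center_iff.mp (hW b.2) a) }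
  obtain ⟨h, hh⟩ := exists_section_range (α.comp W.subtype)
  refine ⟨(W.subtype.comp h).range, ?_, ?_, ?_⟩
  · rintro _ ⟨l, rfl⟩
    exact (h l).2
  · rw [eq_bot_iff]
    rintro x ⟨⟨l, rfl⟩, hx⟩
    have h1 : (α.comp W.subtype) (h l) = 1 := hx
    rw [hh] at h1
    have h2 : l = 1 := Subtype.ext h1
    rw [h2, map_one, Subgroup.mem_bot]
  · intro w hw
    refine ⟨(W.subtype.comp h) ⟨α w, ⟨⟨w, hw⟩, rfl⟩⟩, ⟨_, rfl⟩, ?_⟩
    rw [MonoidHom.mem_ker, map_mul, map_inv]
    have := hh ⟨α w, ⟨⟨w, hw⟩, rfl⟩⟩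
    have h3 : α ((W.subtype.comp h) ⟨α w, ⟨⟨w, hw⟩, rfl⟩⟩) = α w := this
    rw [h3, inv_mul_cancel]

/-! ### The multiplier inside `F / [F, R]` -/

section Mult

variable {F : Type u} {G : Type v} [Group F] [Group G] (p : F →* G)

theorem FR_le_commutator : FR p ≤ commutator F :=
  Subgroup.commutator_mono le_top le_top

/-- The map `F / [F, R] → F / F'`. -/
def CE.abMap : CE p →* Abelianization F :=
  QuotientGroup.lift (FR p) Abelianization.of (by rw [Abelianization.ker_of]; exact FR_le_commutator p)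

@[simp] theorem CE.abMap_mk (f : F) : CE.abMap p (CE.mk p f) = Abelianization.of f := rfl

theorem CE.map_mk_commutator : Subgroup.map (CE.mk p) (commutator F) = commutator (CE p) := by
  rw [commutator_def, commutator_def, Subgroup.map_commutator, ← MonoidHom.range_eq_map,
    MonoidHom.range_eq_top.mpr (QuotientGroup.mk'_surjective (FR p))]

theorem CE.ker_abMap : (CE.abMap p).ker = commutator (CE p) := by
  ext x
  obtain ⟨f, rfl⟩ := QuotientGroup.mk'_surjective (FR p) x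
  rw [MonoidHom.mem_ker]
  show Abelianization.of f = 1 ↔ _
  rw [← MonoidHom.mem_ker, Abelianization.ker_of, ← CE.map_mk_commutator]
  constructor
  · intro hf
    exact Subgroup.mem_map_of_mem _ hf
  · rintro ⟨c, hc, hcf⟩
    have h1 : c⁻¹ * f ∈ FR p := (QuotientGroup.eq (s := FR p)).mp hcf
    have h2 : f = c * (c⁻¹ * f) := by group
    rw [h2]
    exact Subgroup.mul_mem _ hc (FR_le_commutator p h1)

/-- The Schur multiplier `(R ∩ F') / [F, R]` as a subgroup of `F / [F, R]`. -/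
def CE.mult : Subgroup (CE p) := (CE.proj p).ker ⊓ commutator (CE p)

theorem CE.mult_le_ker : CE.mult p ≤ (CE.proj p).ker := inf_le_left

theorem CE.mult_le_commutator : CE.mult p ≤ commutator (CE p) := inf_le_right

theorem CE.mult_le_center : CE.mult p ≤ Subgroup.center (CE p) :=
  (CE.mult_le_ker p).trans (CE.ker_proj_le_center p)

instance CE.multCommGroup : CommGroup (CE.mult p) :=
  { (inferInstance : Group (CE.mult p)) with
    mul_comm := fun a b => Subtype.ext (Subgroup.mem_center_iff.mp (CE.mult_le_center p b.2) a) }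

theorem CE.finite_mult [Finite G] (hp : Function.Surjective p) : Finite (CE.mult p) := by
  have := CE.finite_commutator p hp
  exact Finite.of_injective (Subgroup.inclusion (CE.mult_le_commutator p))
    (Subgroup.inclusion_injective _)

/-- The lift to a central extension maps the multiplier onto `ker τ ∩ Δ'`. -/
theorem CE.exists_lift_mult [IsFreeGroup F] (hp : Function.Surjective p) {Δ : Type w} [Group Δ] (τ : Δ →* G)
    (hτ : Function.Surjective τ) (hker : τ.ker ≤ Subgroup.center Δ) :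
    ∃ φ : CE p →* Δ, τ.comp φ = CE.proj p ∧ (∀ m ∈ CE.mult p, φ m ∈ τ.ker ⊓ commutator Δ) ∧
      ∀ d ∈ τ.ker ⊓ commutator Δ, ∃ m ∈ CE.mult p, φ m = d := by
  obtain ⟨φ, hφ⟩ := CE.exists_lift p (MonoidHom.id G) τ hτ hker
  have hφ' : ∀ e, τ (φ e) = CE.proj p e := fun e => DFunLike.congr_fun hφ e
  refine ⟨φ, hφ, ?_, ?_⟩
  · rintro m ⟨hm1, hm2⟩
    refine ⟨?_, ?_⟩
    · exact MonoidHom.mem_ker.mpr ((hφ' m).trans (MonoidHom.mem_ker.mp hm1))
    · have : Subgroup.map φ (commutator (CE p)) ≤ commutator Δ := by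
        rw [commutator_def, commutator_def, Subgroup.map_commutator]
        exact Subgroup.commutator_mono le_top le_top
      exact this (Subgroup.mem_map_of_mem _ hm2)
  · rintro d ⟨hd1, hd2⟩
    have h1 : commutator Δ ≤ ⁅φ.range, φ.range⁆ := by
      apply commutator_le_of_central_supplement
      intro x
      obtain ⟨e, he⟩ := CE.proj_surjective p hp (τ x)
      refine ⟨φ e, ⟨e, rfl⟩, (φ e)⁻¹ * x, ?_, by group⟩
      apply hker
      rw [MonoidHom.mem_ker, map_mul, map_inv, hφ', he, inv_mul_cancel]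
    have h2 : ⁅φ.range, φ.range⁆ = Subgroup.map φ (commutator (CE p)) := by
      rw [commutator_def, Subgroup.map_commutator, ← MonoidHom.range_eq_map]
    rw [h2] at h1
    obtain ⟨c, hc, rfl⟩ := h1 hd2
    exact ⟨c, ⟨MonoidHom.mem_ker.mpr ((hφ' c).symm.trans (MonoidHom.mem_ker.mp hd1)), hc⟩, rfl⟩

/-- The kernel of any stem extension is a homomorphic image of the multiplier. -/
theorem CE.exists_surj_mult [IsFreeGroup F] (hp : Function.Surjective p) {Δ : Type w} [Group Δ] (τ : Δ →* G)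
    (hτ : Cfsg.IsStemExtension τ) : ∃ π : CE.mult p →* τ.ker, Function.Surjective π := by
  obtain ⟨hsurj, hcen, hcomm⟩ := hτ
  obtain ⟨φ, hφ, h1, h2⟩ := CE.exists_lift_mult p hp τ hsurj hcen
  refine ⟨(φ.comp (CE.mult p).subtype).codRestrict τ.ker (fun m => (h1 m m.2).1), ?_⟩
  rintro ⟨d, hd⟩
  obtain ⟨m, hm, rfl⟩ := h2 d ⟨hd, hcomm hd⟩
  exact ⟨⟨m, hm⟩, rfl⟩

/-! ### Covers `F / [F, R] S` -/

/-- The map `(F / [F, R]) / S → G`. -/
def CE.coverProj (S : Subgroup (CE p)) [S.Normal] (hS : S ≤ (CE.proj p).ker) : CE p ⧸ S →* G :=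
  QuotientGroup.lift S (CE.proj p) hS

theorem CE.coverProj_surjective (hp : Function.Surjective p) (S : Subgroup (CE p)) [S.Normal]
    (hS : S ≤ (CE.proj p).ker) : Function.Surjective (CE.coverProj p S hS) := by
  intro g
  obtain ⟨e, rfl⟩ := CE.proj_surjective p hp g
  exact ⟨QuotientGroup.mk' S e, rfl⟩

theorem CE.mem_ker_coverProj (S : Subgroup (CE p)) [S.Normal] (hS : S ≤ (CE.proj p).ker) (e : CE p) :
    QuotientGroup.mk' S e ∈ (CE.coverProj p S hS).ker ↔ e ∈ (CE.proj p).ker := Iff.rfl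

theorem CE.ker_coverProj_le_center (S : Subgroup (CE p)) [S.Normal] (hS : S ≤ (CE.proj p).ker) :
    (CE.coverProj p S hS).ker ≤ Subgroup.center (CE p ⧸ S) := by
  intro x hx
  obtain ⟨e, rfl⟩ := QuotientGroup.mk'_surjective S x
  rw [CE.mem_ker_coverProj] at hx
  have he := CE.ker_proj_le_center p hx
  rw [Subgroup.mem_center_iff]
  intro y
  obtain ⟨e', rfl⟩ := QuotientGroup.mk'_surjective S y
  rw [← map_mul, ← map_mul, Subgroup.mem_center_iff.mp he e']

/-- The restriction of the quotient map to the multiplier, with values in the kernel of the cover. -/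
def CE.multToKer (S : Subgroup (CE p)) [S.Normal] (hS : S ≤ (CE.proj p).ker) :
    CE.mult p →* (CE.coverProj p S hS).ker :=
  ((QuotientGroup.mk' S).comp (CE.mult p).subtype).codRestrict _
    (fun m => (CE.mem_ker_coverProj p S hS m).mpr (CE.mult_le_ker p m.2))

theorem CE.multToKer_bijective (S : Subgroup (CE p)) [S.Normal] (hS : S ≤ (CE.proj p).ker)
    (hdisj : S ⊓ commutator (CE p) = ⊥)
    (hsup : ∀ k ∈ (CE.proj p).ker, ∃ s ∈ S, s⁻¹ * k ∈ commutator (CE p)) :
    Function.Bijective (CE.multToKer p S hS) := by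
  constructor
  · rw [injective_iff_map_eq_one]
    intro m hm
    have h1 : QuotientGroup.mk' S (m : CE p) = 1 := congrArg Subtype.val hm
    have h2 : (m : CE p) ∈ S := (QuotientGroup.eq_one_iff _).mp h1
    have h3 : (m : CE p) ∈ S ⊓ commutator (CE p) := ⟨h2, CE.mult_le_commutator p m.2⟩
    rw [hdisj, Subgroup.mem_bot] at h3
    exact Subtype.ext h3
  · rintro ⟨x, hx⟩
    obtain ⟨e, rfl⟩ := QuotientGroup.mk'_surjective S x
    rw [CE.mem_ker_coverProj] at hx
    obtain ⟨s, hs, hsk⟩ := hsup e hx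
    refine ⟨⟨s⁻¹ * e, ⟨?_, hsk⟩⟩, ?_⟩
    · exact Subgroup.mul_mem _ (Subgroup.inv_mem _ (hS hs)) hx
    · apply Subtype.ext
      show QuotientGroup.mk' S (s⁻¹ * e) = QuotientGroup.mk' S e
      have hs1 : QuotientGroup.mk' S s = 1 := (QuotientGroup.eq_one_iff s).mpr hs
      rw [map_mul, map_inv, hs1, inv_one, one_mul]

theorem CE.isStemExtension_coverProj (hp : Function.Surjective p) (S : Subgroup (CE p)) [S.Normal]
    (hS : S ≤ (CE.proj p).ker)
    (hsup : ∀ k ∈ (CE.proj p).ker, ∃ s ∈ S, s⁻¹ * k ∈ commutator (CE p)) :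
    Cfsg.IsStemExtension (CE.coverProj p S hS) := by
  refine ⟨CE.coverProj_surjective p hp S hS, CE.ker_coverProj_le_center p S hS, ?_⟩
  intro x hx
  obtain ⟨e, rfl⟩ := QuotientGroup.mk'_surjective S x
  rw [CE.mem_ker_coverProj] at hx
  obtain ⟨s, hs, hsk⟩ := hsup e hx
  have hs1 : QuotientGroup.mk' S s = 1 := (QuotientGroup.eq_one_iff s).mpr hs
  have h1 : QuotientGroup.mk' S e = QuotientGroup.mk' S (s⁻¹ * e) := by
    rw [map_mul, map_inv, hs1, inv_one, one_mul]
  rw [h1]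
  have : Subgroup.map (QuotientGroup.mk' S) (commutator (CE p)) ≤ commutator (CE p ⧸ S) := by
    rw [commutator_def, commutator_def, Subgroup.map_commutator]
    exact Subgroup.commutator_mono le_top le_top
  exact this (Subgroup.mem_map_of_mem _ hsk)

theorem CE.finite_cover [Finite G] (hp : Function.Surjective p) (S : Subgroup (CE p)) [S.Normal]
    (hS : S ≤ (CE.proj p).ker) (hdisj : S ⊓ commutator (CE p) = ⊥)
    (hsup : ∀ k ∈ (CE.proj p).ker, ∃ s ∈ S, s⁻¹ * k ∈ commutator (CE p)) : Finite (CE p ⧸ S) := by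
  have hfm := CE.finite_mult p hp
  have h1 : Finite (CE.coverProj p S hS).ker :=
    Finite.of_surjective _ (CE.multToKer_bijective p S hS hdisj hsup).surjective
  have h2 : Finite ((CE p ⧸ S) ⧸ (CE.coverProj p S hS).ker) :=
    Finite.of_equiv _ (QuotientGroup.quotientKerEquivOfSurjective _
      (CE.coverProj_surjective p hp S hS)).symm.toEquiv
  exact Finite.of_subgroup_quotient (CE.coverProj p S hS).ker

end Mult

/-! ### Existence of Schur covers -/

instance freeGroupAbFree (X : Type u) : Module.Free ℤ (Additive (Abelianization (FreeGroup X))) :=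
  (inferInstance : Module.Free ℤ (FreeAbelianGroup X))

instance freeGroupAbFinite (X : Type u) [Finite X] : Module.Finite ℤ (Additive (Abelianization (FreeGroup X))) :=
  (inferInstance : Module.Finite ℤ (FreeAbelianGroup X))

section Cover

variable {F G : Type u} [Group F] [Group G] [IsFreeGroup F] [Finite G]
  [Module.Free ℤ (Additive (Abelianization F))] [Module.Finite ℤ (Additive (Abelianization F))]
  (p : F →* G)

omit [IsFreeGroup F] [Finite G] in
theorem CE.exists_cover_subgroup (W : Subgroup (CE p)) (hW : W ≤ (CE.proj p).ker)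
    (hWsup : ∀ k ∈ (CE.proj p).ker, ∃ w ∈ W, w⁻¹ * k ∈ commutator (CE p)) :
    ∃ S : Subgroup (CE p), S ≤ W ∧ S ⊓ commutator (CE p) = ⊥ ∧
      ∀ k ∈ (CE.proj p).ker, ∃ s ∈ S, s⁻¹ * k ∈ commutator (CE p) := by
  obtain ⟨S, hSW, hdisj, hsup⟩ := exists_complement (CE.abMap p) W (hW.trans (CE.ker_proj_le_center p))
  rw [CE.ker_abMap] at hdisj hsup
  refine ⟨S, hSW, hdisj, ?_⟩
  intro k hk
  obtain ⟨w, hw, hwk⟩ := hWsup k hk
  obtain ⟨s, hs, hsw⟩ := hsup w hw
  refine ⟨s, hs, ?_⟩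
  have : s⁻¹ * k = (s⁻¹ * w) * (w⁻¹ * k) := by group
  rw [this]
  exact Subgroup.mul_mem _ hsw hwk

/-- Every finite stem extension is a quotient of a Schur cover. -/
theorem CE.exists_schur_cover_over (hp : Function.Surjective p) {Δ : Type w} [Group Δ] (τ : Δ →* G)
    (hτ : Cfsg.IsStemExtension τ) :
    ∃ (Γ : Type u) (_ : Group Γ) (_ : Finite Γ) (σ : Γ →* G), Cfsg.IsStemExtension σ ∧
      Nonempty (σ.ker ≃* CE.mult p) ∧ ∃ β : Γ →* Δ, Function.Surjective β ∧ τ.comp β = σ := by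
  obtain ⟨hsurj, hcen, hcomm⟩ := hτ
  obtain ⟨φ, hφ, h1, h2⟩ := CE.exists_lift_mult p hp τ hsurj hcen
  have hφ' : ∀ e, τ (φ e) = CE.proj p e := fun e => DFunLike.congr_fun hφ e
  have hWsup : ∀ k ∈ (CE.proj p).ker, ∃ w ∈ (CE.proj p).ker ⊓ φ.ker, w⁻¹ * k ∈ commutator (CE p) := by
    intro k hk
    have hφk : φ k ∈ τ.ker := MonoidHom.mem_ker.mpr ((hφ' k).trans (MonoidHom.mem_ker.mp hk))
    obtain ⟨m, hm, hmk⟩ := h2 (φ k) ⟨hφk, hcomm hφk⟩
    refine ⟨k * m⁻¹, ⟨?_, ?_⟩, ?_⟩
    · exact Subgroup.mul_mem _ hk (Subgroup.inv_mem _ (CE.mult_le_ker p hm))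
    · show k * m⁻¹ ∈ φ.ker
      rw [MonoidHom.mem_ker, map_mul, map_inv, hmk, mul_inv_cancel]
    · have : (k * m⁻¹)⁻¹ * k = m := by group
      rw [this]
      exact CE.mult_le_commutator p hm
  obtain ⟨S, hSW, hdisj, hsup⟩ := CE.exists_cover_subgroup p _ inf_le_left hWsup
  have hS : S ≤ (CE.proj p).ker := hSW.trans inf_le_left
  haveI : S.Normal := normal_of_le_center S (hS.trans (CE.ker_proj_le_center p))
  have hφsurj : Function.Surjective φ := by
    intro d
    obtain ⟨e, he⟩ := CE.proj_surjective p hp (τ d)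
    have hd : (φ e)⁻¹ * d ∈ τ.ker := by
      rw [MonoidHom.mem_ker, map_mul, map_inv, hφ', he, inv_mul_cancel]
    obtain ⟨m, -, hm⟩ := h2 _ ⟨hd, hcomm hd⟩
    refine ⟨e * m, ?_⟩
    rw [map_mul, hm]; group
  refine ⟨CE p ⧸ S, inferInstance, CE.finite_cover p hp S hS hdisj hsup, CE.coverProj p S hS,
    CE.isStemExtension_coverProj p hp S hS hsup,
    ⟨(MulEquiv.ofBijective _ (CE.multToKer_bijective p S hS hdisj hsup)).symm⟩,
    QuotientGroup.lift S φ (hSW.trans inf_le_right), ?_, ?_⟩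
  · exact QuotientGroup.lift_surjective_of_surjective _ _ hφsurj _
  · apply QuotientGroup.monoidHom_ext
    ext e
    exact hφ' e

/-- A Schur cover exists. -/
theorem CE.exists_schur_cover (hp : Function.Surjective p) :
    ∃ (Γ : Type u) (_ : Group Γ) (_ : Finite Γ) (σ : Γ →* G), Cfsg.IsStemExtension σ ∧
      Nonempty (σ.ker ≃* CE.mult p) := by
  have hid : Cfsg.IsStemExtension (MonoidHom.id G) := by
    refine ⟨Function.surjective_id, ?_, ?_⟩ <;> · rw [MonoidHom.ker_id]; exact bot_le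
  obtain ⟨Γ, i1, i2, σ, h1, h2, -⟩ := CE.exists_schur_cover_over p hp (MonoidHom.id G) hid
  exact ⟨Γ, i1, i2, σ, h1, h2⟩

/-- The subgroup `(R ∩ F') / [F, R]` is the Schur multiplier. -/
theorem CE.hasSchurMultiplier_mult (hp : Function.Surjective p) : Cfsg.HasSchurMultiplier G (CE.mult p) :=
  ⟨CE.exists_schur_cover p hp, fun _ _ _ σ hσ => CE.exists_surj_mult p hp σ hσ⟩

/-- Any Schur multiplier is isomorphic to `(R ∩ F') / [F, R]`. -/
theorem CE.nonempty_equiv_mult (hp : Function.Surjective p) {A : Type w} [CommGroup A]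
    (hA : Cfsg.HasSchurMultiplier G A) : Nonempty (A ≃* CE.mult p) := by
  obtain ⟨⟨Γ₀, _, _, σ₀, hσ₀, ⟨e₀⟩⟩, hA2⟩ := hA
  obtain ⟨π₁, hπ₁⟩ := CE.exists_surj_mult p hp σ₀ hσ₀
  obtain ⟨Γ, _, _, σ, hσ, ⟨e⟩⟩ := CE.exists_schur_cover p hp
  obtain ⟨π₂, hπ₂⟩ := hA2 Γ σ hσ
  have hfm : Finite (CE.mult p) := CE.finite_mult p hp
  have hf₁ : Function.Surjective (e₀.toMonoidHom.comp π₁) := e₀.surjective.comp hπ₁
  have hf₂ : Function.Surjective (e.toMonoidHom.comp π₂) := e.surjective.comp hπ₂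
  have hfA : Finite A := Finite.of_surjective _ hf₁
  have hc1 : Nat.card A ≤ Nat.card (CE.mult p) := Nat.card_le_card_of_surjective _ hf₁
  have hc2 : Nat.card (CE.mult p) ≤ Nat.card A := Nat.card_le_card_of_surjective _ hf₂
  obtain ⟨e'⟩ := Finite.card_eq.mp (le_antisymm hc1 hc2)
  have hinj : Function.Injective (e.toMonoidHom.comp π₂) :=
    (Finite.injective_iff_surjective_of_equiv e').mpr hf₂
  exact ⟨MulEquiv.ofBijective _ ⟨hinj, hf₂⟩⟩

end Cover

/-! ### Pullbacks and comparison of kernels -/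

section Pullback

variable {Γ : Type u} {X : Type v} {Q : Type w} [Group Γ] [Group X] [Group Q] (σ : Γ →* Q) (ξ : X →* Q)

/-- The pullback of two homomorphisms to `Q`. -/
def pb : Subgroup (Γ × X) := (σ.comp (MonoidHom.fst Γ X)).eqLocus (ξ.comp (MonoidHom.snd Γ X))

theorem mem_pb (y : Γ × X) : y ∈ pb σ ξ ↔ σ y.1 = ξ y.2 := Iff.rfl

/-- First projection of the pullback. -/
def pb.fst : pb σ ξ →* Γ := (MonoidHom.fst Γ X).comp (pb σ ξ).subtype

/-- Second projection of the pullback. -/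
def pb.snd : pb σ ξ →* X := (MonoidHom.snd Γ X).comp (pb σ ξ).subtype

@[simp] theorem pb.fst_apply (y : pb σ ξ) : pb.fst σ ξ y = (y : Γ × X).1 := rfl
@[simp] theorem pb.snd_apply (y : pb σ ξ) : pb.snd σ ξ y = (y : Γ × X).2 := rfl

theorem pb.comm : σ.comp (pb.fst σ ξ) = ξ.comp (pb.snd σ ξ) := by
  ext y
  exact y.2

theorem pb.comm_apply (y : pb σ ξ) : σ (y : Γ × X).1 = ξ (y : Γ × X).2 := y.2

theorem pb.fst_surjective (hξ : Function.Surjective ξ) : Function.Surjective (pb.fst σ ξ) := by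
  intro γ
  obtain ⟨x, hx⟩ := hξ (σ γ)
  exact ⟨⟨(γ, x), hx.symm⟩, rfl⟩

theorem pb.snd_surjective (hσ : Function.Surjective σ) : Function.Surjective (pb.snd σ ξ) := by
  intro x
  obtain ⟨γ, hγ⟩ := hσ (ξ x)
  exact ⟨⟨(γ, x), hγ⟩, rfl⟩

theorem pb.mem_center_of (y : pb σ ξ) (h1 : (y : Γ × X).1 ∈ Subgroup.center Γ)
    (h2 : (y : Γ × X).2 ∈ Subgroup.center X) : y ∈ Subgroup.center (pb σ ξ) := by
  rw [Subgroup.mem_center_iff]
  intro z
  apply Subtype.ext
  apply Prod.ext
  · exact Subgroup.mem_center_iff.mp h1 _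
  · exact Subgroup.mem_center_iff.mp h2 _

theorem pb.ker_fst_le_center (hξ : ξ.ker ≤ Subgroup.center X) :
    (pb.fst σ ξ).ker ≤ Subgroup.center (pb σ ξ) := by
  intro y hy
  have h1 : (y : Γ × X).1 = 1 := hy
  apply pb.mem_center_of
  · rw [h1]; exact Subgroup.one_mem _
  · apply hξ
    rw [MonoidHom.mem_ker, ← pb.comm_apply, h1, map_one]

theorem pb.ker_comp_le_center (hσ : σ.ker ≤ Subgroup.center Γ) (hξ : ξ.ker ≤ Subgroup.center X) :
    (σ.comp (pb.fst σ ξ)).ker ≤ Subgroup.center (pb σ ξ) := by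
  intro y hy
  have h1 : σ (y : Γ × X).1 = 1 := hy
  apply pb.mem_center_of
  · exact hσ h1
  · apply hξ
    rw [MonoidHom.mem_ker, ← pb.comm_apply, h1]

end Pullback

theorem map_commutator_of_surjective {P : Type u} {Γ : Type v} [Group P] [Group Γ] (f : P →* Γ)
    (hf : Function.Surjective f) : Subgroup.map f (commutator P) = commutator Γ := by
  rw [commutator_def, commutator_def, Subgroup.map_commutator, ← MonoidHom.range_eq_map,
    MonoidHom.range_eq_top.mpr hf]

/-- Graph lemma: two extensions of `Q` dominated by a common group `P` whose commutator subgroup meets the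
kernel of the first projection trivially. -/
theorem exists_surj_ker_of_disjoint {P : Type u} {Γ : Type v} {Δ : Type w} {Q : Type*} [Group P] [Group Γ]
    [Group Δ] [Group Q] (σ : Γ →* Q) (τ : Δ →* Q) (pr₁ : P →* Γ) (pr₂ : P →* Δ)
    (h₁ : Function.Surjective pr₁) (h₂ : Function.Surjective pr₂) (hcomm : σ.comp pr₁ = τ.comp pr₂)
    (hσ : σ.ker ≤ commutator Γ) (hτ : τ.ker ≤ commutator Δ) (hdisj : commutator P ⊓ pr₁.ker = ⊥) :
    ∃ π : σ.ker →* τ.ker, Function.Surjective π := by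
  have hcomm' : ∀ y, σ (pr₁ y) = τ (pr₂ y) := fun y => DFunLike.congr_fun hcomm y
  let W : Subgroup P := commutator P ⊓ Subgroup.comap pr₁ σ.ker
  let g₁ : W →* σ.ker := (pr₁.comp W.subtype).codRestrict σ.ker (fun y => y.2.2)
  let g₂ : W →* τ.ker := (pr₂.comp W.subtype).codRestrict τ.ker (fun y => by
    have h : σ (pr₁ (y : P)) = 1 := y.2.2
    show τ (pr₂ (y : P)) = 1
    rw [← hcomm', h])
  have hg₁ : Function.Bijective g₁ := by
    constructor
    · rw [injective_iff_map_eq_one]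
      intro y hy
      have h1 : pr₁ (y : P) = 1 := congrArg Subtype.val hy
      have h2 : (y : P) ∈ commutator P ⊓ pr₁.ker := ⟨y.2.1, h1⟩
      rw [hdisj, Subgroup.mem_bot] at h2
      exact Subtype.ext h2
    · rintro ⟨k, hk⟩
      have h1 : k ∈ Subgroup.map pr₁ (commutator P) := by
        rw [map_commutator_of_surjective pr₁ h₁]; exact hσ hk
      obtain ⟨y, hy, rfl⟩ := h1
      exact ⟨⟨y, ⟨hy, hk⟩⟩, rfl⟩
  refine ⟨g₂.comp (MulEquiv.ofBijective g₁ hg₁).symm.toMonoidHom, ?_⟩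
  rintro ⟨d, hd⟩
  have h1 : d ∈ Subgroup.map pr₂ (commutator P) := by
    rw [map_commutator_of_surjective pr₂ h₂]; exact hτ hd
  obtain ⟨y, hy, rfl⟩ := h1
  have hyW : y ∈ W := ⟨hy, by
    show σ (pr₁ y) = 1
    rw [hcomm']; exact hd⟩
  refine ⟨g₁ ⟨y, hyW⟩, ?_⟩
  show g₂ ((MulEquiv.ofBijective g₁ hg₁).symm (g₁ ⟨y, hyW⟩)) = _
  have : (MulEquiv.ofBijective g₁ hg₁).symm (g₁ ⟨y, hyW⟩) = ⟨y, hyW⟩ :=
    (MulEquiv.ofBijective g₁ hg₁).symm_apply_apply ⟨y, hyW⟩
  rw [this]
  rfl

/-- For a group with trivial multiplier, the commutator subgroup of a central extension meets the kernel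
trivially. -/
theorem commutator_inf_ker_eq_bot_of_trivial {Γ : Type u} [Group Γ] [Finite Γ]
    (hΓ : Cfsg.HasCyclicSchurMultiplier Γ 1) {P : Type w} [Group P] (pr : P →* Γ)
    (hpr : Function.Surjective pr) (hker : pr.ker ≤ Subgroup.center P) : commutator P ⊓ pr.ker = ⊥ := by
  have hp := stdPres_surjective Γ
  obtain ⟨e⟩ := CE.nonempty_equiv_mult (stdPres Γ) hp hΓ
  obtain ⟨φ, -, -, h2⟩ := CE.exists_lift_mult (stdPres Γ) hp pr hpr hker
  rw [eq_bot_iff]
  rintro d ⟨hd1, hd2⟩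
  obtain ⟨m, hm, rfl⟩ := h2 d ⟨hd2, hd1⟩
  have h1 : e.symm ⟨m, hm⟩ = 1 := Subsingleton.elim _ _
  have h3 : (⟨m, hm⟩ : CE.mult (stdPres Γ)) = 1 := by
    rw [← e.apply_symm_apply ⟨m, hm⟩, h1, map_one]
  have h4 : m = 1 := congrArg Subtype.val h3
  rw [h4, map_one, Subgroup.mem_bot]

/-- For a Schur cover `σ : Γ → Q` and a central extension `ξ : X → Q`, the commutator subgroup of the pullback
meets the kernel of the projection to `Γ` trivially. -/
theorem pb.commutator_inf_ker_fst_eq_bot {Q : Type u} [Group Q] [Finite Q] {A : Type v} [CommGroup A]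
    (hA : Cfsg.HasSchurMultiplier Q A) {Γ : Type w} [Group Γ] (σ : Γ →* Q) (hσ : Cfsg.IsStemExtension σ)
    (hk : Nonempty (σ.ker ≃* A)) {X : Type*} [Group X] (ξ : X →* Q) (hξ : Function.Surjective ξ)
    (hξker : ξ.ker ≤ Subgroup.center X) : commutator (pb σ ξ) ⊓ (pb.fst σ ξ).ker = ⊥ := by
  obtain ⟨hsurj, hcen, hcomm⟩ := hσ
  obtain ⟨ek⟩ := hk
  have hp := stdPres_surjective Q
  obtain ⟨e⟩ := CE.nonempty_equiv_mult (stdPres Q) hp hA
  have hfm : Finite (CE.mult (stdPres Q)) := CE.finite_mult (stdPres Q) hp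
  have hfst := pb.fst_surjective σ ξ hξ
  obtain ⟨φ, -, h1, h2⟩ := CE.exists_lift_mult (stdPres Q) hp (σ.comp (pb.fst σ ξ)) (hsurj.comp hfst)
    (pb.ker_comp_le_center σ ξ hcen hξker)
  let D : Subgroup (pb σ ξ) := (σ.comp (pb.fst σ ξ)).ker ⊓ commutator (pb σ ξ)
  let f : CE.mult (stdPres Q) → D := fun m => ⟨φ m, h1 m m.2⟩
  have hf : Function.Surjective f := by
    rintro ⟨d, hd⟩
    obtain ⟨m, hm, rfl⟩ := h2 d hd
    exact ⟨⟨m, hm⟩, rfl⟩
  have hfD : Finite D := Finite.of_surjective f hf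
  let g : D →* σ.ker := ((pb.fst σ ξ).comp D.subtype).codRestrict σ.ker (fun y => y.2.1)
  have hg : Function.Surjective g := by
    rintro ⟨k, hk⟩
    have h3 : k ∈ Subgroup.map (pb.fst σ ξ) (commutator (pb σ ξ)) := by
      rw [map_commutator_of_surjective _ hfst]; exact hcomm hk
    obtain ⟨y, hy, rfl⟩ := h3
    exact ⟨⟨y, ⟨hk, hy⟩⟩, rfl⟩
  have hfk : Finite σ.ker := Finite.of_surjective g hg
  have hc1 : Nat.card D ≤ Nat.card (CE.mult (stdPres Q)) := Nat.card_le_card_of_surjective f hf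
  have hc2 : Nat.card (CE.mult (stdPres Q)) = Nat.card σ.ker :=
    Nat.card_congr (e.symm.trans ek.symm).toEquiv
  have hc3 : Nat.card σ.ker ≤ Nat.card D := Nat.card_le_card_of_surjective g hg
  obtain ⟨e'⟩ := Finite.card_eq.mp (le_antisymm (hc1.trans hc2.le) hc3)
  have hinj : Function.Injective g := (Finite.injective_iff_surjective_of_equiv e').mpr hg
  rw [eq_bot_iff]
  rintro y ⟨hy1, hy2⟩
  have hy3 : pb.fst σ ξ y = 1 := hy2
  have hyD : y ∈ D := ⟨by
    show σ (pb.fst σ ξ y) = 1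
    rw [hy3, map_one], hy1⟩
  have h4 : g ⟨y, hyD⟩ = g 1 := by
    apply Subtype.ext
    show pb.fst σ ξ y = pb.fst σ ξ 1
    rw [hy3, map_one]
  have h5 := hinj h4
  rw [Subgroup.mem_bot]
  exact congrArg Subtype.val h5

end Cfsg.Agent.Lib.Helper70
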