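import Mathlib
import Cfsg.Prelude.Def_KGroupFacts
import Cfsg.Agent.Lib.Helper70.SchurCE2

set_option autoImplicit false
open scoped commutatorElement

namespace Cfsg.Agent.Lib.Helper70

universe u v w

/-! ### Extending characters to divisible groups -/

/-- A homomorphism from a subgroup meeting the commutator subgroup trivially into a divisible commutative group
extends to the whole group. -/
theorem exists_hom_extending {Y : Type u} {D : Type v} [Group Y] [CommGroup D]
    (hD : ∀ (d : D) (m : ℕ), 0 < m → ∃ w : D, w ^ m = d) (C : Subgroup Y)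
    (hC : commutator Y ⊓ C = ⊥) (μ₀ : C →* D) : ∃ χ : Y →* D, ∀ c : C, χ c = μ₀ c := by
  letI : CommGroup C :=
    { (inferInstance : Group C) with
      mul_comm := fun a b => by
        have h1 : ⁅(a : Y), (b : Y)⁆ ∈ commutator Y ⊓ C :=
          ⟨Subgroup.commutator_mem_commutator (Subgroup.mem_top _) (Subgroup.mem_top _),
            by
              rw [commutatorElement_def]
              exact C.mul_mem (C.mul_mem (C.mul_mem a.2 b.2) (C.inv_mem a.2)) (C.inv_mem b.2)⟩
        rw [hC, Subgroup.mem_bot, commutatorElement_eq_one_iff_mul_comm] at h1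
        exact Subtype.ext h1 }
  let f : Additive C →+ Additive (Abelianization Y) :=
    MonoidHom.toAdditive ((Abelianization.of).comp C.subtype)
  have hf : Function.Injective f := by
    rw [injective_iff_map_eq_zero]
    intro x hx
    have h1 : Abelianization.of (x.toMul : Y) = 1 := congrArg Additive.toMul hx
    have h2 : (x.toMul : Y) ∈ commutator Y ⊓ C := by
      refine ⟨?_, x.toMul.2⟩
      rw [← Abelianization.ker_of]
      exact h1
    rw [hC, Subgroup.mem_bot] at h2
    have h3 : x.toMul = 1 := Subtype.ext h2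
    exact congrArg Additive.ofMul h3
  let g : Additive C →+ Additive D := MonoidHom.toAdditive μ₀
  have hdiv : ∀ {n : ℤ}, n ≠ 0 → Function.Surjective (fun a : Additive D => n • a) := by
    intro n hn a
    obtain ⟨w, hw⟩ := hD a.toMul n.natAbs (Int.natAbs_pos.mpr hn)
    rcases Int.natAbs_eq n with h | h
    · refine ⟨Additive.ofMul w, ?_⟩
      show Additive.ofMul (w ^ n) = a
      rw [h, zpow_natCast, hw]; rfl
    · refine ⟨Additive.ofMul w⁻¹, ?_⟩
      show Additive.ofMul (w⁻¹ ^ n) = a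
      rw [h, zpow_neg, zpow_natCast, inv_pow, inv_inv, hw]; rfl
  have hBaer : Module.Baer ℤ (Additive D) :=
    @Module.Baer.of_divisible (Additive D) _ (divisibleByOfSMulRightSurj (Additive D) ℤ hdiv)
  obtain ⟨h, hh⟩ := hBaer.extension_property_addMonoidHom f hf g
  refine ⟨(MonoidHom.toAdditive.symm h).comp Abelianization.of, ?_⟩
  intro c
  have := DFunLike.congr_fun hh (Additive.ofMul c)
  exact congrArg Additive.toMul this

/-- Splitting a central extension up to a divisible central subgroup. -/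
theorem exists_lift_of_disjoint {Y : Type u} {Γ : Type v} {H : Type w} [Group Y] [Group Γ] [Group H]
    (pr : Y →* Γ) (hpr : Function.Surjective pr) (μ : Y →* H) (Z : Subgroup H)
    (hZ : Z ≤ Subgroup.center H) (hZdiv : ∀ z ∈ Z, ∀ m : ℕ, 0 < m → ∃ w ∈ Z, w ^ m = z)
    (hμ : ∀ y ∈ pr.ker, μ y ∈ Z) (hdisj : commutator Y ⊓ pr.ker = ⊥) :
    ∃ ρ : Γ →* H, ∀ y, ∃ z ∈ Z, ρ (pr y) = μ y * z := by
  letI : CommGroup Z :=
    { (inferInstance : Group Z) with
      mul_comm := fun a b => Subtype.ext (Subgroup.mem_center_iff.mp (hZ b.2) a) }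
  have hD : ∀ (d : Z) (m : ℕ), 0 < m → ∃ w : Z, w ^ m = d := by
    rintro ⟨d, hd⟩ m hm
    obtain ⟨w, hw, hwm⟩ := hZdiv d hd m hm
    exact ⟨⟨w, hw⟩, Subtype.ext hwm⟩
  let μ₀ : pr.ker →* Z := (μ.comp pr.ker.subtype).codRestrict Z (fun y => hμ y y.2)
  obtain ⟨χ, hχ⟩ := exists_hom_extending hD pr.ker hdisj μ₀
  let ν : Y →* H := MonoidHom.mk' (fun y => μ y * ((χ y : H))⁻¹) (by
    intro a b
    have hb : ((χ b : H))⁻¹ ∈ Subgroup.center H := hZ (Z.inv_mem (χ b).2)
    have hb' := Subgroup.mem_center_iff.mp hb (μ b)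
    have ha : ((χ a : H))⁻¹ ∈ Subgroup.center H := hZ (Z.inv_mem (χ a).2)
    have ha' := Subgroup.mem_center_iff.mp ha (μ b * (χ b : H)⁻¹)
    show μ (a * b) * ((χ (a * b) : Z) : H)⁻¹ = μ a * ((χ a : H))⁻¹ * (μ b * ((χ b : H))⁻¹)
    calc μ (a * b) * ((χ (a * b) : Z) : H)⁻¹
        = μ a * (μ b * ((χ b : H))⁻¹ * ((χ a : H))⁻¹) := by
          rw [map_mul, map_mul, Subgroup.coe_mul, mul_inv_rev]; group
      _ = μ a * (((χ a : H))⁻¹ * (μ b * ((χ b : H))⁻¹)) := by rw [ha']
      _ = μ a * ((χ a : H))⁻¹ * (μ b * ((χ b : H))⁻¹) := by group)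
  have hν : ∀ y, ν y = μ y * ((χ y : H))⁻¹ := fun y => rfl
  have hle : pr.ker ≤ ν.ker := by
    intro y hy
    rw [MonoidHom.mem_ker, hν]
    have h1 : χ y = μ₀ ⟨y, hy⟩ := hχ ⟨y, hy⟩
    have h2 : ((χ y : Z) : H) = μ y := by rw [h1]; rfl
    rw [h2, mul_inv_cancel]
  refine ⟨pr.liftOfRightInverse (Function.surjInv hpr) (Function.rightInverse_surjInv hpr) ⟨ν, hle⟩, ?_⟩
  intro y
  refine ⟨((χ y : H))⁻¹, Z.inv_mem (χ y).2, ?_⟩
  rw [MonoidHom.liftOfRightInverse_comp_apply]
  rfl

end Cfsg.Agent.Lib.Helper70
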