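import Mathlib
import Cfsg.Agent.Lib.Helper70.SchurCE3

set_option autoImplicit false

open scoped commutatorElement TensorProduct

namespace Cfsg.Agent.Lib.Helper70

universe u v w

/-- The tensor product of two finite abelian groups is finite. -/
theorem finite_tensor (M : Type u) (N : Type v) [AddCommGroup M] [AddCommGroup N] [Finite M] [Finite N] :
    Finite (TensorProduct ℤ M N) := by
  have htors : Module.IsTorsion ℤ (TensorProduct ℤ M N) := by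
    have key : ∀ x : TensorProduct ℤ M N, (Nat.card M : ℤ) • x = 0 := by
      intro x
      induction x using TensorProduct.induction_on with
      | zero => rw [smul_zero]
      | tmul m n =>
        rw [TensorProduct.smul_tmul', natCast_zsmul, card_nsmul_eq_zero', TensorProduct.zero_tmul]
      | add x y hx hy => rw [smul_add, hx, hy, add_zero]
    intro x
    refine ⟨⟨(Nat.card M : ℤ), ?_⟩, key x⟩
    rw [mem_nonZeroDivisors_iff_ne_zero]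
    exact_mod_cast Nat.card_pos.ne'
  have h1 : Module.Finite ℤ M := Module.Finite.of_finite
  have h2 : Module.Finite ℤ N := Module.Finite.of_finite
  exact @Module.finite_of_fg_torsion _ _ _ (Module.Finite.tensorProduct ℤ M N) htors

/-- If `Δ = D₁ D₂` with `D₁, D₂` normal, every element of the commutator subgroup is a product of elements
of `[D₁, D₁]`, `[D₂, D₂]` and `[D₁, D₂]`. -/
theorem commutator_decomp {Δ : Type u} [Group Δ] (D₁ D₂ : Subgroup Δ) [D₁.Normal] [D₂.Normal]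
    (hD : ∀ d : Δ, ∃ x ∈ D₁, ∃ y ∈ D₂, d = x * y) (c : Δ) (hc : c ∈ commutator Δ) :
    ∃ a ∈ ⁅D₁, D₁⁆, ∃ b ∈ ⁅D₂, D₂⁆, ∃ w ∈ ⁅D₁, D₂⁆, c = a * b * w := by
  have hle : commutator Δ ≤ (⁅D₁, D₁⁆ ⊔ ⁅D₂, D₂⁆) ⊔ ⁅D₁, D₂⁆ := by
    rw [commutator_eq_closure, Subgroup.closure_le]
    rintro _ ⟨d, d', rfl⟩
    obtain ⟨x, hx, y, hy, rfl⟩ := hD d
    obtain ⟨x', hx', y', hy', rfl⟩ := hD d'
    have hcomm : ∀ a b : Δ, ⁅a, b⁆ ∈ (⁅D₁, D₁⁆ ⊔ ⁅D₂, D₂⁆) ⊔ ⁅D₁, D₂⁆ →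
        Commute (QuotientGroup.mk' ((⁅D₁, D₁⁆ ⊔ ⁅D₂, D₂⁆) ⊔ ⁅D₁, D₂⁆) a)
          (QuotientGroup.mk' ((⁅D₁, D₁⁆ ⊔ ⁅D₂, D₂⁆) ⊔ ⁅D₁, D₂⁆) b) := by
      intro a b hab
      rw [← commutatorElement_eq_one_iff_commute, ← map_commutatorElement]
      exact (QuotientGroup.eq_one_iff _).mpr hab
    have h1 : ⁅x, x'⁆ ∈ (⁅D₁, D₁⁆ ⊔ ⁅D₂, D₂⁆) ⊔ ⁅D₁, D₂⁆ :=
      le_sup_left (α := Subgroup Δ) (le_sup_left (α := Subgroup Δ)
        (Subgroup.commutator_mem_commutator hx hx'))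
    have h2 : ⁅y, y'⁆ ∈ (⁅D₁, D₁⁆ ⊔ ⁅D₂, D₂⁆) ⊔ ⁅D₁, D₂⁆ :=
      le_sup_left (α := Subgroup Δ) (le_sup_right (α := Subgroup Δ)
        (Subgroup.commutator_mem_commutator hy hy'))
    have h3 : ⁅x, y'⁆ ∈ (⁅D₁, D₁⁆ ⊔ ⁅D₂, D₂⁆) ⊔ ⁅D₁, D₂⁆ :=
      le_sup_right (α := Subgroup Δ) (Subgroup.commutator_mem_commutator hx hy')
    have h4 : ⁅y, x'⁆ ∈ (⁅D₁, D₁⁆ ⊔ ⁅D₂, D₂⁆) ⊔ ⁅D₁, D₂⁆ := by
      apply le_sup_right (α := Subgroup Δ)
      rw [Subgroup.commutator_comm]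
      exact Subgroup.commutator_mem_commutator hy hx'
    have h5 := ((hcomm x x' h1).mul_right (hcomm x y' h3)).mul_left
      ((hcomm y x' h4).mul_right (hcomm y y' h2))
    rw [← map_mul, ← map_mul, ← commutatorElement_eq_one_iff_commute, ← map_commutatorElement] at h5
    exact (QuotientGroup.eq_one_iff _).mp h5
  have h := hle hc
  have h' : c ∈ ((((⁅D₁, D₁⁆ ⊔ ⁅D₂, D₂⁆) ⊔ ⁅D₁, D₂⁆ : Subgroup Δ)) : Set Δ) := h
  rw [Subgroup.mul_normal, Set.mem_mul] at h'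
  obtain ⟨ab, hab, w, hw, rfl⟩ := h'
  have hab' : ab ∈ (((⁅D₁, D₁⁆ ⊔ ⁅D₂, D₂⁆ : Subgroup Δ)) : Set Δ) := hab
  rw [Subgroup.mul_normal, Set.mem_mul] at hab'
  obtain ⟨a, ha, b, hb, rfl⟩ := hab'
  exact ⟨a, ha, b, hb, w, hw, rfl⟩

/-- One factor: the Schur multiplier `A` of `Q` maps onto `N ∩ [D, D]`. -/
theorem exists_hom_onto_inf_commutator {Δ : Type w} [Group Δ] (N : Subgroup Δ) (hN : N ≤ Subgroup.center Δ)
    (D : Subgroup Δ) {Q : Type u} [Group Q] [Finite Q] (ρ : D →* Q) (hρ : Function.Surjective ρ)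
    (hker : ∀ x : D, ρ x = 1 ↔ (x : Δ) ∈ N) {A : Type v} [CommGroup A]
    (hA : Cfsg.HasSchurMultiplier Q A) :
    ∃ f : A →* N, ∀ a ∈ ⁅D, D⁆, a ∈ N → ∃ x, (f x : Δ) = a := by
  have hc : ρ.ker ≤ Subgroup.center D := by
    intro x hx
    rw [Subgroup.mem_center_iff]
    intro y
    apply Subtype.ext
    exact Subgroup.mem_center_iff.mp (hN ((hker x).mp (MonoidHom.mem_ker.mp hx))) y
  obtain ⟨φ, hφ, h1, h2⟩ := CE.exists_lift_mult (stdPres Q) (stdPres_surjective Q) ρ hρ hc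
  obtain ⟨eA⟩ := CE.nonempty_equiv_mult (stdPres Q) (stdPres_surjective Q) hA
  refine ⟨(((D.subtype.comp φ).comp (CE.mult (stdPres Q)).subtype).comp eA.toMonoidHom).codRestrict N
    (fun a => (hker _).mp (MonoidHom.mem_ker.mp (h1 _ (eA a).2).1)), ?_⟩
  intro a ha haN
  rw [← Subgroup.map_subtype_commutator] at ha
  obtain ⟨a₀, ha₀, rfl⟩ := ha
  obtain ⟨m, hm, hma⟩ := h2 a₀ ⟨MonoidHom.mem_ker.mpr ((hker a₀).mpr haN), ha₀⟩
  refine ⟨eA.symm ⟨m, hm⟩, ?_⟩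
  show ((φ ((eA (eA.symm ⟨m, hm⟩) : CE.mult (stdPres Q)) : CE (stdPres Q)) : D) : Δ) = a₀
  rw [MulEquiv.apply_symm_apply, hma]

/-- The commutator pairing `D₁ × D₂ → N` induces a homomorphism from the tensor product of the
commutator quotients. -/
theorem exists_hom_tensor_commutator {Δ : Type w} [Group Δ] (N : Subgroup Δ) (hN : N ≤ Subgroup.center Δ)
    (D₁ D₂ : Subgroup Δ) (hD : ⁅D₁, D₂⁆ ≤ N) {Q₁ : Type u} {Q₂ : Type v} [Group Q₁] [Group Q₂]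
    (ρ₁ : D₁ →* Q₁) (hρ₁ : Function.Surjective ρ₁) (hker₁ : ∀ x : D₁, ρ₁ x = 1 → (x : Δ) ∈ N)
    (ρ₂ : D₂ →* Q₂) (hρ₂ : Function.Surjective ρ₂) (hker₂ : ∀ x : D₂, ρ₂ x = 1 → (x : Δ) ∈ N) :
    ∃ f : Multiplicative (TensorProduct ℤ (Additive (Abelianization Q₁)) (Additive (Abelianization Q₂))) →* N,
      ∀ (x : D₁) (y : D₂), (f (Multiplicative.ofAdd
        (Additive.ofMul (Abelianization.of (ρ₁ x)) ⊗ₜ[ℤ] Additive.ofMul (Abelianization.of (ρ₂ y)))) : Δ) =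
        ⁅(x : Δ), (y : Δ)⁆ := by
  classical
  let _ : CommGroup N :=
    { (inferInstance : Group N) with
      mul_comm := fun a b => Subtype.ext (Subgroup.mem_center_iff.mp (hN b.2) a) }
  choose s₁ hs₁ using hρ₁
  choose s₂ hs₂ using hρ₂
  have A1 : ∀ (x x' : D₁) (y y' : D₂), ρ₁ x = ρ₁ x' → ρ₂ y = ρ₂ y' →
      ⁅(x : Δ), (y : Δ)⁆ = ⁅(x' : Δ), (y' : Δ)⁆ := by
    intro x x' y y' hx hy
    have h1 : ((x⁻¹ * x' : D₁) : Δ) ∈ Subgroup.center Δ :=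
      hN (hker₁ _ (by rw [map_mul, map_inv, hx, inv_mul_cancel]))
    have h2 : ((y⁻¹ * y' : D₂) : Δ) ∈ Subgroup.center Δ :=
      hN (hker₂ _ (by rw [map_mul, map_inv, hy, inv_mul_cancel]))
    have h3 := commutatorElement_mul_central (x : Δ) (y : Δ) _ _ h1 h2
    rw [← h3]
    congr 1 <;> simp
  have hmem : ∀ (x : D₁) (y : D₂), ⁅(x : Δ), (y : Δ)⁆ ∈ N :=
    fun x y => hD (Subgroup.commutator_mem_commutator x.2 y.2)
  have A2 : ∀ (x x' : D₁) (y : D₂), ⁅((x * x' : D₁) : Δ), (y : Δ)⁆ =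
      ⁅(x : Δ), (y : Δ)⁆ * ⁅(x' : Δ), (y : Δ)⁆ := by
    intro x x' y
    have hc := Subgroup.mem_center_iff.mp (hN (hmem x' y))
    have h : ⁅((x : Δ) * (x' : Δ)), (y : Δ)⁆ =
        (x : Δ) * ⁅(x' : Δ), (y : Δ)⁆ * (x : Δ)⁻¹ * ⁅(x : Δ), (y : Δ)⁆ := by
      simp only [commutatorElement_def]; group
    rw [Subgroup.coe_mul, h, hc (x : Δ), mul_inv_cancel_right]
    exact (hc _).symm
  have A3 : ∀ (x : D₁) (y y' : D₂), ⁅(x : Δ), ((y * y' : D₂) : Δ)⁆ =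
      ⁅(x : Δ), (y : Δ)⁆ * ⁅(x : Δ), (y' : Δ)⁆ := by
    intro x y y'
    have hc := Subgroup.mem_center_iff.mp (hN (hmem x y'))
    have h : ⁅(x : Δ), ((y : Δ) * (y' : Δ))⁆ =
        ⁅(x : Δ), (y : Δ)⁆ * ((y : Δ) * ⁅(x : Δ), (y' : Δ)⁆ * (y : Δ)⁻¹) := by
      simp only [commutatorElement_def]; group
    rw [Subgroup.coe_mul, h, hc (y : Δ), mul_inv_cancel_right]
  have K_left : ∀ (q q' : Q₁) (q₂ : Q₂),
      (⟨⁅(s₁ (q * q') : Δ), (s₂ q₂ : Δ)⁆, hmem _ _⟩ : N) =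
      ⟨⁅(s₁ q : Δ), (s₂ q₂ : Δ)⁆, hmem _ _⟩ * ⟨⁅(s₁ q' : Δ), (s₂ q₂ : Δ)⁆, hmem _ _⟩ := by
    intro q q' q₂
    apply Subtype.ext
    show ⁅(s₁ (q * q') : Δ), (s₂ q₂ : Δ)⁆ = ⁅(s₁ q : Δ), (s₂ q₂ : Δ)⁆ * ⁅(s₁ q' : Δ), (s₂ q₂ : Δ)⁆
    rw [A1 (s₁ (q * q')) (s₁ q * s₁ q') (s₂ q₂) (s₂ q₂) (by rw [hs₁, map_mul, hs₁, hs₁]) rfl, A2]
  have K_right : ∀ (q : Q₁) (q₂ q₂' : Q₂),
      (⟨⁅(s₁ q : Δ), (s₂ (q₂ * q₂') : Δ)⁆, hmem _ _⟩ : N) =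
      ⟨⁅(s₁ q : Δ), (s₂ q₂ : Δ)⁆, hmem _ _⟩ * ⟨⁅(s₁ q : Δ), (s₂ q₂' : Δ)⁆, hmem _ _⟩ := by
    intro q q₂ q₂'
    apply Subtype.ext
    show ⁅(s₁ q : Δ), (s₂ (q₂ * q₂') : Δ)⁆ = ⁅(s₁ q : Δ), (s₂ q₂ : Δ)⁆ * ⁅(s₁ q : Δ), (s₂ q₂' : Δ)⁆
    rw [A1 (s₁ q) (s₁ q) (s₂ (q₂ * q₂')) (s₂ q₂ * s₂ q₂') rfl (by rw [hs₂, map_mul, hs₂, hs₂]), A3]
  let C₀ : Q₁ →* (Q₂ →* N) := MonoidHom.mk'
    (fun q₁ => MonoidHom.mk' (fun q₂ => (⟨⁅(s₁ q₁ : Δ), (s₂ q₂ : Δ)⁆, hmem _ _⟩ : N)) (K_right q₁))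
    (by
      intro q q'
      ext q₂
      exact congrArg Subtype.val (K_left q q' q₂))
  let f₀ : Additive (Abelianization Q₁) →+ Additive (Abelianization Q₂) →+ Additive N :=
    AddMonoidHom.mk' (fun a => MonoidHom.toAdditive
      (Abelianization.lift (Abelianization.lift C₀ a.toMul))) (by
      intro a a'
      ext b
      show ((Abelianization.lift (Abelianization.lift C₀ (a.toMul * a'.toMul))
          (Abelianization.of b) : N) : Δ) =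
        ((Abelianization.lift (Abelianization.lift C₀ a.toMul) (Abelianization.of b) *
        Abelianization.lift (Abelianization.lift C₀ a'.toMul) (Abelianization.of b) : N) : Δ)
      rw [Abelianization.lift_apply_of, Abelianization.lift_apply_of, Abelianization.lift_apply_of,
        map_mul]
      rfl)
  have hf₀ : ∀ (r : ℤ) (m : Additive (Abelianization Q₁)) (n : Additive (Abelianization Q₂)),
      f₀ (r • m) n = f₀ m (r • n) := by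
    intro r m n
    rw [map_zsmul, map_zsmul]
    rfl
  refine ⟨AddMonoidHom.toMultiplicativeLeft (TensorProduct.liftAddHom f₀ hf₀), ?_⟩
  intro x y
  show ((Abelianization.lift (Abelianization.lift C₀ (Abelianization.of (ρ₁ x)))
    (Abelianization.of (ρ₂ y)) : N) : Δ) = ⁅(x : Δ), (y : Δ)⁆
  rw [Abelianization.lift_apply_of, Abelianization.lift_apply_of]
  show ⁅(s₁ (ρ₁ x) : Δ), (s₂ (ρ₂ y) : Δ)⁆ = ⁅(x : Δ), (y : Δ)⁆
  exact A1 _ _ _ _ (hs₁ _) (hs₂ _)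

/-- Upper bound: the kernel of any stem extension of `Q₁ × Q₂` is an image of `A × B × (Q₁ᵃᵇ ⊗ Q₂ᵃᵇ)`. -/
theorem exists_surj_of_prod_stem {Q₁ : Type u} {Q₂ : Type v} [Group Q₁] [Group Q₂] [Finite Q₁] [Finite Q₂]
    {A B : Type w} [CommGroup A] [CommGroup B] (hA : Cfsg.HasSchurMultiplier Q₁ A)
    (hB : Cfsg.HasSchurMultiplier Q₂ B) {Δ : Type*} [Group Δ] (τ : Δ →* Q₁ × Q₂)
    (hτ : Cfsg.IsStemExtension τ) :
    ∃ π : A × B × Multiplicative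
        (TensorProduct ℤ (Additive (Abelianization Q₁)) (Additive (Abelianization Q₂))) →* τ.ker,
      Function.Surjective π := by
  obtain ⟨hτs, hτc, hτk⟩ := hτ
  classical
  have hN : ∀ d : Δ, d ∈ τ.ker ↔ ((MonoidHom.fst Q₁ Q₂).comp τ) d = 1 ∧
      ((MonoidHom.snd Q₁ Q₂).comp τ) d = 1 := by
    intro d
    rw [MonoidHom.mem_ker, Prod.ext_iff]
    rfl
  have hρ₁ : Function.Surjective (((MonoidHom.fst Q₁ Q₂).comp τ).comp
      ((MonoidHom.snd Q₁ Q₂).comp τ).ker.subtype) := by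
    intro q
    obtain ⟨d, hd⟩ := hτs (q, 1)
    exact ⟨⟨d, by show (τ d).2 = 1; rw [hd]⟩, by show (τ d).1 = q; rw [hd]⟩
  have hρ₂ : Function.Surjective (((MonoidHom.snd Q₁ Q₂).comp τ).comp
      ((MonoidHom.fst Q₁ Q₂).comp τ).ker.subtype) := by
    intro q
    obtain ⟨d, hd⟩ := hτs (1, q)
    exact ⟨⟨d, by show (τ d).1 = 1; rw [hd]⟩, by show (τ d).2 = q; rw [hd]⟩
  have hker₁ : ∀ x : ((MonoidHom.snd Q₁ Q₂).comp τ).ker, (((MonoidHom.fst Q₁ Q₂).comp τ).comp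
      ((MonoidHom.snd Q₁ Q₂).comp τ).ker.subtype) x = 1 ↔ (x : Δ) ∈ τ.ker := by
    intro x
    rw [hN]
    constructor
    · intro h
      exact ⟨h, x.2⟩
    · intro h
      exact h.1
  have hker₂ : ∀ x : ((MonoidHom.fst Q₁ Q₂).comp τ).ker, (((MonoidHom.snd Q₁ Q₂).comp τ).comp
      ((MonoidHom.fst Q₁ Q₂).comp τ).ker.subtype) x = 1 ↔ (x : Δ) ∈ τ.ker := by
    intro x
    rw [hN]
    constructor
    · intro h
      exact ⟨x.2, h⟩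
    · intro h
      exact h.2
  obtain ⟨f₁, hf₁⟩ := exists_hom_onto_inf_commutator τ.ker hτc ((MonoidHom.snd Q₁ Q₂).comp τ).ker
    _ hρ₁ hker₁ hA
  obtain ⟨f₂, hf₂⟩ := exists_hom_onto_inf_commutator τ.ker hτc ((MonoidHom.fst Q₁ Q₂).comp τ).ker
    _ hρ₂ hker₂ hB
  have hD : ⁅((MonoidHom.snd Q₁ Q₂).comp τ).ker, ((MonoidHom.fst Q₁ Q₂).comp τ).ker⁆ ≤ τ.ker := by
    rw [Subgroup.commutator_le]
    intro x hx y hy
    rw [hN]
    constructor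
    · rw [map_commutatorElement, MonoidHom.mem_ker.mp hy, commutatorElement_def]
      group
    · rw [map_commutatorElement, MonoidHom.mem_ker.mp hx, commutatorElement_def]
      group
  obtain ⟨f₃, hf₃⟩ := exists_hom_tensor_commutator τ.ker hτc ((MonoidHom.snd Q₁ Q₂).comp τ).ker
    ((MonoidHom.fst Q₁ Q₂).comp τ).ker hD _ hρ₁ (fun x h => (hker₁ x).mp h) _ hρ₂
    (fun x h => (hker₂ x).mp h)
  let _ : CommGroup τ.ker :=
    { (inferInstance : Group τ.ker) with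
      mul_comm := fun a b => Subtype.ext (Subgroup.mem_center_iff.mp (hτc b.2) a) }
  refine ⟨f₁.coprod (f₂.coprod f₃), ?_⟩
  rintro ⟨n, hn⟩
  have hdec : ∀ d : Δ, ∃ x ∈ ((MonoidHom.snd Q₁ Q₂).comp τ).ker,
      ∃ y ∈ ((MonoidHom.fst Q₁ Q₂).comp τ).ker, d = x * y := by
    intro d
    obtain ⟨x, hx⟩ := hτs ((τ d).1, 1)
    refine ⟨x, by show (τ x).2 = 1; rw [hx], x⁻¹ * d, ?_, by group⟩
    show (τ (x⁻¹ * d)).1 = 1
    rw [map_mul, map_inv, hx]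
    simp
  obtain ⟨a, ha, b, hb, w, hw, rfl⟩ := commutator_decomp _ _ hdec n (hτk hn)
  have hwN : w ∈ τ.ker := hD hw
  have haD : a ∈ ((MonoidHom.snd Q₁ Q₂).comp τ).ker := Subgroup.commutator_le_left _ _ ha
  have hbD : b ∈ ((MonoidHom.fst Q₁ Q₂).comp τ).ker := Subgroup.commutator_le_left _ _ hb
  have haN : a ∈ τ.ker := by
    rw [hN]
    refine ⟨?_, haD⟩
    have h1 := ((hN _).mp hn).1
    rw [map_mul, map_mul, MonoidHom.mem_ker.mp hbD, ((hN w).mp hwN).1, mul_one, mul_one] at h1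
    exact h1
  have hbN : b ∈ τ.ker := by
    rw [hN]
    refine ⟨hbD, ?_⟩
    have h2 := ((hN _).mp hn).2
    rw [map_mul, map_mul, MonoidHom.mem_ker.mp haD, ((hN w).mp hwN).2, mul_one, one_mul] at h2
    exact h2
  obtain ⟨xa, hxa⟩ := hf₁ a ha haN
  obtain ⟨xb, hxb⟩ := hf₂ b hb hbN
  have hw' : ∃ t, (f₃ t : Δ) = w := by
    have hle : ⁅((MonoidHom.snd Q₁ Q₂).comp τ).ker, ((MonoidHom.fst Q₁ Q₂).comp τ).ker⁆ ≤
        Subgroup.map τ.ker.subtype f₃.range := by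
      rw [Subgroup.commutator_le]
      intro x hx y hy
      exact ⟨_, ⟨_, rfl⟩, hf₃ ⟨x, hx⟩ ⟨y, hy⟩⟩
    obtain ⟨_, ⟨t, rfl⟩, ht⟩ := hle hw
    exact ⟨t, ht⟩
  obtain ⟨t, ht⟩ := hw'
  refine ⟨(xa, xb, t), ?_⟩
  apply Subtype.ext
  show ((f₁ xa * (f₂ xb * f₃ t) : τ.ker) : Δ) = a * b * w
  rw [Subgroup.coe_mul, Subgroup.coe_mul, hxa, hxb, ht, mul_assoc]

/-! ### The cover of a direct product -/

section ProdExt

variable {Q₁ : Type u} {Q₂ : Type v} [Group Q₁] [Group Q₂]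
  {Γ₁ : Type u} {Γ₂ : Type v} [Group Γ₁] [Group Γ₂] (σ₁ : Γ₁ →* Q₁) (σ₂ : Γ₂ →* Q₂)

/-- The biadditive map `((g₁, g₂), (h₁, h₂)) ↦ [σ₁ g₁] ⊗ [σ₂ h₂]`. -/
def prodBiAdd : BiAdd (Γ₁ × Γ₂)
    (TensorProduct ℤ (Additive (Abelianization Q₁)) (Additive (Abelianization Q₂))) where
  toFun x y := Additive.ofMul (Abelianization.of (σ₁ x.1)) ⊗ₜ[ℤ]
    Additive.ofMul (Abelianization.of (σ₂ y.2))
  map_mul_left x x' y := by
    rw [Prod.fst_mul, map_mul, map_mul, ofMul_mul, TensorProduct.add_tmul]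
  map_mul_right x y y' := by
    rw [Prod.snd_mul, map_mul, map_mul, ofMul_mul, TensorProduct.tmul_add]

theorem prodBiAdd_of_ker_left {x : Γ₁ × Γ₂} (hx : x.1 ∈ σ₁.ker) (y : Γ₁ × Γ₂) :
    (prodBiAdd σ₁ σ₂).toFun x y = 0 := by
  show Additive.ofMul (Abelianization.of (σ₁ x.1)) ⊗ₜ[ℤ] _ = 0
  rw [MonoidHom.mem_ker.mp hx, map_one, ofMul_one, TensorProduct.zero_tmul]

theorem prodBiAdd_of_ker_right (x : Γ₁ × Γ₂) {y : Γ₁ × Γ₂} (hy : y.2 ∈ σ₂.ker) :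
    (prodBiAdd σ₁ σ₂).toFun x y = 0 := by
  show _ ⊗ₜ[ℤ] Additive.ofMul (Abelianization.of (σ₂ y.2)) = 0
  rw [MonoidHom.mem_ker.mp hy, map_one, ofMul_one, TensorProduct.tmul_zero]

/-- The projection `BExt → Q₁ × Q₂`. -/
def prodProj : BExt (prodBiAdd σ₁ σ₂) →* Q₁ × Q₂ := (MonoidHom.prodMap σ₁ σ₂).comp (BExt.proj _)

theorem mem_ker_prodProj (x : BExt (prodBiAdd σ₁ σ₂)) :
    x ∈ (prodProj σ₁ σ₂).ker ↔ x.g.1 ∈ σ₁.ker ∧ x.g.2 ∈ σ₂.ker := by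
  rw [MonoidHom.mem_ker, MonoidHom.mem_ker, MonoidHom.mem_ker]
  show (σ₁ x.g.1, σ₂ x.g.2) = 1 ↔ _
  rw [Prod.mk_eq_one]

theorem prodProj_surjective (h₁ : Function.Surjective σ₁) (h₂ : Function.Surjective σ₂) :
    Function.Surjective (prodProj σ₁ σ₂) := by
  rintro ⟨q₁, q₂⟩
  obtain ⟨g₁, rfl⟩ := h₁ q₁
  obtain ⟨g₂, rfl⟩ := h₂ q₂
  exact ⟨⟨0, (g₁, g₂)⟩, rfl⟩

theorem ker_prodProj_le_center (h₁ : σ₁.ker ≤ Subgroup.center Γ₁) (h₂ : σ₂.ker ≤ Subgroup.center Γ₂) :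
    (prodProj σ₁ σ₂).ker ≤ Subgroup.center (BExt (prodBiAdd σ₁ σ₂)) := by
  intro x hx
  rw [mem_ker_prodProj] at hx
  rw [Subgroup.mem_center_iff]
  intro y
  apply BExt.ext'
  · simp only [BExt.mul_z]
    rw [prodBiAdd_of_ker_left σ₁ σ₂ hx.1, prodBiAdd_of_ker_right σ₁ σ₂ _ hx.2]
    abel
  · simp only [BExt.mul_g]
    apply Prod.ext
    · exact Subgroup.mem_center_iff.mp (h₁ hx.1) y.g.1
    · exact Subgroup.mem_center_iff.mp (h₂ hx.2) y.g.2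

/-- The embedding of `Γ₁`. -/
def incl₁ : Γ₁ →* BExt (prodBiAdd σ₁ σ₂) where
  toFun g := ⟨0, (g, 1)⟩
  map_one' := rfl
  map_mul' g g' := by
    apply BExt.ext'
    · show (0 : TensorProduct ℤ (Additive (Abelianization Q₁)) (Additive (Abelianization Q₂))) =
        0 + 0 + (prodBiAdd σ₁ σ₂).toFun (g, 1) (g', 1)
      rw [prodBiAdd_of_ker_right σ₁ σ₂ _
        (show ((g', 1) : Γ₁ × Γ₂).2 ∈ σ₂.ker from Subgroup.one_mem _)]
      simp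
    · show ((g * g', 1) : Γ₁ × Γ₂) = (g, 1) * (g', 1)
      ext <;> simp

/-- The embedding of `Γ₂`. -/
def incl₂ : Γ₂ →* BExt (prodBiAdd σ₁ σ₂) where
  toFun g := ⟨0, (1, g)⟩
  map_one' := rfl
  map_mul' g g' := by
    apply BExt.ext'
    · show (0 : TensorProduct ℤ (Additive (Abelianization Q₁)) (Additive (Abelianization Q₂))) =
        0 + 0 + (prodBiAdd σ₁ σ₂).toFun (1, g) (1, g')
      rw [prodBiAdd_of_ker_left σ₁ σ₂
        (show ((1, g) : Γ₁ × Γ₂).1 ∈ σ₁.ker from Subgroup.one_mem _)]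
      simp
    · show ((1, g * g') : Γ₁ × Γ₂) = (1, g) * (1, g')
      ext <;> simp

theorem z_mem_commutator (h₁ : Function.Surjective σ₁) (h₂ : Function.Surjective σ₂)
    (t : TensorProduct ℤ (Additive (Abelianization Q₁)) (Additive (Abelianization Q₂))) :
    (⟨t, 1⟩ : BExt (prodBiAdd σ₁ σ₂)) ∈ commutator (BExt (prodBiAdd σ₁ σ₂)) := by
  induction t using TensorProduct.induction_on with
  | zero => exact Subgroup.one_mem _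
  | tmul a b =>
    obtain ⟨q₁, hq₁⟩ := QuotientGroup.mk_surjective a.toMul
    obtain ⟨q₂, hq₂⟩ := QuotientGroup.mk_surjective b.toMul
    obtain ⟨g₁, rfl⟩ := h₁ q₁
    obtain ⟨g₂, rfl⟩ := h₂ q₂
    have hc : ⁅(⟨0, (g₁, 1)⟩ : BExt (prodBiAdd σ₁ σ₂)), (⟨0, (1, g₂)⟩ : BExt (prodBiAdd σ₁ σ₂))⁆ =
        (⟨a ⊗ₜ[ℤ] b, 1⟩ : BExt (prodBiAdd σ₁ σ₂)) := by
      apply BExt.ext'
      · rw [BExt.commutator_z _ _ (by ext <;> simp)]
        show (prodBiAdd σ₁ σ₂).toFun (g₁, 1) (1, g₂) - (prodBiAdd σ₁ σ₂).toFun (1, g₂) (g₁, 1) =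
          a ⊗ₜ[ℤ] b
        rw [prodBiAdd_of_ker_left σ₁ σ₂ (x := (1, g₂)) (Subgroup.one_mem _), sub_zero]
        show Additive.ofMul (Abelianization.of (σ₁ g₁)) ⊗ₜ[ℤ]
          Additive.ofMul (Abelianization.of (σ₂ g₂)) = a ⊗ₜ[ℤ] b
        rw [show Abelianization.of (σ₁ g₁) = Additive.toMul a from hq₁,
          show Abelianization.of (σ₂ g₂) = Additive.toMul b from hq₂]
        rfl
      · simp [commutatorElement_def]
    rw [← hc]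
    exact Subgroup.commutator_mem_commutator (Subgroup.mem_top _) (Subgroup.mem_top _)
  | add x y hx hy =>
    have h2 : (⟨x, 1⟩ : BExt (prodBiAdd σ₁ σ₂)) * ⟨y, 1⟩ = ⟨x + y, 1⟩ := by
      apply BExt.ext' <;> simp [BiAdd.map_one_left]
    rw [← h2]
    exact Subgroup.mul_mem _ hx hy

theorem ker_prodProj_le_commutator (h₁s : Function.Surjective σ₁) (h₂s : Function.Surjective σ₂)
    (h₁ : σ₁.ker ≤ commutator Γ₁) (h₂ : σ₂.ker ≤ commutator Γ₂) :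
    (prodProj σ₁ σ₂).ker ≤ commutator (BExt (prodBiAdd σ₁ σ₂)) := by
  intro x hx
  rw [mem_ker_prodProj] at hx
  have hdec : x = ⟨x.z, 1⟩ * incl₁ σ₁ σ₂ x.g.1 * incl₂ σ₁ σ₂ x.g.2 := by
    apply BExt.ext'
    · show x.z = x.z + 0 + (prodBiAdd σ₁ σ₂).toFun 1 (x.g.1, 1) + 0 +
        (prodBiAdd σ₁ σ₂).toFun (1 * (x.g.1, 1)) (1, x.g.2)
      rw [BiAdd.map_one_left, prodBiAdd_of_ker_right σ₁ σ₂ _
        (show ((1, x.g.2) : Γ₁ × Γ₂).2 ∈ σ₂.ker from hx.2)]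
      abel
    · show x.g = 1 * (x.g.1, 1) * (1, x.g.2)
      ext <;> simp
  rw [hdec]
  refine Subgroup.mul_mem _ (Subgroup.mul_mem _ (z_mem_commutator σ₁ σ₂ h₁s h₂s x.z) ?_) ?_
  · have : Subgroup.map (incl₁ σ₁ σ₂) (commutator Γ₁) ≤ commutator (BExt (prodBiAdd σ₁ σ₂)) := by
      rw [commutator_def, commutator_def, Subgroup.map_commutator]
      exact Subgroup.commutator_mono le_top le_top
    exact this (Subgroup.mem_map_of_mem _ (h₁ hx.1))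
  · have : Subgroup.map (incl₂ σ₁ σ₂) (commutator Γ₂) ≤ commutator (BExt (prodBiAdd σ₁ σ₂)) := by
      rw [commutator_def, commutator_def, Subgroup.map_commutator]
      exact Subgroup.commutator_mono le_top le_top
    exact this (Subgroup.mem_map_of_mem _ (h₂ hx.2))

/-- The kernel of the projection is `A × B × (Q₁ᵃᵇ ⊗ Q₂ᵃᵇ)`. -/
def prodKerEquiv {A B : Type w} [CommGroup A] [CommGroup B] (e₁ : σ₁.ker ≃* A) (e₂ : σ₂.ker ≃* B) :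
    (prodProj σ₁ σ₂).ker ≃* A × B × Multiplicative
      (TensorProduct ℤ (Additive (Abelianization Q₁)) (Additive (Abelianization Q₂))) where
  toFun x := (e₁ ⟨x.1.g.1, ((mem_ker_prodProj σ₁ σ₂ x.1).mp x.2).1⟩,
    e₂ ⟨x.1.g.2, ((mem_ker_prodProj σ₁ σ₂ x.1).mp x.2).2⟩, Multiplicative.ofAdd x.1.z)
  invFun y := ⟨⟨y.2.2.toAdd, ((e₁.symm y.1 : Γ₁), (e₂.symm y.2.1 : Γ₂))⟩,
    (mem_ker_prodProj σ₁ σ₂ _).mpr ⟨(e₁.symm y.1).2, (e₂.symm y.2.1).2⟩⟩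
  left_inv := by
    rintro ⟨x, hx⟩
    apply Subtype.ext
    apply BExt.ext'
    · rfl
    · show ((e₁.symm (e₁ ⟨x.g.1, _⟩) : Γ₁), (e₂.symm (e₂ ⟨x.g.2, _⟩) : Γ₂)) = x.g
      rw [MulEquiv.symm_apply_apply, MulEquiv.symm_apply_apply]
  right_inv := by
    rintro ⟨a, b, t⟩
    show (e₁ ⟨(e₁.symm a : Γ₁), _⟩, e₂ ⟨(e₂.symm b : Γ₂), _⟩, t) = (a, b, t)
    rw [Subtype.coe_eta, Subtype.coe_eta, MulEquiv.apply_symm_apply, MulEquiv.apply_symm_apply]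
  map_mul' := by
    rintro ⟨x, hx⟩ ⟨y, hy⟩
    have hx' := (mem_ker_prodProj σ₁ σ₂ x).mp hx
    refine Prod.ext ?_ (Prod.ext ?_ ?_)
    · show e₁ ⟨x.g.1 * y.g.1, _⟩ = e₁ ⟨x.g.1, _⟩ * e₁ ⟨y.g.1, _⟩
      rw [← map_mul]
      rfl
    · show e₂ ⟨x.g.2 * y.g.2, _⟩ = e₂ ⟨x.g.2, _⟩ * e₂ ⟨y.g.2, _⟩
      rw [← map_mul]
      rfl
    · show Multiplicative.ofAdd (x.z + y.z + (prodBiAdd σ₁ σ₂).toFun x.g y.g) =
        Multiplicative.ofAdd x.z * Multiplicative.ofAdd y.z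
      rw [prodBiAdd_of_ker_left σ₁ σ₂ hx'.1, add_zero]
      rfl

end ProdExt

end Cfsg.Agent.Lib.Helper70
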