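import Mathlib
import Cfsg.Agent.Lib.Helper70.SchurCE3

set_option autoImplicit false

namespace Cfsg.Agent.Lib.Helper70

universe u v w

/-- Transfer: if `z` is central and in the commutator subgroup, then `z ^ [Γ : H]` lies in the commutator
subgroup of `H`. -/
theorem pow_index_mem_commutator_of_central {Γ : Type u} [Group Γ] (H : Subgroup Γ) [H.FiniteIndex]
    {z : Γ} (hz : z ∈ Subgroup.center Γ) (hz' : z ∈ commutator Γ) (hzH : z ^ H.index ∈ H) :
    (⟨z ^ H.index, hzH⟩ : H) ∈ commutator H := by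
  have key : ∀ (k : ℕ) (g₀ : Γ), g₀⁻¹ * z ^ k * g₀ ∈ H → g₀⁻¹ * z ^ k * g₀ = z ^ k := by
    intro k g₀ _
    have := Subgroup.mem_center_iff.mp (Subgroup.pow_mem _ hz k) g₀
    rw [mul_assoc, ← this, inv_mul_cancel_left]
  have h1 := MonoidHom.transfer_eq_pow (Abelianization.of : H →* Abelianization H) z key
  have h2 : MonoidHom.transfer (Abelianization.of : H →* Abelianization H) z = 1 :=
    Abelianization.commutator_subset_ker
      (MonoidHom.transfer (Abelianization.of : H →* Abelianization H)) hz'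
  rw [h2] at h1
  rw [← Abelianization.ker_of]
  exact h1.symm

/-- A quotient of a finite abelian group embeds into it. -/
theorem exists_injective_of_surjective_finite_comm {B : Type u} {D : Type v} [CommGroup B] [Finite B]
    [CommGroup D] (π : B →* D) (hπ : Function.Surjective π) : ∃ f : D →* B, Function.Injective f := by
  have : Finite D := Finite.of_surjective _ hπ
  have hB : NeZero ((Monoid.exponent B : ℕ) : ℂ) :=
    ⟨Nat.cast_ne_zero.mpr Monoid.exponent_ne_zero_of_finite⟩
  have hD : NeZero ((Monoid.exponent D : ℕ) : ℂ) :=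
    ⟨Nat.cast_ne_zero.mpr Monoid.exponent_ne_zero_of_finite⟩
  obtain ⟨eB⟩ := CommGroup.monoidHom_mulEquiv_of_hasEnoughRootsOfUnity B ℂ
  obtain ⟨eD⟩ := CommGroup.monoidHom_mulEquiv_of_hasEnoughRootsOfUnity D ℂ
  refine ⟨(eB.toMonoidHom.comp (MonoidHom.compHom' π)).comp eD.symm.toMonoidHom, ?_⟩
  refine (eB.injective.comp ?_).comp eD.symm.injective
  intro χ χ' h
  have h' : χ.comp π = χ'.comp π := h
  exact (MonoidHom.cancel_right hπ).mp h'

end Cfsg.Agent.Lib.Helper70
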