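import Mathlib
import Cfsg.Agent.Lib.Helper70.SchurProd
import Cfsg.Agent.Lib.Helper70.SchurTransfer
import Cfsg.Agent.Lib.Helper70.StemTools

set_option autoImplicit false

/-!
# Local criteria for the Schur multiplier (helper70)

* `pow_index_mem_commutator_comap`: transfer into the preimage of a subgroup;
* `hasCyclicSchurMultiplier_one_of_local`: the multiplier is trivial as soon as, for every prime `ℓ`, some
  subgroup of index prime to `ℓ` has a preimage whose commutator subgroup avoids the kernel;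
* `hasSchurMultiplier_of_mulEquiv`: transport along a group isomorphism, across universes.
-/

namespace Cfsg.Agent.Lib.Helper70

universe u v w

/-- Transfer: in a stem extension `σ : Γ → G`, the `[G : U]`-th power of a kernel element lies in the
commutator subgroup of the preimage of `U`. -/
theorem pow_index_mem_commutator_comap {Γ : Type u} {G : Type v} [Group Γ] [Group G] [Finite G]
    (σ : Γ →* G) (hσ : Function.Surjective σ) (hc : σ.ker ≤ Subgroup.center Γ)
    (hd : σ.ker ≤ commutator Γ) (U : Subgroup G) {z : Γ} (hz : z ∈ σ.ker) :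
    z ^ U.index ∈ ⁅U.comap σ, U.comap σ⁆ := by
  have hidx : (U.comap σ).index = U.index := Subgroup.index_comap_of_surjective U hσ
  have : (U.comap σ).FiniteIndex := ⟨by rw [hidx]; exact Subgroup.index_ne_zero_of_finite⟩
  have hzH : z ^ (U.comap σ).index ∈ U.comap σ := by
    rw [Subgroup.mem_comap, map_pow, MonoidHom.mem_ker.mp hz, one_pow]; exact U.one_mem
  have h := pow_index_mem_commutator_of_central (U.comap σ) (hc hz) (hd hz) hzH
  rw [← hidx, ← Subgroup.map_subtype_commutator]
  exact ⟨_, h, rfl⟩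

/-- The preimage of a cyclic subgroup under a central extension is abelian. -/
theorem commutator_comap_eq_bot_of_isCyclic {Γ : Type u} {G : Type v} [Group Γ] [Group G]
    (σ : Γ →* G) (hc : σ.ker ≤ Subgroup.center Γ) (U : Subgroup G) [IsCyclic U] :
    ⁅U.comap σ, U.comap σ⁆ = ⊥ := by
  rw [Subgroup.commutator_eq_bot_iff_le_centralizer]
  intro a ha b hb
  have hker : (σ.subgroupComap U).ker ≤ Subgroup.center (U.comap σ) := by
    intro x hx
    rw [Subgroup.mem_center_iff]
    intro y
    apply Subtype.ext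
    have hx' : (x : Γ) ∈ σ.ker := by
      rw [MonoidHom.mem_ker] at hx ⊢
      exact congrArg Subtype.val hx
    exact Subgroup.mem_center_iff.mp (hc hx') y
  have key := MonoidHom.isMulCommutative_of_isCyclic_of_ker_le_center (σ.subgroupComap U) hker
  exact congrArg Subtype.val (key.is_comm.comm ⟨b, hb⟩ ⟨a, ha⟩)

/-- The preimage of a subgroup with trivial multiplier: its commutator subgroup avoids the kernel. -/
theorem commutator_comap_inf_ker_of_trivial {Γ : Type w} {G : Type u} [Group Γ] [Group G]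
    (σ : Γ →* G) (hσ : Function.Surjective σ) (hc : σ.ker ≤ Subgroup.center Γ) (U : Subgroup G)
    [Finite U] (hU : Cfsg.HasCyclicSchurMultiplier U 1) :
    ∀ a ∈ ⁅U.comap σ, U.comap σ⁆, a ∈ σ.ker → a = 1 := by
  have hρ : Function.Surjective (σ.subgroupComap U) :=
    MonoidHom.subgroupComap_surjective_of_surjective σ U hσ
  have hker : ∀ x : U.comap σ, σ.subgroupComap U x = 1 ↔ (x : Γ) ∈ σ.ker := by
    intro x
    rw [MonoidHom.mem_ker]
    constructor
    · intro h; exact congrArg Subtype.val h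
    · intro h; exact Subtype.ext h
  obtain ⟨f, hf⟩ := exists_hom_onto_inf_commutator σ.ker hc (U.comap σ) (σ.subgroupComap U) hρ hker hU
  intro a ha haN
  obtain ⟨x, hx⟩ := hf a ha haN
  have h1 : x = 1 := Subsingleton.elim _ _
  rw [h1, map_one] at hx
  exact hx.symm

/-- Local criterion for the triviality of the Schur multiplier. -/
theorem hasCyclicSchurMultiplier_one_of_local {G : Type u} [Group G] [Finite G]
    (h : ∀ (Γ : Type u) [Group Γ] [Finite Γ] (σ : Γ →* G), Cfsg.IsStemExtension σ → ∀ ℓ : ℕ, ℓ.Prime →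
      ∃ U : Subgroup G, ¬ ℓ ∣ U.index ∧ ∀ a ∈ ⁅U.comap σ, U.comap σ⁆, a ∈ σ.ker → a = 1) :
    Cfsg.HasCyclicSchurMultiplier G 1 := by
  rw [hasCyclicSchurMultiplier_one_iff]
  intro Γ _ _ σ hσ
  rw [eq_bot_iff]
  intro z hz
  rw [Subgroup.mem_bot]
  by_contra hne
  have hord : orderOf z ≠ 1 := fun h1 => hne (orderOf_eq_one_iff.mp h1)
  obtain ⟨ℓ, hℓ, hdvd⟩ := Nat.exists_prime_and_dvd hord
  obtain ⟨U, hU, hU'⟩ := h Γ σ hσ ℓ hℓ
  have h1 := pow_index_mem_commutator_comap σ hσ.1 hσ.2.1 hσ.2.2 U hz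
  have h2 : z ^ U.index = 1 := hU' _ h1 (Subgroup.pow_mem _ hz _)
  exact hU (hdvd.trans (orderOf_dvd_of_pow_eq_one h2))

/-! ### Transport along isomorphisms, across universes -/

/-- A finite group has an isomorphic copy in any universe. -/
theorem exists_mulEquiv_univ (Γ : Type u) [Group Γ] [Finite Γ] :
    ∃ (Γ' : Type v) (_ : Group Γ') (_ : Finite Γ'), Nonempty (Γ ≃* Γ') :=
  ⟨Shrink.{v} Γ, inferInstance, Finite.of_equiv Γ (equivShrink.{v} Γ),
    ⟨(Shrink.mulEquiv.{v} (α := Γ)).symm⟩⟩

theorem isStemExtension_congr {Γ : Type u} {Γ' : Type v} {G : Type w} {G' : Type*} [Group Γ] [Group Γ']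
    [Group G] [Group G'] (σ : Γ →* G) (hσ : Cfsg.IsStemExtension σ) (f : Γ' ≃* Γ) (e : G ≃* G') :
    Cfsg.IsStemExtension ((e.toMonoidHom.comp σ).comp f.toMonoidHom) := by
  obtain ⟨h1, h2, h3⟩ := hσ
  have hk : ∀ x : Γ', x ∈ ((e.toMonoidHom.comp σ).comp f.toMonoidHom).ker → f x ∈ σ.ker := by
    intro x hx
    rw [MonoidHom.mem_ker] at hx ⊢
    have : e (σ (f x)) = 1 := hx
    exact e.injective (this.trans (map_one e).symm)
  refine ⟨(e.surjective.comp h1).comp f.surjective, ?_, ?_⟩
  · intro x hx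
    rw [Subgroup.mem_center_iff]
    intro y
    apply f.injective
    rw [map_mul, map_mul]
    exact Subgroup.mem_center_iff.mp (h2 (hk x hx)) (f y)
  · intro x hx
    have h4 : f x ∈ commutator Γ := h3 (hk x hx)
    rw [← map_commutator_of_surjective f.toMonoidHom f.surjective] at h4
    obtain ⟨y, hy, hyx⟩ := h4
    have : y = x := f.injective hyx
    rw [← this]; exact hy

/-- The kernel is unchanged by composing with isomorphisms. -/
def kerCongr {Γ : Type u} {Γ' : Type v} {G : Type w} {G' : Type*} [Group Γ] [Group Γ']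
    [Group G] [Group G'] (σ : Γ →* G) (f : Γ' ≃* Γ) (e : G ≃* G') :
    ((e.toMonoidHom.comp σ).comp f.toMonoidHom).ker ≃* σ.ker where
  toFun x := ⟨f x, by
    have hx := x.2
    rw [MonoidHom.mem_ker] at hx ⊢
    have : e (σ (f x)) = 1 := hx
    exact e.injective (this.trans (map_one e).symm)⟩
  invFun y := ⟨f.symm y, by
    rw [MonoidHom.mem_ker]
    show e (σ (f (f.symm y))) = 1
    rw [MulEquiv.apply_symm_apply, MonoidHom.mem_ker.mp y.2, map_one]⟩
  left_inv x := by
    apply Subtype.ext
    exact f.symm_apply_apply _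
  right_inv y := by
    apply Subtype.ext
    exact f.apply_symm_apply _
  map_mul' x y := by
    apply Subtype.ext
    exact map_mul f _ _

/-- The Schur multiplier is invariant under group isomorphism, also across universes. -/
theorem hasSchurMultiplier_of_mulEquiv {G : Type u} {G' : Type v} [Group G] [Group G'] (e : G ≃* G')
    {A : Type w} [CommGroup A] (h : Cfsg.HasSchurMultiplier G A) : Cfsg.HasSchurMultiplier G' A := by
  obtain ⟨⟨Γ, i1, i2, σ, hσ, ⟨e₀⟩⟩, h2⟩ := h
  constructor
  · obtain ⟨Γ', j1, j2, ⟨f⟩⟩ := exists_mulEquiv_univ.{u, v} Γ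
    exact ⟨Γ', j1, j2, (e.toMonoidHom.comp σ).comp f.symm.toMonoidHom,
      isStemExtension_congr σ hσ f.symm e, ⟨(kerCongr σ f.symm e).trans e₀⟩⟩
  · intro Δ' _ _ τ' hτ'
    obtain ⟨Δ, j1, j2, ⟨f⟩⟩ := exists_mulEquiv_univ.{v, u} Δ'
    obtain ⟨π, hπ⟩ := h2 Δ ((e.symm.toMonoidHom.comp τ').comp f.symm.toMonoidHom)
      (isStemExtension_congr τ' hτ' f.symm e.symm)
    exact ⟨(kerCongr τ' f.symm e.symm).toMonoidHom.comp π,
      (kerCongr τ' f.symm e.symm).surjective.comp hπ⟩

end Cfsg.Agent.Lib.Helper70
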