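import Mathlib
import Cfsg.Agent.Lib.Helper70.SchurCE3

set_option autoImplicit false

open scoped commutatorElement

namespace Cfsg.Agent.Lib.Helper70

universe u v w

/-- The subgroup of elements whose `b`-th power lies in the commutator subgroup. -/
def Sb (P : Type u) [Group P] (b : ℕ) : Subgroup P :=
  ((powMonoidHom b : Abelianization P →* Abelianization P).comp Abelianization.of).ker

theorem mem_Sb {P : Type u} [Group P] (b : ℕ) (y : P) : y ∈ Sb P b ↔ y ^ b ∈ commutator P := by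
  rw [Sb, MonoidHom.mem_ker, MonoidHom.comp_apply, powMonoidHom_apply, ← map_pow, ← MonoidHom.mem_ker,
    Abelianization.ker_of]

/-- If `pr : P → Γ` is a central extension whose kernel (of exponent dividing `a`) meets the commutator
subgroup trivially, and `b` is coprime to `a` and kills `Γ / Γ'`, then `pr` maps `Sb P b` isomorphically
onto `Γ`. -/
theorem bijective_comp_Sb {P : Type u} {Γ : Type v} [Group P] [Group Γ] (pr : P →* Γ)
    (hpr : Function.Surjective pr) (hc : pr.ker ≤ Subgroup.center P)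
    (hdisj : commutator P ⊓ pr.ker = ⊥) (a b : ℕ) (hab : Nat.Coprime a b)
    (ha : ∀ y ∈ pr.ker, y ^ a = 1) (hb : ∀ g : Γ, g ^ b ∈ commutator Γ) :
    Function.Bijective (pr.comp (Sb P b).subtype) := by
  constructor
  · rw [injective_iff_map_eq_one]
    rintro ⟨y, hy⟩ h
    have hyk : y ∈ pr.ker := h
    have h1 : y ^ b = 1 := by
      have : y ^ b ∈ commutator P ⊓ pr.ker := ⟨(mem_Sb b y).mp hy, Subgroup.pow_mem _ hyk b⟩
      rw [hdisj] at this
      exact this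
    have h2 : y ^ a = 1 := ha y hyk
    have h3 : orderOf y ∣ Nat.gcd a b :=
      Nat.dvd_gcd (orderOf_dvd_of_pow_eq_one h2) (orderOf_dvd_of_pow_eq_one h1)
    rw [hab.gcd_eq_one, Nat.dvd_one, orderOf_eq_one_iff] at h3
    exact Subtype.ext h3
  · intro g
    obtain ⟨y, rfl⟩ := hpr g
    have h1 : pr y ^ b ∈ Subgroup.map pr (commutator P) := by
      rw [map_commutator_of_surjective pr hpr]
      exact hb _
    obtain ⟨c, hc', hcy⟩ := h1
    have hk' : c⁻¹ * y ^ b ∈ pr.ker := by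
      rw [MonoidHom.mem_ker, map_mul, map_inv, hcy, map_pow, inv_mul_cancel]
    have hbez : (1 : ℤ) = a * Int.gcdA a b + b * Int.gcdB a b := by
      have := Int.gcd_eq_gcd_ab a b
      rw [Int.gcd_natCast_natCast, hab.gcd_eq_one] at this
      exact_mod_cast this
    have hkker : (c⁻¹ * y ^ b)⁻¹ ^ (Int.gcdB a b) ∈ pr.ker :=
      Subgroup.zpow_mem _ (Subgroup.inv_mem _ hk') _
    have hkb : ((c⁻¹ * y ^ b)⁻¹ ^ (Int.gcdB a b)) ^ b = (c⁻¹ * y ^ b)⁻¹ := by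
      have h5 : (c⁻¹ * y ^ b)⁻¹ ^ a = 1 := ha _ (Subgroup.inv_mem _ hk')
      rw [← zpow_natCast, ← zpow_mul]
      have h6 : Int.gcdB a b * (b : ℤ) = 1 - a * Int.gcdA a b := by linarith
      rw [h6, zpow_sub, zpow_one, zpow_mul, zpow_natCast, h5, one_zpow, inv_one, mul_one]
    refine ⟨⟨y * (c⁻¹ * y ^ b)⁻¹ ^ (Int.gcdB a b), ?_⟩, ?_⟩
    · rw [mem_Sb]
      have hcomm : Commute y ((c⁻¹ * y ^ b)⁻¹ ^ (Int.gcdB a b)) :=
        Subgroup.mem_center_iff.mp (hc hkker) y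
      rw [hcomm.mul_pow, hkb]
      have : y ^ b * (c⁻¹ * y ^ b)⁻¹ = c := by group
      rw [this]
      exact hc'
    · show pr (y * (c⁻¹ * y ^ b)⁻¹ ^ (Int.gcdB a b)) = pr y
      rw [map_mul, MonoidHom.mem_ker.mp hkker, mul_one]

/-- Two homomorphisms that differ by central elements agree on the commutator subgroup. -/
theorem eq_on_commutator_of_central_diff {P : Type u} {H : Type v} [Group P] [Group H] (f g : P →* H)
    (h : ∀ y, (f y)⁻¹ * g y ∈ Subgroup.center H) : ∀ y ∈ commutator P, g y = f y := by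
  have hle : commutator P ≤ g.eqLocus f := by
    rw [commutator_eq_closure, Subgroup.closure_le]
    rintro _ ⟨a, b, rfl⟩
    show g ⁅a, b⁆ = f ⁅a, b⁆
    rw [map_commutatorElement, map_commutatorElement]
    have ha : g a = f a * ((f a)⁻¹ * g a) := by group
    have hb : g b = f b * ((f b)⁻¹ * g b) := by group
    rw [ha, hb, commutatorElement_mul_central _ _ _ _ (h a) (h b)]
  exact fun y hy => hle hy

/-- The second projection of a pullback also meets the commutator subgroup trivially. -/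
theorem pb.commutator_inf_ker_snd_eq_bot {Q : Type u} [Group Q] [Finite Q] {A : Type v} [CommGroup A]
    (hA : Cfsg.HasSchurMultiplier Q A) {Γ : Type w} [Group Γ] (σ : Γ →* Q) (hσ : Cfsg.IsStemExtension σ)
    (hk : Nonempty (σ.ker ≃* A)) {X : Type*} [Group X] (ξ : X →* Q) (hξ : Function.Surjective ξ)
    (hξker : ξ.ker ≤ Subgroup.center X) : commutator (pb ξ σ) ⊓ (pb.snd ξ σ).ker = ⊥ := by
  have h := pb.commutator_inf_ker_fst_eq_bot hA σ hσ hk ξ hξ hξker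
  let sw : pb ξ σ →* pb σ ξ :=
    ((MulEquiv.prodComm (M := X) (N := Γ)).toMonoidHom.comp (pb ξ σ).subtype).codRestrict (pb σ ξ)
      (fun y => (pb.comm_apply ξ σ y).symm)
  rw [eq_bot_iff]
  rintro y ⟨hy1, hy2⟩
  have h1 : sw y ∈ commutator (pb σ ξ) ⊓ (pb.fst σ ξ).ker := by
    refine ⟨?_, ?_⟩
    · have : Subgroup.map sw (commutator (pb ξ σ)) ≤ commutator (pb σ ξ) := by
        rw [commutator_def, commutator_def, Subgroup.map_commutator]
        exact Subgroup.commutator_mono le_top le_top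
      exact this (Subgroup.mem_map_of_mem _ hy1)
    · exact hy2
  rw [h, Subgroup.mem_bot] at h1
  rw [Subgroup.mem_bot]
  have h2 : ((sw y : pb σ ξ) : Γ × X) = 1 := congrArg Subtype.val h1
  apply Subtype.ext
  have h3 : ((y : X × Γ).2, (y : X × Γ).1) = ((1 : Γ), (1 : X)) := h2
  rw [Prod.mk.injEq] at h3
  exact Prod.ext h3.2 h3.1

/-! ### Twisted covers -/

/-- Reduction mod `m`, written multiplicatively. -/
def redZ (m : ℕ) : Multiplicative ℤ →* Multiplicative (ZMod m) :=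
  AddMonoidHom.toMultiplicative (Int.castAddHom (ZMod m))

theorem redZ_apply (m : ℕ) (t : Multiplicative ℤ) :
    redZ m t = Multiplicative.ofAdd ((t.toAdd : ℤ) : ZMod m) := rfl

theorem redZ_surjective (m : ℕ) : Function.Surjective (redZ m) := by
  intro x
  obtain ⟨t, ht⟩ := ZMod.intCast_surjective (n := m) x.toAdd
  refine ⟨Multiplicative.ofAdd t, ?_⟩
  rw [redZ_apply]
  show Multiplicative.ofAdd ((t : ℤ) : ZMod m) = x
  rw [ht]
  rfl

/-- A finite group whose commutator quotient has order divisible by `ℓ` has a cyclic direct factor of its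
commutator quotient of order divisible by `ℓ`. -/
theorem exists_cyclic_factor (Q : Type u) [Group Q] [Finite Q] (ℓ : ℕ) (hℓ : ℓ.Prime)
    (hdvd : ℓ ∣ Nat.card (Abelianization Q)) :
    ∃ m : ℕ, ℓ ∣ m ∧ 0 < m ∧ ∃ (ψ : Q →* Multiplicative (ZMod m)) (q₀ : Q),
      ψ q₀ = Multiplicative.ofAdd 1 ∧ q₀ ^ m ∈ commutator Q := by
  classical
  obtain ⟨ι, _, n, hn, ⟨E⟩⟩ := CommGroup.equiv_prod_multiplicative_zmod_of_finite (Abelianization Q)
  have hcard : Nat.card (Abelianization Q) = ∏ i, n i := by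
    rw [Nat.card_congr E.toEquiv, Nat.card_pi]
    apply Finset.prod_congr rfl
    intro i _
    exact Nat.card_zmod (n i)
  rw [hcard] at hdvd
  obtain ⟨i₀, -, hi₀⟩ := (hℓ.prime.dvd_finsetProd_iff _).mp hdvd
  refine ⟨n i₀, hi₀, by have := hn i₀; omega,
    (Pi.evalMonoidHom _ i₀).comp (E.toMonoidHom.comp Abelianization.of), ?_⟩
  obtain ⟨q₀, hq₀⟩ := QuotientGroup.mk_surjective
    (E.symm (Pi.mulSingle i₀ (Multiplicative.ofAdd 1)))
  have hq₀' : Abelianization.of q₀ = E.symm (Pi.mulSingle i₀ (Multiplicative.ofAdd 1)) := hq₀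
  refine ⟨q₀, ?_, ?_⟩
  · show E (Abelianization.of q₀) i₀ = _
    rw [hq₀', E.apply_symm_apply, Pi.mulSingle_eq_same]
  · rw [← Abelianization.ker_of, MonoidHom.mem_ker, map_pow, hq₀', ← map_pow, ← Pi.mulSingle_pow,
      ← ofAdd_nsmul]
    have h0 : (n i₀) • (1 : ZMod (n i₀)) = 0 := by simp
    rw [h0, ofAdd_zero, Pi.mulSingle_one, map_one]

/-- If `ℓ` divides `m` and the order of `K`, the `m`-th power map on `K` is not surjective. -/
theorem exists_not_pow (K : Type u) [Group K] [Finite K] (ℓ m : ℕ) (hℓ : ℓ.Prime)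
    (hK : ℓ ∣ Nat.card K) (hm : ℓ ∣ m) : ∃ k₀ : K, ∀ k : K, k ^ m ≠ k₀ := by
  have : Fact ℓ.Prime := ⟨hℓ⟩
  obtain ⟨k₁, hk₁⟩ := exists_prime_orderOf_dvd_card' ℓ hK
  have h1 : k₁ ^ m = 1 := by
    obtain ⟨c, rfl⟩ := hm
    rw [pow_mul, ← hk₁, pow_orderOf_eq_one, one_pow]
  have h2 : k₁ ≠ 1 := by
    intro h
    rw [h, orderOf_one] at hk₁
    exact hℓ.one_lt.ne hk₁
  have hninj : ¬ Function.Injective (fun k : K => k ^ m) := by
    intro hinj
    apply h2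
    apply hinj
    show k₁ ^ m = 1 ^ m
    rw [h1, one_pow]
  have hnsurj : ¬ Function.Surjective (fun k : K => k ^ m) :=
    fun hs => hninj (Finite.injective_iff_surjective.mpr hs)
  by_contra hcon
  push Not at hcon
  exact hnsurj (fun k₀ => hcon k₀)

/-- Twisting a Schur cover by a non-split abelian extension gives a cover that is not isomorphic to it
over `Q`. -/
theorem exists_twisted_cover {Γ Q : Type u} [Group Γ] [Group Q] [Finite Γ] [Finite Q] (σ : Γ →* Q)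
    (hσ : Cfsg.IsStemExtension σ) (m : ℕ) (hm : 0 < m) (ψ : Q →* Multiplicative (ZMod m)) (q₀ : Q)
    (hq₀ : ψ q₀ = Multiplicative.ofAdd 1) (hq₀m : q₀ ^ m ∈ commutator Q) (k₀ : Γ) (hk₀ : k₀ ∈ σ.ker)
    (hk₀m : ∀ k ∈ σ.ker, k ^ m ≠ k₀) :
    ∃ (Γ₂ : Type u) (_ : Group Γ₂) (_ : Finite Γ₂) (σ₂ : Γ₂ →* Q), Cfsg.IsStemExtension σ₂ ∧
      Nonempty (σ₂.ker ≃* σ.ker) ∧ ¬ ∃ e : Γ ≃* Γ₂, σ₂.comp e.toMonoidHom = σ := by
  obtain ⟨hσs, hσc, hσk⟩ := hσ
  classical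
  have hmemT : ∀ y : Γ × Multiplicative ℤ, y ∈ pb (ψ.comp σ) (redZ m) ↔ ψ (σ y.1) = redZ m y.2 :=
    fun y => Iff.rfl
  have hn₀T : ((k₀⁻¹, Multiplicative.ofAdd (m : ℤ)) : Γ × Multiplicative ℤ) ∈
      pb (ψ.comp σ) (redZ m) := by
    rw [hmemT]
    show ψ (σ k₀⁻¹) = Multiplicative.ofAdd (((m : ℤ)) : ZMod m)
    rw [map_inv, MonoidHom.mem_ker.mp hk₀, inv_one, map_one]
    simp
  have hcenT : ∀ y : pb (ψ.comp σ) (redZ m), (y : Γ × Multiplicative ℤ).1 ∈ σ.ker →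
      y ∈ Subgroup.center (pb (ψ.comp σ) (redZ m)) := by
    intro y hy
    rw [Subgroup.mem_center_iff]
    intro z
    apply Subtype.ext
    apply Prod.ext
    · exact Subgroup.mem_center_iff.mp (hσc hy) _
    · exact mul_comm _ _
  have hn₀c : (⟨(k₀⁻¹, Multiplicative.ofAdd (m : ℤ)), hn₀T⟩ : pb (ψ.comp σ) (redZ m)) ∈
      Subgroup.center (pb (ψ.comp σ) (redZ m)) := hcenT _ (Subgroup.inv_mem _ hk₀)
  have hNn : (Subgroup.zpowers (⟨(k₀⁻¹, Multiplicative.ofAdd (m : ℤ)), hn₀T⟩ :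
      pb (ψ.comp σ) (redZ m))).Normal :=
    normal_of_le_center _ (by rw [Subgroup.zpowers_le]; exact hn₀c)
  have hpow1 : ∀ j : ℤ, (((⟨(k₀⁻¹, Multiplicative.ofAdd (m : ℤ)), hn₀T⟩ :
      pb (ψ.comp σ) (redZ m)) ^ j : pb (ψ.comp σ) (redZ m)) : Γ × Multiplicative ℤ).1 = k₀⁻¹ ^ j := by
    intro j
    exact map_zpow (pb.fst (ψ.comp σ) (redZ m)) _ j
  have hpow2 : ∀ j : ℤ, (((⟨(k₀⁻¹, Multiplicative.ofAdd (m : ℤ)), hn₀T⟩ :
      pb (ψ.comp σ) (redZ m)) ^ j : pb (ψ.comp σ) (redZ m)) : Γ × Multiplicative ℤ).2 =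
      Multiplicative.ofAdd (j * (m : ℤ)) := by
    intro j
    have h := map_zpow (pb.snd (ψ.comp σ) (redZ m))
      (⟨(k₀⁻¹, Multiplicative.ofAdd (m : ℤ)), hn₀T⟩ : pb (ψ.comp σ) (redZ m)) j
    have h' : (((⟨(k₀⁻¹, Multiplicative.ofAdd (m : ℤ)), hn₀T⟩ :
      pb (ψ.comp σ) (redZ m)) ^ j : pb (ψ.comp σ) (redZ m)) : Γ × Multiplicative ℤ).2 =
      (Multiplicative.ofAdd (m : ℤ)) ^ j := h
    rw [h', ← ofAdd_zsmul, smul_eq_mul]
  -- F1
  have F1 : ∀ y : pb (ψ.comp σ) (redZ m), y ∈ Subgroup.zpowers (⟨(k₀⁻¹, Multiplicative.ofAdd (m : ℤ)), hn₀T⟩ :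
      pb (ψ.comp σ) (redZ m)) → (y : Γ × Multiplicative ℤ).2 = 1 → y = 1 := by
    intro y hy hy2
    obtain ⟨j, rfl⟩ := Subgroup.mem_zpowers_iff.mp hy
    rw [hpow2 j] at hy2
    have hj : j * (m : ℤ) = 0 := Multiplicative.ofAdd.injective hy2
    have hj0 : j = 0 := by
      rcases mul_eq_zero.mp hj with h | h
      · exact h
      · exfalso
        have : (m : ℤ) ≠ 0 := by exact_mod_cast hm.ne'
        exact this h
    rw [hj0, zpow_zero]
  -- the embedding of the kernel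
  have hj₀ : ∀ k : σ.ker, (MonoidHom.inl Γ (Multiplicative ℤ)).comp σ.ker.subtype k ∈
      pb (ψ.comp σ) (redZ m) := by
    intro k
    rw [hmemT]
    show ψ (σ (k : Γ)) = redZ m 1
    rw [MonoidHom.mem_ker.mp k.2, map_one, map_one]
  -- F2
  have F2 : ∀ y : pb (ψ.comp σ) (redZ m), (y : Γ × Multiplicative ℤ).1 ∈ σ.ker → ∃ k : σ.ker,
      QuotientGroup.mk' (Subgroup.zpowers (⟨(k₀⁻¹, Multiplicative.ofAdd (m : ℤ)), hn₀T⟩ :
        pb (ψ.comp σ) (redZ m))) y =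
      QuotientGroup.mk' (Subgroup.zpowers (⟨(k₀⁻¹, Multiplicative.ofAdd (m : ℤ)), hn₀T⟩ :
        pb (ψ.comp σ) (redZ m)))
        (((MonoidHom.inl Γ (Multiplicative ℤ)).comp σ.ker.subtype).codRestrict _ hj₀ k) := by
    rintro ⟨⟨g, t⟩, hy⟩ hg
    have hg' : g ∈ σ.ker := hg
    have h1 : ψ (σ g) = redZ m t := (hmemT _).mp hy
    rw [MonoidHom.mem_ker.mp hg', map_one, redZ_apply] at h1
    have h2 : ((t.toAdd : ℤ) : ZMod m) = 0 := (Multiplicative.ofAdd.injective h1).symm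
    rw [ZMod.intCast_zmod_eq_zero_iff_dvd] at h2
    obtain ⟨j, hj⟩ := h2
    refine ⟨⟨g * k₀ ^ j, Subgroup.mul_mem _ hg' (Subgroup.zpow_mem _ hk₀ j)⟩, ?_⟩
    apply (QuotientGroup.eq (s := Subgroup.zpowers (⟨(k₀⁻¹, Multiplicative.ofAdd (m : ℤ)), hn₀T⟩ :
        pb (ψ.comp σ) (redZ m)))).mpr
    rw [Subgroup.mem_zpowers_iff]
    refine ⟨-j, ?_⟩
    apply Subtype.ext
    apply Prod.ext
    · rw [hpow1]
      show k₀⁻¹ ^ (-j) = g⁻¹ * (g * k₀ ^ j)
      rw [inv_zpow, zpow_neg, inv_inv, inv_mul_cancel_left]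
    · rw [hpow2]
      show Multiplicative.ofAdd (-j * (m : ℤ)) = t⁻¹ * 1
      rw [mul_one]
      have ht : t = Multiplicative.ofAdd ((m : ℤ) * j) := by rw [← hj]; rfl
      rw [ht, ← ofAdd_neg]
      congr 1
      ring
  -- F3
  have hprs : Function.Surjective (pb.fst (ψ.comp σ) (redZ m)) :=
    pb.fst_surjective _ _ (redZ_surjective m)
  have F3 : ∀ c ∈ commutator Γ, ∃ hT : ((c, 1) : Γ × Multiplicative ℤ) ∈ pb (ψ.comp σ) (redZ m),
      (⟨(c, 1), hT⟩ : pb (ψ.comp σ) (redZ m)) ∈ commutator (pb (ψ.comp σ) (redZ m)) := by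
    intro c hc
    rw [← map_commutator_of_surjective _ hprs] at hc
    obtain ⟨y, hy, hyc⟩ := hc
    have hy2 : pb.snd (ψ.comp σ) (redZ m) y = 1 :=
      Abelianization.commutator_subset_ker (pb.snd (ψ.comp σ) (redZ m)) hy
    have hy' : (y : Γ × Multiplicative ℤ) = (c, 1) := Prod.ext hyc hy2
    refine ⟨hy' ▸ y.2, ?_⟩
    have : (⟨(c, 1), hy' ▸ y.2⟩ : pb (ψ.comp σ) (redZ m)) = y := Subtype.ext hy'.symm
    rw [this]
    exact hy
  -- F4
  have F4 : ∀ y : pb (ψ.comp σ) (redZ m), y ∈ Subgroup.zpowers (⟨(k₀⁻¹, Multiplicative.ofAdd (m : ℤ)), hn₀T⟩ :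
      pb (ψ.comp σ) (redZ m)) → ∃ j : ℤ, (y : Γ × Multiplicative ℤ).1 = k₀⁻¹ ^ j ∧
      (y : Γ × Multiplicative ℤ).2 = Multiplicative.ofAdd (j * (m : ℤ)) := by
    intro y hy
    obtain ⟨j, rfl⟩ := Subgroup.mem_zpowers_iff.mp hy
    exact ⟨j, hpow1 j, hpow2 j⟩
  have hNker : Subgroup.zpowers (⟨(k₀⁻¹, Multiplicative.ofAdd (m : ℤ)), hn₀T⟩ :
      pb (ψ.comp σ) (redZ m)) ≤ (σ.comp (pb.fst (ψ.comp σ) (redZ m))).ker := by
    rw [Subgroup.zpowers_le, MonoidHom.mem_ker]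
    show σ k₀⁻¹ = 1
    rw [map_inv, MonoidHom.mem_ker.mp hk₀, inv_one]
  clear hpow1 hpow2 hn₀c
  generalize Subgroup.zpowers (⟨(k₀⁻¹, Multiplicative.ofAdd (m : ℤ)), hn₀T⟩ :
      pb (ψ.comp σ) (redZ m)) = N at *
  have hσ₂mk : ∀ y : pb (ψ.comp σ) (redZ m),
      QuotientGroup.lift N (σ.comp (pb.fst (ψ.comp σ) (redZ m))) hNker (QuotientGroup.mk' N y) =
      σ (y : Γ × Multiplicative ℤ).1 := fun y => rfl
  have hσ₂s : Function.Surjective
      (QuotientGroup.lift N (σ.comp (pb.fst (ψ.comp σ) (redZ m))) hNker) := by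
    intro q
    obtain ⟨g, rfl⟩ := hσs q
    obtain ⟨y, rfl⟩ := hprs g
    exact ⟨QuotientGroup.mk' N y, rfl⟩
  have hσ₂c : (QuotientGroup.lift N (σ.comp (pb.fst (ψ.comp σ) (redZ m))) hNker).ker ≤
      Subgroup.center (pb (ψ.comp σ) (redZ m) ⧸ N) := by
    intro x hx
    obtain ⟨y, rfl⟩ := QuotientGroup.mk'_surjective N x
    have hy : (y : Γ × Multiplicative ℤ).1 ∈ σ.ker := hx
    rw [Subgroup.mem_center_iff]
    intro z
    obtain ⟨z', rfl⟩ := QuotientGroup.mk'_surjective N z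
    rw [← map_mul, ← map_mul, Subgroup.mem_center_iff.mp (hcenT y hy) z']
  have hσ₂k : (QuotientGroup.lift N (σ.comp (pb.fst (ψ.comp σ) (redZ m))) hNker).ker ≤
      commutator (pb (ψ.comp σ) (redZ m) ⧸ N) := by
    intro x hx
    obtain ⟨y, rfl⟩ := QuotientGroup.mk'_surjective N x
    have hy : (y : Γ × Multiplicative ℤ).1 ∈ σ.ker := hx
    obtain ⟨k, hk⟩ := F2 y hy
    rw [hk]
    obtain ⟨hT, hc⟩ := F3 (k : Γ) (hσk k.2)
    have hmap : Subgroup.map (QuotientGroup.mk' N) (commutator (pb (ψ.comp σ) (redZ m))) ≤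
        commutator (pb (ψ.comp σ) (redZ m) ⧸ N) := by
      rw [commutator_def, commutator_def, Subgroup.map_commutator]
      exact Subgroup.commutator_mono le_top le_top
    exact hmap (Subgroup.mem_map_of_mem _ hc)
  have hι : ∀ k : σ.ker, ((QuotientGroup.mk' N).comp
      (((MonoidHom.inl Γ (Multiplicative ℤ)).comp σ.ker.subtype).codRestrict _ hj₀)) k ∈
      (QuotientGroup.lift N (σ.comp (pb.fst (ψ.comp σ) (redZ m))) hNker).ker := by
    intro k
    rw [MonoidHom.mem_ker]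
    show σ (k : Γ) = 1
    exact k.2
  have hιbij : Function.Bijective (((QuotientGroup.mk' N).comp
      (((MonoidHom.inl Γ (Multiplicative ℤ)).comp σ.ker.subtype).codRestrict _ hj₀)).codRestrict _ hι) := by
    constructor
    · rw [injective_iff_map_eq_one]
      intro k hk
      have h1 : QuotientGroup.mk' N
          ((((MonoidHom.inl Γ (Multiplicative ℤ)).comp σ.ker.subtype).codRestrict _ hj₀) k) = 1 :=
        congrArg Subtype.val hk
      have h2 := F1 _ ((QuotientGroup.eq_one_iff _).mp h1) rfl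
      have h3 : ((k : Γ), (1 : Multiplicative ℤ)) = 1 := congrArg Subtype.val h2
      exact Subtype.ext (congrArg Prod.fst h3)
    · rintro ⟨x, hx⟩
      obtain ⟨y, rfl⟩ := QuotientGroup.mk'_surjective N x
      have hy : (y : Γ × Multiplicative ℤ).1 ∈ σ.ker := hx
      obtain ⟨k, hk⟩ := F2 y hy
      exact ⟨k, Subtype.ext hk.symm⟩
  have hfin : Finite (pb (ψ.comp σ) (redZ m) ⧸ N) := by
    have h1 : Finite (QuotientGroup.lift N (σ.comp (pb.fst (ψ.comp σ) (redZ m))) hNker).ker :=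
      Finite.of_surjective _ hιbij.surjective
    have h2 : Finite ((pb (ψ.comp σ) (redZ m) ⧸ N) ⧸
        (QuotientGroup.lift N (σ.comp (pb.fst (ψ.comp σ) (redZ m))) hNker).ker) :=
      Finite.of_equiv _ (QuotientGroup.quotientKerEquivOfSurjective _ hσ₂s).symm.toEquiv
    exact Finite.of_subgroup_quotient
      (QuotientGroup.lift N (σ.comp (pb.fst (ψ.comp σ) (redZ m))) hNker).ker
  refine ⟨pb (ψ.comp σ) (redZ m) ⧸ N, inferInstance, hfin,
    QuotientGroup.lift N (σ.comp (pb.fst (ψ.comp σ) (redZ m))) hNker, ⟨hσ₂s, hσ₂c, hσ₂k⟩,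
    ⟨(MulEquiv.ofBijective _ hιbij).symm⟩, ?_⟩
  rintro ⟨e, he⟩
  have he' : ∀ g, QuotientGroup.lift N (σ.comp (pb.fst (ψ.comp σ) (redZ m))) hNker (e g) = σ g :=
    fun g => DFunLike.congr_fun he g
  obtain ⟨g₀, hg₀⟩ := hσs q₀
  have hŷT : ((g₀, Multiplicative.ofAdd (1 : ℤ)) : Γ × Multiplicative ℤ) ∈ pb (ψ.comp σ) (redZ m) := by
    rw [hmemT]
    show ψ (σ g₀) = Multiplicative.ofAdd (((1 : ℤ)) : ZMod m)
    rw [hg₀, hq₀, Int.cast_one]
  have h1 : (QuotientGroup.mk' N ⟨_, hŷT⟩)⁻¹ * e g₀ ∈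
      (QuotientGroup.lift N (σ.comp (pb.fst (ψ.comp σ) (redZ m))) hNker).ker := by
    rw [MonoidHom.mem_ker, map_mul, map_inv, he', hσ₂mk]
    exact inv_mul_cancel _
  obtain ⟨y', hy'⟩ := QuotientGroup.mk'_surjective N ((QuotientGroup.mk' N ⟨_, hŷT⟩)⁻¹ * e g₀)
  have hy'k : (y' : Γ × Multiplicative ℤ).1 ∈ σ.ker := by
    rw [← hy'] at h1
    exact h1
  obtain ⟨k, hk⟩ := F2 y' hy'k
  have h2 : e g₀ = QuotientGroup.mk' N (⟨_, hŷT⟩ *
      (((MonoidHom.inl Γ (Multiplicative ℤ)).comp σ.ker.subtype).codRestrict _ hj₀) k) := by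
    rw [map_mul, ← hk, hy']
    group
  have h3 : e (g₀ ^ m) = QuotientGroup.mk' N ((⟨_, hŷT⟩ *
      (((MonoidHom.inl Γ (Multiplicative ℤ)).comp σ.ker.subtype).codRestrict _ hj₀) k) ^ m) := by
    rw [map_pow, h2, map_pow]
  have h4 : g₀ ^ m ∈ commutator Γ := by
    have hmem : σ (g₀ ^ m) ∈ Subgroup.map σ (commutator Γ) := by
      rw [map_commutator_of_surjective σ hσs, map_pow, hg₀]
      exact hq₀m
    obtain ⟨c, hc, hcg⟩ := hmem
    have hker : c⁻¹ * g₀ ^ m ∈ σ.ker := by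
      rw [MonoidHom.mem_ker, map_mul, map_inv, hcg, inv_mul_cancel]
    have hdec : g₀ ^ m = c * (c⁻¹ * g₀ ^ m) := by group
    rw [hdec]
    exact Subgroup.mul_mem _ hc (hσk hker)
  obtain ⟨hwT, hw⟩ := F3 _ h4
  have h5 := eq_on_commutator_of_central_diff (e.toMonoidHom.comp (pb.fst (ψ.comp σ) (redZ m)))
    (QuotientGroup.mk' N) (fun y => by
      apply hσ₂c
      rw [MonoidHom.mem_ker, map_mul, map_inv]
      show (QuotientGroup.lift N (σ.comp (pb.fst (ψ.comp σ) (redZ m))) hNker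
        (e (pb.fst (ψ.comp σ) (redZ m) y)))⁻¹ * _ = 1
      rw [he', hσ₂mk]
      exact inv_mul_cancel _) ⟨_, hwT⟩ hw
  have h5' : QuotientGroup.mk' N ⟨_, hwT⟩ = e (g₀ ^ m) := h5
  have h6 : QuotientGroup.mk' N (⟨_, hwT⟩ : pb (ψ.comp σ) (redZ m)) = QuotientGroup.mk' N ((⟨_, hŷT⟩ *
      (((MonoidHom.inl Γ (Multiplicative ℤ)).comp σ.ker.subtype).codRestrict _ hj₀) k) ^ m) :=
    h5'.trans h3
  have h7 := (QuotientGroup.eq (s := N)).mp h6
  obtain ⟨j, hj1, hj2⟩ := F4 _ h7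
  have hj2' : Multiplicative.ofAdd (j * (m : ℤ)) = Multiplicative.ofAdd (m : ℤ) := by
    rw [← hj2]
    show (1 : Multiplicative ℤ)⁻¹ * (Multiplicative.ofAdd (1 : ℤ) * 1) ^ m = _
    rw [inv_one, one_mul, mul_one, ← ofAdd_nsmul]
    simp
  have hj : j = 1 := by
    have h8 : j * (m : ℤ) = (m : ℤ) := Multiplicative.ofAdd.injective hj2'
    have hm' : (m : ℤ) ≠ 0 := by exact_mod_cast hm.ne'
    have h9 : (j - 1) * (m : ℤ) = 0 := by linarith
    rcases mul_eq_zero.mp h9 with h | h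
    · linarith
    · exact absurd h hm'
  have hj1' : k₀⁻¹ = (g₀ ^ m)⁻¹ * (g₀ * (k : Γ)) ^ m := by
    rw [hj, zpow_one] at hj1
    rw [← hj1]
    rfl
  have hcomm : Commute g₀ (k : Γ) := Subgroup.mem_center_iff.mp (hσc k.2) g₀
  rw [hcomm.mul_pow, inv_mul_cancel_left] at hj1'
  apply hk₀m ((k : Γ)⁻¹) (Subgroup.inv_mem _ k.2)
  rw [inv_pow, ← hj1', inv_inv]

end Cfsg.Agent.Lib.Helper70
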