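import Mathlib
import Cfsg.Agent.Lib.Helper70.SchurLocal
import Cfsg.Agent.Lib.Helper70.SchurUnique
import Cfsg.Agent.Lib.Helper70.SchurCE2

set_option autoImplicit false

/-!
# Local analysis of central extensions at the prime 2 (helper70), part A

* `hasCyclicSchurMultiplier_one_of_local_exp`: local criterion for the triviality of the multiplier, where
  the stem extensions may be assumed to have a kernel of prime exponent;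
* `QOne σ x`: every lift of `x` squares to one; for a central kernel of exponent 2 the square of a lift of
  an involution is a class invariant (`sq_conj`), and the product of the squares of the lifts of the seven
  nonidentity elements of an elementary abelian group of order 8 is trivial (`q_prod`).
-/

namespace Cfsg.Agent.Lib.Helper70

universe u v

/-- The subgroup of `ℓ`-th powers of a central subgroup. -/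
def powSub {Γ : Type u} [Group Γ] (K : Subgroup Γ) (hK : K ≤ Subgroup.center Γ) (ℓ : ℕ) : Subgroup Γ where
  carrier := {x | ∃ k ∈ K, k ^ ℓ = x}
  one_mem' := ⟨1, K.one_mem, one_pow ℓ⟩
  mul_mem' := by
    rintro _ _ ⟨a, ha, rfl⟩ ⟨b, hb, rfl⟩
    refine ⟨a * b, K.mul_mem ha hb, ?_⟩
    have hc : Commute a b := Subgroup.mem_center_iff.mp (hK hb) a
    exact hc.mul_pow ℓ
  inv_mem' := by
    rintro _ ⟨a, ha, rfl⟩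
    exact ⟨a⁻¹, K.inv_mem ha, inv_pow a ℓ⟩

theorem powSub_le {Γ : Type u} [Group Γ] (K : Subgroup Γ) (hK : K ≤ Subgroup.center Γ) (ℓ : ℕ) :
    powSub K hK ℓ ≤ K := by
  rintro _ ⟨k, hk, rfl⟩
  exact Subgroup.pow_mem _ hk _

/-- Local criterion for the triviality of the Schur multiplier: it is enough to treat, for each prime `ℓ`,
the stem extensions whose kernel has exponent `ℓ`. -/
theorem hasCyclicSchurMultiplier_one_of_local_exp {G : Type u} [Group G] [Finite G]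
    (h : ∀ (Γ : Type u) [Group Γ] [Finite Γ] (σ : Γ →* G), Cfsg.IsStemExtension σ → ∀ ℓ : ℕ, ℓ.Prime →
      (∀ ζ ∈ σ.ker, ζ ^ ℓ = 1) →
      ∃ U : Subgroup G, ¬ ℓ ∣ U.index ∧ ∀ a ∈ ⁅U.comap σ, U.comap σ⁆, a ∈ σ.ker → a = 1) :
    Cfsg.HasCyclicSchurMultiplier G 1 := by
  rw [hasCyclicSchurMultiplier_one_iff]
  intro Γ _ _ σ hσ
  by_contra hne
  have hcard : Nat.card σ.ker ≠ 1 := fun h1 => hne (Subgroup.card_eq_one.mp h1)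
  obtain ⟨ℓ, hℓ, hdvd⟩ := Nat.exists_prime_and_dvd hcard
  let Z₀ := powSub σ.ker hσ.2.1 ℓ
  have hZ₀K : Z₀ ≤ σ.ker := powSub_le σ.ker hσ.2.1 ℓ
  have hZ₀n : Z₀.Normal := normal_of_le_center Z₀ (hZ₀K.trans hσ.2.1)
  let σ' : Γ ⧸ Z₀ →* G := QuotientGroup.lift Z₀ σ (fun x hx => hZ₀K hx)
  have hσ'mk : ∀ x : Γ, σ' (QuotientGroup.mk x) = σ x := fun x => rfl
  have hσ' : Cfsg.IsStemExtension σ' := by
    refine ⟨?_, ?_, ?_⟩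
    · intro g
      obtain ⟨x, hx⟩ := hσ.1 g
      exact ⟨QuotientGroup.mk x, hx⟩
    · intro x' hx'
      obtain ⟨x, rfl⟩ := QuotientGroup.mk_surjective x'
      have hx : x ∈ σ.ker := by
        rw [MonoidHom.mem_ker] at hx' ⊢
        rwa [hσ'mk] at hx'
      rw [Subgroup.mem_center_iff]
      intro g'
      obtain ⟨g, rfl⟩ := QuotientGroup.mk_surjective g'
      rw [← QuotientGroup.mk_mul, ← QuotientGroup.mk_mul, Subgroup.mem_center_iff.mp (hσ.2.1 hx) g]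
    · intro x' hx'
      obtain ⟨x, rfl⟩ := QuotientGroup.mk_surjective x'
      have hx : x ∈ σ.ker := by
        rw [MonoidHom.mem_ker] at hx' ⊢
        rwa [hσ'mk] at hx'
      have hxc : x ∈ commutator Γ := hσ.2.2 hx
      rw [← map_commutator_of_surjective (QuotientGroup.mk' Z₀) (QuotientGroup.mk'_surjective Z₀)]
      exact ⟨x, hxc, rfl⟩
  have hexp : ∀ ζ ∈ σ'.ker, ζ ^ ℓ = 1 := by
    intro x' hx'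
    obtain ⟨x, rfl⟩ := QuotientGroup.mk_surjective x'
    have hx : x ∈ σ.ker := by
      rw [MonoidHom.mem_ker] at hx' ⊢
      rwa [hσ'mk] at hx'
    rw [← QuotientGroup.mk_pow, QuotientGroup.eq_one_iff]
    exact ⟨x, hx, rfl⟩
  obtain ⟨U, hU, hU'⟩ := h (Γ ⧸ Z₀) σ' hσ' ℓ hℓ hexp
  have hker' : ∀ x ∈ σ.ker, x ∈ Z₀ := by
    intro x hx
    have hx' : (QuotientGroup.mk x : Γ ⧸ Z₀) ∈ σ'.ker := by
      rw [MonoidHom.mem_ker, hσ'mk]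
      exact hx
    have h1 := pow_index_mem_commutator_comap σ' hσ'.1 hσ'.2.1 hσ'.2.2 U hx'
    have h2 : (QuotientGroup.mk x : Γ ⧸ Z₀) ^ U.index = 1 := hU' _ h1 (Subgroup.pow_mem _ hx' _)
    have h3 := hexp _ hx'
    have hcop : Nat.gcd U.index ℓ = 1 := Nat.Coprime.symm ((Nat.Prime.coprime_iff_not_dvd hℓ).mpr hU)
    have h4 : (QuotientGroup.mk x : Γ ⧸ Z₀) = 1 := by
      have := pow_gcd_eq_one.mpr ⟨h2, h3⟩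
      rwa [hcop, pow_one] at this
    exact (QuotientGroup.eq_one_iff x).mp h4
  obtain ⟨k₀, hk₀⟩ := exists_not_pow σ.ker ℓ ℓ hℓ hdvd dvd_rfl
  obtain ⟨k, hk, hkk⟩ := hker' k₀ k₀.2
  exact hk₀ ⟨k, hk⟩ (Subtype.ext hkk)

/-! ### Squares of lifts of involutions -/

section qform

variable {Γ : Type u} {P : Type v} [Group Γ] [Group P]

/-- Every lift of `x` squares to one. -/
def QOne (σ : Γ →* P) (x : P) : Prop := ∀ g : Γ, σ g = x → g * g = 1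

variable {σ : Γ →* P}

theorem sq_eq_of_map_eq (hc : σ.ker ≤ Subgroup.center Γ) (h2 : ∀ ζ ∈ σ.ker, ζ * ζ = 1) {g g' : Γ}
    (h : σ g = σ g') : g * g = g' * g' := by
  obtain ⟨ζ, hζ, rfl⟩ : ∃ ζ ∈ σ.ker, g' = g * ζ :=
    ⟨g⁻¹ * g', by rw [MonoidHom.mem_ker, map_mul, map_inv, h, inv_mul_cancel], by group⟩
  have hzc := Subgroup.mem_center_iff.mp (hc hζ)
  calc g * g = g * g * (ζ * ζ) := by rw [h2 _ hζ, mul_one]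
    _ = g * (g * ζ) * ζ := by simp only [mul_assoc]
    _ = g * (ζ * g) * ζ := by rw [hzc g]
    _ = g * ζ * (g * ζ) := by simp only [mul_assoc]

theorem qOne_one (h2 : ∀ ζ ∈ σ.ker, ζ * ζ = 1) : QOne σ 1 := fun g hg => h2 g hg

theorem sq_mem_ker {x : P} (hx : x * x = 1) {g : Γ} (hg : σ g = x) : g * g ∈ σ.ker := by
  rw [MonoidHom.mem_ker, map_mul, hg, hx]

/-- The square of a lift of an involution is a class invariant. -/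
theorem sq_conj (hc : σ.ker ≤ Subgroup.center Γ) (h2 : ∀ ζ ∈ σ.ker, ζ * ζ = 1) {x k : P}
    (hx : x * x = 1) {g g₀ κ : Γ} (hg₀ : σ g₀ = x) (hκ : σ κ = k) (hg : σ g = k * x * k⁻¹) :
    g * g = g₀ * g₀ := by
  have h1 : σ g = σ (κ * g₀ * κ⁻¹) := by rw [hg, map_mul, map_mul, map_inv, hg₀, hκ]
  rw [sq_eq_of_map_eq hc h2 h1]
  have hz := Subgroup.mem_center_iff.mp (hc (sq_mem_ker hx hg₀))
  calc κ * g₀ * κ⁻¹ * (κ * g₀ * κ⁻¹) = κ * (g₀ * g₀) * κ⁻¹ := by group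
    _ = g₀ * g₀ * κ * κ⁻¹ := by rw [hz κ]
    _ = g₀ * g₀ := by group

theorem qOne_conj (hc : σ.ker ≤ Subgroup.center Γ) (h2 : ∀ ζ ∈ σ.ker, ζ * ζ = 1) {x k : P}
    (hx : x * x = 1) (hq : QOne σ x) (hxr : x ∈ σ.range) (hk : k ∈ σ.range) :
    QOne σ (k * x * k⁻¹) := by
  obtain ⟨g₀, hg₀⟩ := MonoidHom.mem_range.mp hxr
  obtain ⟨κ, hκ⟩ := MonoidHom.mem_range.mp hk
  intro g hg
  rw [sq_conj hc h2 hx hg₀ hκ hg]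
  exact hq g₀ hg₀

theorem sq_mul (hc : σ.ker ≤ Subgroup.center Γ) {g h : Γ} (hk : g⁻¹ * h * g * h⁻¹ ∈ σ.ker) :
    g * h * (g * h) = (g * g) * (h * h) * (g⁻¹ * h * g * h⁻¹) := by
  have hz := Subgroup.mem_center_iff.mp (hc hk)
  rw [mul_assoc (g * g), hz (h * h)]
  group

theorem comm_mem_ker {u w : P} (c : u * w = w * u) {g h : Γ} (eg : σ g = u) (eh : σ h = w) :
    g⁻¹ * h * g * h⁻¹ ∈ σ.ker := by
  rw [MonoidHom.mem_ker, map_mul, map_mul, map_mul, map_inv, map_inv, eg, eh, mul_assoc u⁻¹, ← c]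
  group

/-- The product of the squares of lifts of the seven nonidentity elements of `⟨u₁, u₂, u₃⟩`. -/
theorem q_prod (hc : σ.ker ≤ Subgroup.center Γ) (h2 : ∀ ζ ∈ σ.ker, ζ * ζ = 1) {u₁ u₂ u₃ : P}
    (s1 : u₁ * u₁ = 1) (s2 : u₂ * u₂ = 1) (s3 : u₃ * u₃ = 1)
    (c12 : u₁ * u₂ = u₂ * u₁) (c13 : u₁ * u₃ = u₃ * u₁) (c23 : u₂ * u₃ = u₃ * u₂)
    {g₁ g₂ g₃ : Γ} (e1 : σ g₁ = u₁) (e2 : σ g₂ = u₂) (e3 : σ g₃ = u₃) :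
    (g₁ * g₁) * (g₂ * g₂) * (g₃ * g₃) * (g₁ * g₂ * (g₁ * g₂)) * (g₁ * g₃ * (g₁ * g₃)) *
      (g₂ * g₃ * (g₂ * g₃)) * (g₁ * g₂ * g₃ * (g₁ * g₂ * g₃)) = 1 := by
  have k12 := comm_mem_ker c12 e1 e2
  have k13 := comm_mem_ker c13 e1 e3
  have k23 := comm_mem_ker c23 e2 e3
  have c123 : (u₁ * u₂) * u₃ = u₃ * (u₁ * u₂) := by
    rw [mul_assoc, c23, ← mul_assoc, c13, mul_assoc]
  have e12 : σ (g₁ * g₂) = u₁ * u₂ := by rw [map_mul, e1, e2]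
  have k123 := comm_mem_ker c123 e12 e3
  have hz13 := Subgroup.mem_center_iff.mp (hc k13)
  have hk : (g₁ * g₂)⁻¹ * g₃ * (g₁ * g₂) * g₃⁻¹ =
      (g₁⁻¹ * g₃ * g₁ * g₃⁻¹) * (g₂⁻¹ * g₃ * g₂ * g₃⁻¹) := by
    calc (g₁ * g₂)⁻¹ * g₃ * (g₁ * g₂) * g₃⁻¹
        = g₂⁻¹ * (g₁⁻¹ * g₃ * g₁ * g₃⁻¹) * (g₃ * g₂ * g₃⁻¹) := by group
      _ = (g₁⁻¹ * g₃ * g₁ * g₃⁻¹) * g₂⁻¹ * (g₃ * g₂ * g₃⁻¹) := by rw [hz13 g₂⁻¹]
      _ = (g₁⁻¹ * g₃ * g₁ * g₃⁻¹) * (g₂⁻¹ * g₃ * g₂ * g₃⁻¹) := by group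
  rw [sq_mul hc k123, sq_mul hc k12, sq_mul hc k13, sq_mul hc k23, hk]
  -- everything is central now
  let A₁ : Subgroup.center Γ := ⟨g₁ * g₁, hc (sq_mem_ker s1 e1)⟩
  let A₂ : Subgroup.center Γ := ⟨g₂ * g₂, hc (sq_mem_ker s2 e2)⟩
  let A₃ : Subgroup.center Γ := ⟨g₃ * g₃, hc (sq_mem_ker s3 e3)⟩
  let K₁₂ : Subgroup.center Γ := ⟨g₁⁻¹ * g₂ * g₁ * g₂⁻¹, hc k12⟩
  let K₁₃ : Subgroup.center Γ := ⟨g₁⁻¹ * g₃ * g₁ * g₃⁻¹, hc k13⟩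
  let K₂₃ : Subgroup.center Γ := ⟨g₂⁻¹ * g₃ * g₂ * g₃⁻¹, hc k23⟩
  have hA1 : A₁ * A₁ = 1 := Subtype.ext (h2 _ (sq_mem_ker s1 e1))
  have hA2 : A₂ * A₂ = 1 := Subtype.ext (h2 _ (sq_mem_ker s2 e2))
  have hA3 : A₃ * A₃ = 1 := Subtype.ext (h2 _ (sq_mem_ker s3 e3))
  have hK12 : K₁₂ * K₁₂ = 1 := Subtype.ext (h2 _ k12)
  have hK13 : K₁₃ * K₁₃ = 1 := Subtype.ext (h2 _ k13)
  have hK23 : K₂₃ * K₂₃ = 1 := Subtype.ext (h2 _ k23)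
  have key : A₁ * A₂ * A₃ * (A₁ * A₂ * K₁₂) * (A₁ * A₃ * K₁₃) * (A₂ * A₃ * K₂₃) *
      (A₁ * A₂ * K₁₂ * A₃ * (K₁₃ * K₂₃)) = 1 := by
    have e : A₁ * A₂ * A₃ * (A₁ * A₂ * K₁₂) * (A₁ * A₃ * K₁₃) * (A₂ * A₃ * K₂₃) *
        (A₁ * A₂ * K₁₂ * A₃ * (K₁₃ * K₂₃)) =
        (A₁ * A₁) * (A₁ * A₁) * ((A₂ * A₂) * (A₂ * A₂)) * ((A₃ * A₃) * (A₃ * A₃)) * (K₁₂ * K₁₂) *
          (K₁₃ * K₁₃) * (K₂₃ * K₂₃) := by ac_rfl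
    rw [e, hA1, hA2, hA3, hK12, hK13, hK23]
    simp
  exact congrArg Subtype.val key

/-- If the seven nonidentity elements of `⟨u₁, u₂, u₃⟩` are conjugate to `x₀`, every lift of `x₀` squares
to one. -/
theorem qOne_of_seven_conj (hc : σ.ker ≤ Subgroup.center Γ) (h2 : ∀ ζ ∈ σ.ker, ζ * ζ = 1) {x₀ : P}
    (hx₀ : x₀ * x₀ = 1) (hx₀r : x₀ ∈ σ.range) {u₁ u₂ u₃ : P}
    (c12 : u₁ * u₂ = u₂ * u₁) (c13 : u₁ * u₃ = u₃ * u₁) (c23 : u₂ * u₃ = u₃ * u₂)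
    (h₁ : ∃ k ∈ σ.range, u₁ = k * x₀ * k⁻¹) (h₂ : ∃ k ∈ σ.range, u₂ = k * x₀ * k⁻¹)
    (h₃ : ∃ k ∈ σ.range, u₃ = k * x₀ * k⁻¹) (h₁₂ : ∃ k ∈ σ.range, u₁ * u₂ = k * x₀ * k⁻¹)
    (h₁₃ : ∃ k ∈ σ.range, u₁ * u₃ = k * x₀ * k⁻¹) (h₂₃ : ∃ k ∈ σ.range, u₂ * u₃ = k * x₀ * k⁻¹)
    (h₁₂₃ : ∃ k ∈ σ.range, u₁ * u₂ * u₃ = k * x₀ * k⁻¹) : QOne σ x₀ := by
  obtain ⟨g₀, hg₀⟩ := MonoidHom.mem_range.mp hx₀r
  have hconj : ∀ k : P, (k * x₀ * k⁻¹) * (k * x₀ * k⁻¹) = 1 := by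
    intro k
    calc (k * x₀ * k⁻¹) * (k * x₀ * k⁻¹) = k * (x₀ * x₀) * k⁻¹ := by group
      _ = 1 := by rw [hx₀]; group
  obtain ⟨k₁, hk₁, e₁⟩ := h₁
  obtain ⟨k₂, hk₂, e₂⟩ := h₂
  obtain ⟨k₃, hk₃, e₃⟩ := h₃
  obtain ⟨k₁₂, hk₁₂, e₁₂⟩ := h₁₂
  obtain ⟨k₁₃, hk₁₃, e₁₃⟩ := h₁₃
  obtain ⟨k₂₃, hk₂₃, e₂₃⟩ := h₂₃
  obtain ⟨k₁₂₃, hk₁₂₃, e₁₂₃⟩ := h₁₂₃
  obtain ⟨κ₁, hκ₁⟩ := MonoidHom.mem_range.mp hk₁
  obtain ⟨κ₂, hκ₂⟩ := MonoidHom.mem_range.mp hk₂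
  obtain ⟨κ₃, hκ₃⟩ := MonoidHom.mem_range.mp hk₃
  obtain ⟨κ₁₂, hκ₁₂⟩ := MonoidHom.mem_range.mp hk₁₂
  obtain ⟨κ₁₃, hκ₁₃⟩ := MonoidHom.mem_range.mp hk₁₃
  obtain ⟨κ₂₃, hκ₂₃⟩ := MonoidHom.mem_range.mp hk₂₃
  obtain ⟨κ₁₂₃, hκ₁₂₃⟩ := MonoidHom.mem_range.mp hk₁₂₃
  have s1 : u₁ * u₁ = 1 := by rw [e₁]; exact hconj k₁
  have s2 : u₂ * u₂ = 1 := by rw [e₂]; exact hconj k₂
  have s3 : u₃ * u₃ = 1 := by rw [e₃]; exact hconj k₃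
  have f1 : σ (κ₁ * g₀ * κ₁⁻¹) = u₁ := by rw [e₁, map_mul, map_mul, map_inv, hg₀, hκ₁]
  have f2 : σ (κ₂ * g₀ * κ₂⁻¹) = u₂ := by rw [e₂, map_mul, map_mul, map_inv, hg₀, hκ₂]
  have f3 : σ (κ₃ * g₀ * κ₃⁻¹) = u₃ := by rw [e₃, map_mul, map_mul, map_inv, hg₀, hκ₃]
  have key := q_prod hc h2 s1 s2 s3 c12 c13 c23 f1 f2 f3
  have q1 := sq_conj hc h2 hx₀ hg₀ hκ₁ (f1.trans e₁)
  have q2 := sq_conj hc h2 hx₀ hg₀ hκ₂ (f2.trans e₂)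
  have q3 := sq_conj hc h2 hx₀ hg₀ hκ₃ (f3.trans e₃)
  have q12 := sq_conj hc h2 hx₀ hg₀ hκ₁₂
    (show σ (κ₁ * g₀ * κ₁⁻¹ * (κ₂ * g₀ * κ₂⁻¹)) = _ by rw [map_mul, f1, f2, e₁₂])
  have q13 := sq_conj hc h2 hx₀ hg₀ hκ₁₃
    (show σ (κ₁ * g₀ * κ₁⁻¹ * (κ₃ * g₀ * κ₃⁻¹)) = _ by rw [map_mul, f1, f3, e₁₃])
  have q23 := sq_conj hc h2 hx₀ hg₀ hκ₂₃
    (show σ (κ₂ * g₀ * κ₂⁻¹ * (κ₃ * g₀ * κ₃⁻¹)) = _ by rw [map_mul, f2, f3, e₂₃])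
  have q123 := sq_conj hc h2 hx₀ hg₀ hκ₁₂₃
    (show σ (κ₁ * g₀ * κ₁⁻¹ * (κ₂ * g₀ * κ₂⁻¹) * (κ₃ * g₀ * κ₃⁻¹)) = _ by
      rw [map_mul, map_mul, f1, f2, f3, e₁₂₃])
  rw [q1, q2, q3, q12, q13, q23, q123] at key
  have hcc : (g₀ * g₀) * (g₀ * g₀) = 1 := h2 _ (sq_mem_ker hx₀ hg₀)
  have hc1 : g₀ * g₀ = 1 := by
    have : (g₀ * g₀) * (g₀ * g₀) * ((g₀ * g₀) * (g₀ * g₀)) * ((g₀ * g₀) * (g₀ * g₀)) * (g₀ * g₀) = 1 := by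
      rw [← key]; simp only [mul_assoc]
    rw [hcc] at this
    simpa using this
  intro g hg
  rw [sq_eq_of_map_eq hc h2 (hg.trans hg₀.symm)]
  exact hc1

/-- If six of the seven nonidentity elements of `⟨u₁, u₂, u₃⟩` only have lifts squaring to one, so has the
seventh. -/
theorem qOne_of_six (hc : σ.ker ≤ Subgroup.center Γ) (h2 : ∀ ζ ∈ σ.ker, ζ * ζ = 1) {u₁ u₂ u₃ : P}
    (r1 : u₁ ∈ σ.range) (r2 : u₂ ∈ σ.range) (r3 : u₃ ∈ σ.range)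
    (s1 : u₁ * u₁ = 1) (s2 : u₂ * u₂ = 1) (s3 : u₃ * u₃ = 1)
    (c12 : u₁ * u₂ = u₂ * u₁) (c13 : u₁ * u₃ = u₃ * u₁) (c23 : u₂ * u₃ = u₃ * u₂)
    (q1 : QOne σ u₁) (q2 : QOne σ u₂) (q3 : QOne σ u₃) (q12 : QOne σ (u₁ * u₂))
    (q13 : QOne σ (u₁ * u₃)) (q23 : QOne σ (u₂ * u₃)) : QOne σ (u₁ * u₂ * u₃) := by
  obtain ⟨g₁, e1⟩ := MonoidHom.mem_range.mp r1
  obtain ⟨g₂, e2⟩ := MonoidHom.mem_range.mp r2
  obtain ⟨g₃, e3⟩ := MonoidHom.mem_range.mp r3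
  have key := q_prod hc h2 s1 s2 s3 c12 c13 c23 e1 e2 e3
  rw [q1 g₁ e1, q2 g₂ e2, q3 g₃ e3, q12 (g₁ * g₂) (by rw [map_mul, e1, e2]),
    q13 (g₁ * g₃) (by rw [map_mul, e1, e3]), q23 (g₂ * g₃) (by rw [map_mul, e2, e3])] at key
  simp only [one_mul] at key
  intro g hg
  rw [sq_eq_of_map_eq hc h2 (show σ g = σ (g₁ * g₂ * g₃) by rw [hg, map_mul, map_mul, e1, e2, e3])]
  exact key

end qform

end Cfsg.Agent.Lib.Helper70
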