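import Mathlib

set_option autoImplicit false

/-!
# Central extensions of Suzuki-type 2-groups (helper70)

`suzuki_commutator_ker`: let `Q = {T a b}` be a group of Suzuki type over a field `F` of
characteristic 2 (`T a b * T a' b' = T (a + a') (b + b' + θ a * a')`, with `θ (θ x) = x ^ 2`),
normalised by a torus acting by `(a, b) ↦ (θ s * a, θ s * s ^ 2 * b)`.  If the field is large
enough (existence of `κ₁`, `κ₂` below), then in any central extension `σ : Γ → G` the commutator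
subgroup of the preimage of `Q` meets the kernel trivially.
-/

namespace Cfsg.Agent.Lib.Helper70

open scoped commutatorElement

/-- An invariant biadditive pairing vanishes. -/
theorem pairing_trivial {F : Type*} [Field F] {Γ : Type*} [Group Γ] (β : F → F → Γ)
    (hl : ∀ x x' y, β (x + x') y = β x y * β x' y) (hr : ∀ x y y', β x (y + y') = β x y * β x y')
    {c₁ c₂ c₃ d₁ d₂ d₃ : F} (hd₁ : d₁ ≠ 0) (hd₂ : d₂ ≠ 0) (hd₃ : d₃ ≠ 0)
    (h₁ : ∀ x y, β (c₁ * x) (d₁ * y) = β x y) (h₂ : ∀ x y, β (c₂ * x) (d₂ * y) = β x y)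
    (h₃ : ∀ x y, β (c₃ * x) (d₃ * y) = β x y) (hc : c₁ + c₂ + c₃ = 0)
    (hd : d₁⁻¹ + d₂⁻¹ + d₃⁻¹ ≠ 0) (x y : F) : β x y = 1 := by
  have h0 : ∀ y, β 0 y = 1 := by
    intro y
    have h := hl 0 0 y
    rw [add_zero] at h
    exact left_eq_mul.mp h
  have key : ∀ x y, β x ((d₁⁻¹ + d₂⁻¹ + d₃⁻¹) * y) = 1 := by
    intro x y
    have e1 : β x (d₁⁻¹ * y) = β (c₁ * x) y := by
      rw [← h₁ x (d₁⁻¹ * y), mul_inv_cancel_left₀ hd₁]
    have e2 : β x (d₂⁻¹ * y) = β (c₂ * x) y := by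
      rw [← h₂ x (d₂⁻¹ * y), mul_inv_cancel_left₀ hd₂]
    have e3 : β x (d₃⁻¹ * y) = β (c₃ * x) y := by
      rw [← h₃ x (d₃⁻¹ * y), mul_inv_cancel_left₀ hd₃]
    rw [add_mul, add_mul, hr, hr, e1, e2, e3, ← hl, ← hl, ← add_mul, ← add_mul, hc, zero_mul, h0]
  have h := key x ((d₁⁻¹ + d₂⁻¹ + d₃⁻¹)⁻¹ * y)
  rwa [mul_inv_cancel_left₀ hd] at h

section comm

variable {Γ : Type*} [Group Γ]

theorem central_conj {c : Γ} (hc : c ∈ Subgroup.center Γ) (g : Γ) : g * c * g⁻¹ = c := by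
  rw [Subgroup.mem_center_iff.mp hc g, mul_inv_cancel_right]

theorem comm_mul_left_of_central {x₁ x₂ y : Γ} (hc : ⁅x₂, y⁆ ∈ Subgroup.center Γ) :
    ⁅x₁ * x₂, y⁆ = ⁅x₁, y⁆ * ⁅x₂, y⁆ := by
  have h1 : ⁅x₁ * x₂, y⁆ = x₁ * ⁅x₂, y⁆ * x₁⁻¹ * ⁅x₁, y⁆ := by
    simp only [commutatorElement_def]; group
  rw [h1, central_conj hc, Subgroup.mem_center_iff.mp hc]

theorem comm_mul_right_of_central {x y₁ y₂ : Γ} (hc : ⁅x, y₂⁆ ∈ Subgroup.center Γ) :
    ⁅x, y₁ * y₂⁆ = ⁅x, y₁⁆ * ⁅x, y₂⁆ := by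
  have h1 : ⁅x, y₁ * y₂⁆ = ⁅x, y₁⁆ * (y₁ * ⁅x, y₂⁆ * y₁⁻¹) := by
    simp only [commutatorElement_def]; group
  rw [h1, central_conj hc]

theorem comm_conj (k x y : Γ) : ⁅k * x * k⁻¹, k * y * k⁻¹⁆ = k * ⁅x, y⁆ * k⁻¹ := by
  simp only [commutatorElement_def]; group

theorem comm_conj_of_central {k x y : Γ} (hc : ⁅x, y⁆ ∈ Subgroup.center Γ) :
    ⁅k * x * k⁻¹, k * y * k⁻¹⁆ = ⁅x, y⁆ := by
  rw [comm_conj, central_conj hc]

theorem comm_congr_of_ker_central {G : Type*} [Group G] (σ : Γ →* G)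
    (hker : σ.ker ≤ Subgroup.center Γ) {x x' y y' : Γ} (hx : σ x = σ x') (hy : σ y = σ y') :
    ⁅x, y⁆ = ⁅x', y'⁆ := by
  have hc : x⁻¹ * x' ∈ Subgroup.center Γ := hker (by
    rw [MonoidHom.mem_ker, map_mul, map_inv, hx, inv_mul_cancel])
  have hc' : y⁻¹ * y' ∈ Subgroup.center Γ := hker (by
    rw [MonoidHom.mem_ker, map_mul, map_inv, hy, inv_mul_cancel])
  have e1 : x' = x * (x⁻¹ * x') := by group
  have e2 : y' = y * (y⁻¹ * y') := by group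
  generalize x⁻¹ * x' = c at hc e1
  generalize y⁻¹ * y' = c' at hc' e2
  subst e1 e2
  have k1 : ∀ g : Γ, ⁅c, g⁆ = 1 := fun g =>
    commutatorElement_eq_one_iff_commute.mpr (Subgroup.mem_center_iff.mp hc g).symm
  have k2 : ∀ g : Γ, ⁅g, c'⁆ = 1 := fun g =>
    commutatorElement_eq_one_iff_commute.mpr (Subgroup.mem_center_iff.mp hc' g)
  rw [comm_mul_left_of_central (by rw [k1]; exact Subgroup.one_mem _), k1, mul_one,
    comm_mul_right_of_central (by rw [k2]; exact Subgroup.one_mem _), k2, mul_one]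

end comm

theorem four_comm {Γ : Type*} [Group Γ] {a b c d : Γ} (hab : a * b = b * a) (hac : a * c = c * a)
    (hcd : c * d = d * c) : a * b * (c * d)⁻¹ = (b * c⁻¹) * (a * d⁻¹) := by
  have h1 : c⁻¹ * a = a * c⁻¹ := by
    calc c⁻¹ * a = c⁻¹ * (a * c) * c⁻¹ := by group
      _ = c⁻¹ * (c * a) * c⁻¹ := by rw [hac]
      _ = a * c⁻¹ := by group
  have h2 : (c * d)⁻¹ = c⁻¹ * d⁻¹ := by rw [hcd, mul_inv_rev]
  calc a * b * (c * d)⁻¹ = b * a * (c⁻¹ * d⁻¹) := by rw [h2, hab]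
    _ = b * (a * c⁻¹) * d⁻¹ := by group
    _ = b * (c⁻¹ * a) * d⁻¹ := by rw [h1]
    _ = (b * c⁻¹) * (a * d⁻¹) := by group

/-- In a central extension of a Suzuki-type `2`-group (normalised by a torus, over a large enough
field), the commutator subgroup of the preimage of the `2`-group meets the kernel trivially. -/
theorem suzuki_commutator_ker {F : Type*} [Field F] [CharP F 2] (θ : F → F)
    (θadd : ∀ x y, θ (x + y) = θ x + θ y) (θmul : ∀ x y, θ (x * y) = θ x * θ y)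
    (θθ : ∀ x, θ (θ x) = x ^ 2) (θsurj : ∀ x, ∃ y, θ y = x)
    {G Γ : Type*} [Group G] [Group Γ] (σ : Γ →* G) (hσ : Function.Surjective σ)
    (hker : σ.ker ≤ Subgroup.center Γ)
    (T : F → F → G) (hT : ∀ a b a' b', T a b * T a' b' = T (a + a') (b + b' + θ a * a'))
    (hTinj : ∀ b, T 0 b = 1 → b = 0)
    (Hh : Fˣ → G)
    (hH : ∀ (s : Fˣ) (a b : F), Hh s * T a b = T (θ s * a) (θ s * (s : F) ^ 2 * b) * Hh s)
    (hHc : ∀ s s', Hh s * Hh s' = Hh s' * Hh s)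
    (κ₁ : F) (hκ₁ : κ₁ ≠ 0) (hκ₁' : κ₁ + 1 ≠ 0)
    (hκ₁'' : (κ₁ * θ κ₁)⁻¹ + 1 + ((κ₁ + 1) * θ (κ₁ + 1))⁻¹ ≠ 0)
    (κ₂ : F) (hκ₂ : κ₂ ≠ 0) (hκ₂' : κ₂ + 1 ≠ 0) (hκ₂'' : κ₂⁻¹ + 1 + (κ₂ + 1)⁻¹ ≠ 0)
    (Q : Subgroup G) (hQ : ∀ g ∈ Q, ∃ a b, g = T a b) :
    ∀ x ∈ ⁅Q.comap σ, Q.comap σ⁆, x ∈ σ.ker → x = 1 := by
  classical
  have hchar : ∀ x : F, x + x = 0 := CharTwo.add_self_eq_zero
  have θ0 : θ 0 = 0 := by
    have h := θadd 0 0
    rw [add_zero] at h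
    exact left_eq_add.mp h
  have θne : ∀ x, x ≠ 0 → θ x ≠ 0 := by
    intro x hx h
    have h2 := θθ x
    rw [h, θ0] at h2
    exact hx ((pow_eq_zero_iff two_ne_zero).mp h2.symm)
  have θ1 : θ 1 = 1 := by
    have h := θmul 1 1
    rw [mul_one] at h
    have h0 : θ 1 ≠ 0 := θne 1 one_ne_zero
    exact (mul_left_cancel₀ h0 (by rw [mul_one]; exact h)).symm
  -- units realising prescribed multipliers
  have unitκ : ∀ κ : F, κ ≠ 0 → ∃ s : Fˣ, θ (s : F) = κ ∧ θ (s : F) * (s : F) ^ 2 = κ * θ κ := by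
    intro κ hκ
    obtain ⟨y, hy⟩ := θsurj κ
    have hy0 : y ≠ 0 := by
      rintro rfl
      exact hκ (by rw [← hy, θ0])
    refine ⟨Units.mk0 y hy0, hy, ?_⟩
    rw [Units.val_mk0, hy, ← θθ y, hy]
  have unitL : ∀ d : F, d ≠ 0 → ∃ s : Fˣ, θ (s : F) * (s : F) ^ 2 = d := by
    intro d hd
    have hθd : θ d ≠ 0 := θne d hd
    obtain ⟨s, hs1, hs2⟩ := unitκ (θ d * d⁻¹) (mul_ne_zero hθd (inv_ne_zero hd))
    refine ⟨s, ?_⟩
    rw [hs2, θmul, θθ]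
    have h3 : θ d * θ d⁻¹ = 1 := by rw [← θmul, mul_inv_cancel₀ hd, θ1]
    calc θ d * d⁻¹ * (d ^ 2 * θ d⁻¹) = (θ d * θ d⁻¹) * (d⁻¹ * d ^ 2) := by ring
      _ = d := by rw [h3, one_mul, sq, inv_mul_cancel_left₀ hd]
  -- lifts
  let lift : G → Γ := Function.surjInv hσ
  have hlift : ∀ g, σ (lift g) = g := Function.surjInv_eq hσ
  have cenσ : ∀ c : Γ, σ c = 1 → c ∈ Subgroup.center Γ :=
    fun c hc => hker (MonoidHom.mem_ker.mpr hc)
  have cc : ∀ {x x' y y' : Γ}, σ x = σ x' → σ y = σ y' → ⁅x, y⁆ = ⁅x', y'⁆ :=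
    fun hx hy => comm_congr_of_ker_central σ hker hx hy
  -- facts on `T`
  have T00 : T 0 0 = 1 := by
    have h := hT 0 0 0 0
    simp only [add_zero, θ0, zero_mul] at h
    exact mul_eq_left.mp h
  have TZ : ∀ y y', T 0 y * T 0 y' = T 0 (y + y') := by
    intro y y'
    rw [hT, add_zero, θ0, zero_mul, add_zero]
  have Tsplit : ∀ a b, T a 0 * T 0 b = T a b := by
    intro a b
    rw [hT, add_zero, zero_add, mul_zero, add_zero]
  have TZinv : ∀ y, (T 0 y)⁻¹ = T 0 y := fun y =>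
    inv_eq_of_mul_eq_one_right (by rw [TZ, hchar, T00])
  have TZc : ∀ a b y, T a b * T 0 y = T 0 y * T a b := by
    intro a b y
    rw [hT, hT, θ0, zero_mul, mul_zero, add_zero, add_zero, add_zero, zero_add, add_comm b y]
  have Tcomm : ∀ a a', ⁅T a 0, T a' 0⁆ = T 0 (θ a * a' + θ a' * a) := by
    intro a a'
    have h1 : T a 0 * T a' 0 = T 0 (θ a * a' + θ a' * a) * (T a' 0 * T a 0) := by
      rw [hT, hT, hT, θ0]
      congr 1
      · ring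
      · linear_combination (-1 : F) * hchar (θ a' * a)
    rw [commutatorElement_def, mul_assoc (T a 0 * T a' 0), ← mul_inv_rev, h1, mul_inv_cancel_right]
  -- the torus
  have torc : ∀ (s : Fˣ) (k : Γ), σ k = Hh s → ∀ x a b, σ x = T a b →
      σ (k * x * k⁻¹) = T (θ s * a) (θ s * (s : F) ^ 2 * b) := by
    intro s k hk x a b hx
    rw [map_mul, map_mul, map_inv, hk, hx, hH, mul_inv_cancel_right]
  -- Step 1: lifts of central elements commute with each other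
  have σZZ : ∀ z z' : Γ, ∀ y y', σ z = T 0 y → σ z' = T 0 y' → σ ⁅z, z'⁆ = 1 := by
    intro z z' y y' hz hz'
    rw [map_commutatorElement, hz, hz']
    exact commutatorElement_eq_one_iff_commute.mpr (TZc 0 y y')
  have σQZ : ∀ x z : Γ, ∀ a b y, σ x = T a b → σ z = T 0 y → σ ⁅x, z⁆ = 1 := by
    intro x z a b y hx hz
    rw [map_commutatorElement, hx, hz]
    exact commutatorElement_eq_one_iff_commute.mpr (TZc a b y)
  have P2 : ∀ y y', ⁅lift (T 0 y), lift (T 0 y')⁆ = 1 := by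
    obtain ⟨s₁, hs₁⟩ := unitL κ₂ hκ₂
    obtain ⟨s₂, hs₂⟩ := unitL 1 one_ne_zero
    obtain ⟨s₃, hs₃⟩ := unitL (κ₂ + 1) hκ₂'
    have inv : ∀ (s : Fˣ) (d : F), θ (s : F) * (s : F) ^ 2 = d → ∀ y y',
        ⁅lift (T 0 (d * y)), lift (T 0 (d * y'))⁆ = ⁅lift (T 0 y), lift (T 0 y')⁆ := by
      intro s d hs y y'
      have e1 := torc s (lift (Hh s)) (hlift _) (lift (T 0 y)) 0 y (hlift _)
      have e2 := torc s (lift (Hh s)) (hlift _) (lift (T 0 y')) 0 y' (hlift _)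
      rw [mul_zero, hs] at e1 e2
      rw [cc ((hlift _).trans e1.symm) ((hlift _).trans e2.symm)]
      exact comm_conj_of_central (cenσ _ (σZZ _ _ y y' (hlift _) (hlift _)))
    refine pairing_trivial (fun y y' => ⁅lift (T 0 y), lift (T 0 y')⁆) ?_ ?_ hκ₂ one_ne_zero hκ₂'
      (inv s₁ _ hs₁) (inv s₂ _ hs₂) (inv s₃ _ hs₃) ?_ ?_
    · intro y₁ y₂ y'
      show ⁅lift (T 0 (y₁ + y₂)), lift (T 0 y')⁆ = _
      rw [cc (x' := lift (T 0 y₁) * lift (T 0 y₂)) (y' := lift (T 0 y'))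
        (by rw [hlift, map_mul, hlift, hlift, TZ]) rfl]
      exact comm_mul_left_of_central (cenσ _ (σZZ _ _ y₂ y' (hlift _) (hlift _)))
    · intro y y₁ y₂
      show ⁅lift (T 0 y), lift (T 0 (y₁ + y₂))⁆ = _
      rw [cc (x' := lift (T 0 y)) (y' := lift (T 0 y₁) * lift (T 0 y₂)) rfl
        (by rw [hlift, map_mul, hlift, hlift, TZ])]
      exact comm_mul_right_of_central (cenσ _ (σZZ _ _ y y₂ (hlift _) (hlift _)))
    · exact hchar (κ₂ + 1)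
    · rw [inv_one]; exact hκ₂''
  have ZZ : ∀ z z' : Γ, ∀ y y', σ z = T 0 y → σ z' = T 0 y' → ⁅z, z'⁆ = 1 := by
    intro z z' y y' hz hz'
    rw [cc (hz.trans (hlift _).symm) (hz'.trans (hlift _).symm)]
    exact P2 y y'
  -- Step 2: lifts of central elements commute with lifts of all elements of `Q`
  have P1 : ∀ a y, ⁅lift (T a 0), lift (T 0 y)⁆ = 1 := by
    obtain ⟨s₁, hs₁, hs₁'⟩ := unitκ κ₁ hκ₁
    obtain ⟨s₂, hs₂, hs₂'⟩ := unitκ 1 one_ne_zero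
    obtain ⟨s₃, hs₃, hs₃'⟩ := unitκ (κ₁ + 1) hκ₁'
    have inv : ∀ (s : Fˣ) (c d : F), θ (s : F) = c → θ (s : F) * (s : F) ^ 2 = d → ∀ a y,
        ⁅lift (T (c * a) 0), lift (T 0 (d * y))⁆ = ⁅lift (T a 0), lift (T 0 y)⁆ := by
      intro s c d hc hd a y
      have e1 := torc s (lift (Hh s)) (hlift _) (lift (T a 0)) a 0 (hlift _)
      have e2 := torc s (lift (Hh s)) (hlift _) (lift (T 0 y)) 0 y (hlift _)
      rw [mul_zero, hc] at e1
      rw [mul_zero, hd] at e2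
      rw [cc ((hlift _).trans e1.symm) ((hlift _).trans e2.symm)]
      exact comm_conj_of_central (cenσ _ (σQZ _ _ a 0 y (hlift _) (hlift _)))
    refine pairing_trivial (fun a y => ⁅lift (T a 0), lift (T 0 y)⁆) ?_ ?_
      (mul_ne_zero hκ₁ (θne _ hκ₁)) (mul_ne_zero one_ne_zero (θne _ one_ne_zero))
      (mul_ne_zero hκ₁' (θne _ hκ₁'))
      (inv s₁ _ _ hs₁ hs₁') (inv s₂ _ _ hs₂ hs₂') (inv s₃ _ _ hs₃ hs₃') ?_ ?_
    · intro a₁ a₂ y
      show ⁅lift (T (a₁ + a₂) 0), lift (T 0 y)⁆ = _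
      have hprod : T (a₁ + a₂) 0 = T a₁ 0 * T a₂ 0 * T 0 (θ a₁ * a₂) := by
        rw [hT, hT, mul_zero, add_zero, add_zero, add_zero, zero_add, hchar]
      rw [cc (x' := lift (T a₁ 0) * lift (T a₂ 0) * lift (T 0 (θ a₁ * a₂))) (y' := lift (T 0 y))
        (by rw [hlift, map_mul, map_mul, hlift, hlift, hlift, hprod]) rfl]
      rw [comm_mul_left_of_central (by rw [P2]; exact Subgroup.one_mem _), P2, mul_one]
      exact comm_mul_left_of_central (cenσ _ (σQZ _ _ a₂ 0 y (hlift _) (hlift _)))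
    · intro a y₁ y₂
      show ⁅lift (T a 0), lift (T 0 (y₁ + y₂))⁆ = _
      rw [cc (x' := lift (T a 0)) (y' := lift (T 0 y₁) * lift (T 0 y₂)) rfl
        (by rw [hlift, map_mul, hlift, hlift, TZ])]
      exact comm_mul_right_of_central (cenσ _ (σQZ _ _ a 0 y₂ (hlift _) (hlift _)))
    · exact hchar (κ₁ + 1)
    · rw [one_mul, θ1, inv_one]; exact hκ₁''
  have QZ : ∀ x z : Γ, ∀ a b y, σ x = T a b → σ z = T 0 y → ⁅x, z⁆ = 1 := by
    intro x z a b y hx hz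
    rw [cc (x' := lift (T a 0) * lift (T 0 b)) (y' := lift (T 0 y))
      (by rw [hx, map_mul, hlift, hlift, Tsplit]) (hz.trans (hlift _).symm)]
    rw [comm_mul_left_of_central (by rw [P2]; exact Subgroup.one_mem _), P2, P1, mul_one]
  have QZc : ∀ x z : Γ, ∀ a b y, σ x = T a b → σ z = T 0 y → x * z = z * x := by
    intro x z a b y hx hz
    exact commutatorElement_eq_one_iff_commute.mp (QZ x z a b y hx hz)
  have ZQ : ∀ x z : Γ, ∀ a b y, σ x = T a b → σ z = T 0 y → ⁅z, x⁆ = 1 := by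
    intro x z a b y hx hz
    exact commutatorElement_eq_one_iff_commute.mpr (QZc x z a b y hx hz).symm
  -- Step 3: canonical lifts of the central elements
  obtain ⟨s₀, hs₀⟩ := unitL κ₂ hκ₂
  let k₀ : Γ := lift (Hh s₀)
  have hk₀ : σ k₀ = Hh s₀ := hlift _
  let zh : F → Γ := fun b => ⁅k₀, lift (T 0 ((κ₂ + 1)⁻¹ * b))⁆
  have hzh : ∀ b, σ (zh b) = T 0 b := by
    intro b
    show σ ⁅k₀, lift (T 0 ((κ₂ + 1)⁻¹ * b))⁆ = _
    rw [map_commutatorElement, hk₀, hlift, commutatorElement_def, hH, mul_inv_cancel_right,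
      mul_zero, hs₀, TZinv, TZ]
    congr 1
    field_simp
  have zh_add : ∀ b b', zh (b + b') = zh b * zh b' := by
    intro b b'
    show ⁅k₀, lift (T 0 ((κ₂ + 1)⁻¹ * (b + b')))⁆ = _
    rw [cc (x' := k₀) (y' := lift (T 0 ((κ₂ + 1)⁻¹ * b)) * lift (T 0 ((κ₂ + 1)⁻¹ * b'))) rfl
      (by rw [hlift, map_mul, hlift, hlift, TZ, mul_add])]
    have h1 : ⁅k₀, lift (T 0 ((κ₂ + 1)⁻¹ * b)) * lift (T 0 ((κ₂ + 1)⁻¹ * b'))⁆ =
        zh b * (lift (T 0 ((κ₂ + 1)⁻¹ * b)) * zh b' * (lift (T 0 ((κ₂ + 1)⁻¹ * b)))⁻¹) := by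
      show _ = ⁅k₀, _⁆ * (_ * ⁅k₀, _⁆ * _)
      simp only [commutatorElement_def]; group
    rw [h1, QZc (lift (T 0 ((κ₂ + 1)⁻¹ * b))) (zh b') 0 _ b' (hlift _) (hzh b'),
      mul_inv_cancel_right]
  have zh0 : zh 0 = 1 := by
    have h := zh_add 0 0
    rw [add_zero] at h
    exact left_eq_mul.mp h
  have zh_conj : ∀ (s : Fˣ) (k : Γ), σ k = Hh s → ∀ b,
      k * zh b * k⁻¹ = zh (θ (s : F) * (s : F) ^ 2 * b) := by
    intro s k hk b
    show k * ⁅k₀, lift (T 0 ((κ₂ + 1)⁻¹ * b))⁆ * k⁻¹ = ⁅k₀, _⁆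
    rw [← comm_conj]
    apply cc
    · rw [map_mul, map_mul, map_inv, hk, hk₀, hHc, mul_inv_cancel_right]
    · rw [torc s k hk _ 0 _ (hlift _), hlift, mul_zero]
      congr 1
      ring
  -- Step 4: commutators of lifts
  have Qc : ∀ x y : Γ, ∀ a b a' b', σ x = T a b → σ y = T a' b' →
      ⁅x, y⁆ = ⁅lift (T a 0), lift (T a' 0)⁆ := by
    intro x y a b a' b' hx hy
    rw [cc (x' := lift (T a 0) * lift (T 0 b)) (y' := lift (T a' 0) * lift (T 0 b'))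
      (by rw [hx, map_mul, hlift, hlift, Tsplit]) (by rw [hy, map_mul, hlift, hlift, Tsplit])]
    have h1 : ⁅lift (T 0 b), lift (T a' 0) * lift (T 0 b')⁆ = 1 :=
      ZQ _ _ a' b' b (by rw [map_mul, hlift, hlift, Tsplit]) (hlift _)
    rw [comm_mul_left_of_central (by rw [h1]; exact Subgroup.one_mem _), h1, mul_one]
    have h2 : ⁅lift (T a 0), lift (T 0 b')⁆ = 1 := P1 a b'
    rw [comm_mul_right_of_central (by rw [h2]; exact Subgroup.one_mem _), h2, mul_one]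
  let cf : F → F → F := fun a a' => θ a * a' + θ a' * a
  let γ : F → F → Γ := fun a a' => ⁅lift (T a 0), lift (T a' 0)⁆ * (zh (cf a a'))⁻¹
  have hδ : ∀ a a', σ ⁅lift (T a 0), lift (T a' 0)⁆ = T 0 (cf a a') := by
    intro a a'
    rw [map_commutatorElement, hlift, hlift, Tcomm]
  have hγσ : ∀ a a', σ (γ a a') = 1 := by
    intro a a'
    show σ (⁅lift (T a 0), lift (T a' 0)⁆ * (zh (cf a a'))⁻¹) = 1
    rw [map_mul, map_inv, hδ, hzh, mul_inv_cancel]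
  have hγc : ∀ a a', γ a a' ∈ Subgroup.center Γ := fun a a' => cenσ _ (hγσ a a')
  have hδγ : ∀ a a', ⁅lift (T a 0), lift (T a' 0)⁆ = γ a a' * zh (cf a a') := by
    intro a a'
    show _ = ⁅lift (T a 0), lift (T a' 0)⁆ * (zh (cf a a'))⁻¹ * zh (cf a a')
    rw [inv_mul_cancel_right]
  have Zcomm : ∀ u v : Γ, ∀ y y', σ u = T 0 y → σ v = T 0 y' → u * v = v * u :=
    fun u v y y' hu hv => QZc u v 0 y y' hu hv
  have P3 : ∀ a a', γ a a' = 1 := by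
    obtain ⟨s₁, hs₁, hs₁'⟩ := unitκ κ₂ hκ₂
    obtain ⟨s₂, hs₂, hs₂'⟩ := unitκ 1 one_ne_zero
    obtain ⟨s₃, hs₃, hs₃'⟩ := unitκ (κ₂ + 1) hκ₂'
    have inv : ∀ (s : Fˣ) (c : F), θ (s : F) = c → ∀ a a', γ (c * a) (c * a') = γ a a' := by
      intro s c hc a a'
      have e1 := torc s (lift (Hh s)) (hlift _) (lift (T a 0)) a 0 (hlift _)
      have e2 := torc s (lift (Hh s)) (hlift _) (lift (T a' 0)) a' 0 (hlift _)
      rw [hc] at e1 e2
      have h1 : ⁅lift (T (c * a) 0), lift (T (c * a') 0)⁆ =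
          lift (Hh s) * ⁅lift (T a 0), lift (T a' 0)⁆ * (lift (Hh s))⁻¹ := by
        rw [← comm_conj]
        exact (Qc _ _ _ _ _ _ e1 e2).symm
      have h2 : cf (c * a) (c * a') = θ (s : F) * (s : F) ^ 2 * cf a a' := by
        show θ (c * a) * (c * a') + θ (c * a') * (c * a) = _ * (θ a * a' + θ a' * a)
        rw [θmul, θmul, ← hc, θθ]
        ring
      show ⁅lift (T (c * a) 0), lift (T (c * a') 0)⁆ * (zh (cf (c * a) (c * a')))⁻¹ = γ a a'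
      rw [h1, hδγ, h2, ← zh_conj s (lift (Hh s)) (hlift _)]
      have e : lift (Hh s) * (γ a a' * zh (cf a a')) * (lift (Hh s))⁻¹ *
          (lift (Hh s) * zh (cf a a') * (lift (Hh s))⁻¹)⁻¹ =
          lift (Hh s) * γ a a' * (lift (Hh s))⁻¹ := by group
      rw [e, central_conj (hγc a a')]
    refine pairing_trivial γ ?_ ?_ hκ₂ one_ne_zero hκ₂'
      (inv s₁ _ hs₁) (inv s₂ _ hs₂) (inv s₃ _ hs₃) ?_ ?_
    · intro a₁ a₂ a'
      have hcf : cf (a₁ + a₂) a' = cf a₁ a' + cf a₂ a' := by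
        show θ (a₁ + a₂) * a' + θ a' * (a₁ + a₂) = (θ a₁ * a' + θ a' * a₁) + (θ a₂ * a' + θ a' * a₂)
        rw [θadd]; ring
      have h1 : ⁅lift (T (a₁ + a₂) 0), lift (T a' 0)⁆ =
          ⁅lift (T a₂ 0), lift (T a' 0)⁆ * ⁅lift (T a₁ 0), lift (T a' 0)⁆ := by
        rw [← Qc (lift (T a₁ 0) * lift (T a₂ 0)) (lift (T a' 0)) (a₁ + a₂) (θ a₁ * a₂) a' 0
          (by rw [map_mul, hlift, hlift, hT, add_zero, zero_add]) (hlift _)]
        have h2 : ⁅lift (T a₁ 0) * lift (T a₂ 0), lift (T a' 0)⁆ =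
            lift (T a₁ 0) * ⁅lift (T a₂ 0), lift (T a' 0)⁆ * (lift (T a₁ 0))⁻¹ *
              ⁅lift (T a₁ 0), lift (T a' 0)⁆ := by
          simp only [commutatorElement_def]; group
        rw [h2, QZc (lift (T a₁ 0)) _ a₁ 0 _ (hlift _) (hδ a₂ a'), mul_inv_cancel_right]
      show ⁅lift (T (a₁ + a₂) 0), lift (T a' 0)⁆ * (zh (cf (a₁ + a₂) a'))⁻¹ =
        (⁅lift (T a₁ 0), lift (T a' 0)⁆ * (zh (cf a₁ a'))⁻¹) *
          (⁅lift (T a₂ 0), lift (T a' 0)⁆ * (zh (cf a₂ a'))⁻¹)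
      rw [h1, hcf, zh_add]
      exact four_comm (Zcomm _ _ _ _ (hδ a₂ a') (hδ a₁ a'))
        (Zcomm _ _ _ _ (hδ a₂ a') (hzh _)) (Zcomm _ _ _ _ (hzh _) (hzh _))
    · intro a a₁' a₂'
      have hcf : cf a (a₁' + a₂') = cf a a₁' + cf a a₂' := by
        show θ a * (a₁' + a₂') + θ (a₁' + a₂') * a = (θ a * a₁' + θ a₁' * a) + (θ a * a₂' + θ a₂' * a)
        rw [θadd]; ring
      have h1 : ⁅lift (T a 0), lift (T (a₁' + a₂') 0)⁆ =
          ⁅lift (T a 0), lift (T a₁' 0)⁆ * ⁅lift (T a 0), lift (T a₂' 0)⁆ := by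
        rw [← Qc (lift (T a 0)) (lift (T a₁' 0) * lift (T a₂' 0)) a 0 (a₁' + a₂') (θ a₁' * a₂')
          (hlift _) (by rw [map_mul, hlift, hlift, hT, add_zero, zero_add])]
        have h2 : ⁅lift (T a 0), lift (T a₁' 0) * lift (T a₂' 0)⁆ =
            ⁅lift (T a 0), lift (T a₁' 0)⁆ * (lift (T a₁' 0) * ⁅lift (T a 0), lift (T a₂' 0)⁆ *
              (lift (T a₁' 0))⁻¹) := by
          simp only [commutatorElement_def]; group
        rw [h2, QZc (lift (T a₁' 0)) _ a₁' 0 _ (hlift _) (hδ a a₂'), mul_inv_cancel_right]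
      show ⁅lift (T a 0), lift (T (a₁' + a₂') 0)⁆ * (zh (cf a (a₁' + a₂')))⁻¹ =
        (⁅lift (T a 0), lift (T a₁' 0)⁆ * (zh (cf a a₁'))⁻¹) *
          (⁅lift (T a 0), lift (T a₂' 0)⁆ * (zh (cf a a₂'))⁻¹)
      rw [h1, hcf, zh_add, Zcomm _ _ _ _ (hδ a a₁') (hδ a a₂')]
      exact four_comm (Zcomm _ _ _ _ (hδ a a₂') (hδ a a₁'))
        (Zcomm _ _ _ _ (hδ a a₂') (hzh _)) (Zcomm _ _ _ _ (hzh _) (hzh _))
    · exact hchar (κ₂ + 1)
    · rw [inv_one]; exact hκ₂''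
  -- conclusion
  let Z₁ : Subgroup Γ :=
    { carrier := Set.range zh
      mul_mem' := by
        rintro _ _ ⟨b, rfl⟩ ⟨b', rfl⟩
        exact ⟨b + b', zh_add b b'⟩
      one_mem' := ⟨0, zh0⟩
      inv_mem' := by
        rintro _ ⟨b, rfl⟩
        refine ⟨b, ?_⟩
        symm
        apply inv_eq_of_mul_eq_one_right
        rw [← zh_add, hchar, zh0] }
  have hle : ⁅Q.comap σ, Q.comap σ⁆ ≤ Z₁ := by
    rw [Subgroup.commutator_le]
    intro g₁ hg₁ g₂ hg₂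
    obtain ⟨a, b, hab⟩ := hQ _ (Subgroup.mem_comap.mp hg₁)
    obtain ⟨a', b', hab'⟩ := hQ _ (Subgroup.mem_comap.mp hg₂)
    refine ⟨cf a a', ?_⟩
    rw [Qc g₁ g₂ a b a' b' hab hab', hδγ, P3, one_mul]
  intro x hx hxk
  obtain ⟨b, rfl⟩ := hle hx
  have hb : b = 0 := hTinj b (by rw [← hzh b]; exact MonoidHom.mem_ker.mp hxk)
  rw [hb, zh0]

end Cfsg.Agent.Lib.Helper70
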