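import Mathlib
import Cfsg.Agent.Lib.Helper70.SchurTwoA
import Cfsg.Agent.Lib.Helper70.SuzukiExt

set_option autoImplicit false

/-!
# Local analysis of central extensions at the prime 2 (helper70), part B

Let `σ : Γ → P` have a central kernel of exponent 2, let `V` be a subgroup of `P` all of whose elements
have only lifts squaring to one (so that the preimage of `V` is elementary abelian), let `y` be an element
of order dividing 3 normalising `V` without nontrivial fixed points on `V`, and let `D` be a subgroup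
normalising `V` and `⟨y⟩` which has a lift `D₁` to `Γ`.  Then the commutator subgroup of the preimage of
`V ⊔ D` meets the kernel trivially (`two_local`).  The complement to the kernel in the preimage of `V` is
the kernel of the norm map of a lift of `y` (`exists_normCompl`).
-/

namespace Cfsg.Agent.Lib.Helper70

universe u v

open scoped commutatorElement

section complement

variable {Γ : Type u} {P : Type v} [Group Γ] [Group P] {σ : Γ →* P}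

theorem conj_eq_of_map_eq (hc : σ.ker ≤ Subgroup.center Γ) {a b : Γ} (h : σ a = σ b) (g : Γ) :
    a * g * a⁻¹ = b * g * b⁻¹ := by
  obtain ⟨ζ, hζ, rfl⟩ : ∃ ζ ∈ σ.ker, a = b * ζ :=
    ⟨b⁻¹ * a, by rw [MonoidHom.mem_ker, map_mul, map_inv, h, inv_mul_cancel], by group⟩
  have hz := Subgroup.mem_center_iff.mp (hc hζ)
  calc b * ζ * g * (b * ζ)⁻¹ = b * (ζ * g) * ζ⁻¹ * b⁻¹ := by group
    _ = b * (g * ζ) * ζ⁻¹ * b⁻¹ := by rw [hz g]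
    _ = b * g * b⁻¹ := by group

theorem conj_eq_of_map_eq' (hc : σ.ker ≤ Subgroup.center Γ) {a b : Γ} (h : σ a = σ b) (g : Γ) :
    a⁻¹ * g * a = b⁻¹ * g * b := by
  have h' : σ a⁻¹ = σ b⁻¹ := by rw [map_inv, map_inv, h]
  have := conj_eq_of_map_eq hc h' g
  rwa [inv_inv, inv_inv] at this

theorem exists_normCompl (hc : σ.ker ≤ Subgroup.center Γ) (h2 : ∀ ζ ∈ σ.ker, ζ * ζ = 1)
    (V : Subgroup P) (y : P) (hVr : V ≤ σ.range) (hyr : y ∈ σ.range)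
    (hVQ : ∀ v ∈ V, QOne σ v) (hy3 : y * y * y = 1) (hyV : ∀ v ∈ V, y * v * y⁻¹ ∈ V)
    (hfix : ∀ v ∈ V, y * v * y⁻¹ = v → v = 1) :
    ∃ V₁ : Subgroup Γ, (∀ g ∈ V₁, σ g ∈ V) ∧ (∀ g ∈ V₁, g ∈ σ.ker → g = 1) ∧
      (∀ v ∈ V, ∃ g ∈ V₁, σ g = v) ∧
      (∀ δ : Γ, (∀ v ∈ V, σ δ * v * (σ δ)⁻¹ ∈ V) →
        (σ δ * y * (σ δ)⁻¹ = y ∨ σ δ * y * (σ δ)⁻¹ = y⁻¹) → ∀ g ∈ V₁, δ * g * δ⁻¹ ∈ V₁) := by
  obtain ⟨η, hη⟩ := MonoidHom.mem_range.mp hyr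
  have hyy : y * y = y⁻¹ := mul_eq_one_iff_eq_inv.mp hy3
  have hyV' : ∀ v ∈ V, y⁻¹ * v * y ∈ V := by
    intro v hv
    have h := hyV _ (hyV v hv)
    have e : y * (y * v * y⁻¹) * y⁻¹ = y⁻¹ * v * y := by
      calc y * (y * v * y⁻¹) * y⁻¹ = (y * y) * v * (y * y)⁻¹ := by group
        _ = y⁻¹ * v * y := by rw [hyy, inv_inv]
    rwa [e] at h
  have F1 : ∀ g : Γ, σ g ∈ V → g * g = 1 := fun g hg => hVQ _ hg g rfl
  have F2 : ∀ g h : Γ, σ g ∈ V → σ h ∈ V → g * h = h * g := by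
    intro g h hg hh
    have h1 := F1 g hg
    have h2' := F1 h hh
    have h3 := F1 (g * h) (by rw [map_mul]; exact V.mul_mem hg hh)
    have e1 : g * h = (g * h)⁻¹ := eq_inv_of_mul_eq_one_left h3
    have e2 : g⁻¹ = g := (eq_inv_of_mul_eq_one_left h1).symm
    have e3 : h⁻¹ = h := (eq_inv_of_mul_eq_one_left h2').symm
    rw [e1, mul_inv_rev, e2, e3]
  have Fη : ∀ g : Γ, σ g ∈ V → σ (η * g * η⁻¹) ∈ V := by
    intro g hg
    rw [map_mul, map_mul, map_inv, hη]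
    exact hyV _ hg
  have Fη' : ∀ g : Γ, σ g ∈ V → σ (η⁻¹ * g * η) ∈ V := by
    intro g hg
    rw [map_mul, map_mul, map_inv, hη]
    exact hyV' _ hg
  have hη3 : η * η * η ∈ σ.ker := by rw [MonoidHom.mem_ker, map_mul, map_mul, hη, hy3]
  have hη3c := Subgroup.mem_center_iff.mp (hc hη3)
  have Fηη : ∀ g : Γ, η * (η * g * η⁻¹) * η⁻¹ = η⁻¹ * g * η := by
    intro g
    calc η * (η * g * η⁻¹) * η⁻¹ = η⁻¹ * ((η * η * η) * g) * (η * η * η)⁻¹ * η := by group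
      _ = η⁻¹ * (g * (η * η * η)) * (η * η * η)⁻¹ * η := by rw [hη3c g]
      _ = η⁻¹ * g * η := by group
  have Nmul : ∀ g h : Γ, σ g ∈ V → σ h ∈ V →
      g * h * (η * (g * h) * η⁻¹) * (η⁻¹ * (g * h) * η) =
        g * (η * g * η⁻¹) * (η⁻¹ * g * η) * (h * (η * h * η⁻¹) * (η⁻¹ * h * η)) := by
    intro g h hg hh
    have e1 : η * (g * h) * η⁻¹ = (η * g * η⁻¹) * (η * h * η⁻¹) := by group
    have e2 : η⁻¹ * (g * h) * η = (η⁻¹ * g * η) * (η⁻¹ * h * η) := by group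
    rw [e1, e2]
    have c1 : h * (η * g * η⁻¹) = (η * g * η⁻¹) * h := F2 _ _ hh (Fη g hg)
    have c2 : h * (η⁻¹ * g * η) = (η⁻¹ * g * η) * h := F2 _ _ hh (Fη' g hg)
    have c3 : (η * h * η⁻¹) * (η⁻¹ * g * η) = (η⁻¹ * g * η) * (η * h * η⁻¹) :=
      F2 _ _ (Fη h hh) (Fη' g hg)
    generalize η * g * η⁻¹ = a₂ at c1 c3 ⊢
    generalize η⁻¹ * g * η = a₃ at c2 c3 ⊢
    generalize η * h * η⁻¹ = b₂ at c3 ⊢
    generalize η⁻¹ * h * η = b₃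
    calc g * h * (a₂ * b₂) * (a₃ * b₃) = g * (h * a₂) * b₂ * a₃ * b₃ := by simp only [mul_assoc]
      _ = g * (a₂ * h) * b₂ * a₃ * b₃ := by rw [c1]
      _ = g * a₂ * (h * (b₂ * a₃)) * b₃ := by simp only [mul_assoc]
      _ = g * a₂ * (h * (a₃ * b₂)) * b₃ := by rw [c3]
      _ = g * a₂ * ((h * a₃) * b₂) * b₃ := by simp only [mul_assoc]
      _ = g * a₂ * ((a₃ * h) * b₂) * b₃ := by rw [c2]
      _ = g * a₂ * a₃ * (h * b₂ * b₃) := by simp only [mul_assoc]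
  have Ncen : ∀ ζ ∈ σ.ker, ζ * (η * ζ * η⁻¹) * (η⁻¹ * ζ * η) = ζ := by
    intro ζ hζ
    have hz := Subgroup.mem_center_iff.mp (hc hζ)
    have e1 : η * ζ * η⁻¹ = ζ := by rw [hz η]; group
    have e2 : η⁻¹ * ζ * η = ζ := by rw [hz η⁻¹]; group
    rw [e1, e2, h2 ζ hζ, one_mul]
  refine ⟨{ carrier := {g | σ g ∈ V ∧ g * (η * g * η⁻¹) * (η⁻¹ * g * η) = 1}
            one_mem' := ⟨by rw [map_one]; exact V.one_mem, by group⟩
            mul_mem' := by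
              rintro g h ⟨hg, hg1⟩ ⟨hh, hh1⟩
              exact ⟨by rw [map_mul]; exact V.mul_mem hg hh, by rw [Nmul g h hg hh, hg1, hh1, one_mul]⟩
            inv_mem' := by
              rintro g ⟨hg, hg1⟩
              have e : g⁻¹ = g := (eq_inv_of_mul_eq_one_left (F1 g hg)).symm
              rw [e]
              exact ⟨hg, hg1⟩ }, ?_, ?_, ?_, ?_⟩
  · intro g hg
    exact hg.1
  · rintro g ⟨hg, hg1⟩ hk
    rw [Ncen g hk] at hg1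
    exact hg1
  · intro v hv
    obtain ⟨g₀, hg₀⟩ := MonoidHom.mem_range.mp (hVr hv)
    have hg₀V : σ g₀ ∈ V := by rw [hg₀]; exact hv
    have ha₂ := Fη g₀ hg₀V
    have ha₃ := Fη' g₀ hg₀V
    have hζV : σ (g₀ * (η * g₀ * η⁻¹) * (η⁻¹ * g₀ * η)) ∈ V := by
      rw [map_mul, map_mul]
      exact V.mul_mem (V.mul_mem hg₀V ha₂) ha₃
    have hconj : η * (g₀ * (η * g₀ * η⁻¹) * (η⁻¹ * g₀ * η)) * η⁻¹ =
        g₀ * (η * g₀ * η⁻¹) * (η⁻¹ * g₀ * η) := by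
      have e0 : η * (η⁻¹ * g₀ * η) * η⁻¹ = g₀ := by group
      have hcm : (η * g₀ * η⁻¹) * (η⁻¹ * g₀ * η) * g₀ = g₀ * ((η * g₀ * η⁻¹) * (η⁻¹ * g₀ * η)) :=
        F2 _ _ (by rw [map_mul]; exact V.mul_mem ha₂ ha₃) hg₀V
      calc η * (g₀ * (η * g₀ * η⁻¹) * (η⁻¹ * g₀ * η)) * η⁻¹
          = (η * g₀ * η⁻¹) * (η * (η * g₀ * η⁻¹) * η⁻¹) * (η * (η⁻¹ * g₀ * η) * η⁻¹) := by group
        _ = (η * g₀ * η⁻¹) * (η⁻¹ * g₀ * η) * g₀ := by rw [Fηη g₀, e0]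
        _ = g₀ * (η * g₀ * η⁻¹) * (η⁻¹ * g₀ * η) := by rw [hcm]; simp only [mul_assoc]
    have hζ1 : σ (g₀ * (η * g₀ * η⁻¹) * (η⁻¹ * g₀ * η)) = 1 := by
      apply hfix _ hζV
      have := congrArg σ hconj
      rw [map_mul, map_mul, map_inv, hη] at this
      exact this
    have hζk : g₀ * (η * g₀ * η⁻¹) * (η⁻¹ * g₀ * η) ∈ σ.ker := MonoidHom.mem_ker.mpr hζ1
    refine ⟨g₀ * (g₀ * (η * g₀ * η⁻¹) * (η⁻¹ * g₀ * η)), ⟨?_, ?_⟩, ?_⟩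
    · rw [map_mul, hζ1, mul_one]; exact hg₀V
    · rw [Nmul _ _ hg₀V (by rw [hζ1]; exact V.one_mem), Ncen _ hζk]
      exact h2 _ hζk
    · rw [map_mul, hζ1, mul_one]; exact hg₀
  · rintro δ hδV hδy g ⟨hg, hg1⟩
    refine ⟨?_, ?_⟩
    · rw [map_mul, map_mul, map_inv]
      exact hδV _ hg
    · have e : δ * g * δ⁻¹ * (η * (δ * g * δ⁻¹) * η⁻¹) * (η⁻¹ * (δ * g * δ⁻¹) * η) =
          δ * (g * ((δ⁻¹ * η * δ) * g * (δ⁻¹ * η * δ)⁻¹) * ((δ⁻¹ * η * δ)⁻¹ * g * (δ⁻¹ * η * δ))) * δ⁻¹ := by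
        group
      rw [e]
      have hσ' : σ (δ⁻¹ * η * δ) = (σ δ)⁻¹ * y * σ δ := by rw [map_mul, map_mul, map_inv, hη]
      rcases hδy with h | h
      · have h' : σ (δ⁻¹ * η * δ) = σ η := by
          rw [hσ', hη]
          calc (σ δ)⁻¹ * y * σ δ = (σ δ)⁻¹ * (σ δ * y * (σ δ)⁻¹) * σ δ := by rw [h]
            _ = y := by group
        rw [conj_eq_of_map_eq hc h' g, conj_eq_of_map_eq' hc h' g, hg1]
        group
      · have h' : σ (δ⁻¹ * η * δ) = σ η⁻¹ := by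
          rw [hσ', map_inv, hη]
          have h'' : y = σ δ * y⁻¹ * (σ δ)⁻¹ := by
            calc y = (σ δ * y * (σ δ)⁻¹)⁻¹ := by rw [h, inv_inv]
              _ = σ δ * y⁻¹ * (σ δ)⁻¹ := by group
          calc (σ δ)⁻¹ * y * σ δ = (σ δ)⁻¹ * (σ δ * y⁻¹ * (σ δ)⁻¹) * σ δ := by rw [← h'']
            _ = y⁻¹ := by group
        rw [conj_eq_of_map_eq hc h' g, conj_eq_of_map_eq' hc h' g, inv_inv]
        have hcm : (η⁻¹ * g * η) * (η * g * η⁻¹) = (η * g * η⁻¹) * (η⁻¹ * g * η) :=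
          F2 _ _ (Fη' g hg) (Fη g hg)
        have e3 : g * (η⁻¹ * g * η) * (η * g * η⁻¹) = 1 := by
          rw [mul_assoc g, hcm, ← mul_assoc]
          exact hg1
        rw [e3]
        group

/-- The main theorem at the prime 2. -/
theorem two_local (hc : σ.ker ≤ Subgroup.center Γ) (h2 : ∀ ζ ∈ σ.ker, ζ * ζ = 1)
    (V D : Subgroup P) (y : P) (hVr : V ≤ σ.range) (hyr : y ∈ σ.range)
    (hVQ : ∀ v ∈ V, QOne σ v) (hy3 : y * y * y = 1) (hyV : ∀ v ∈ V, y * v * y⁻¹ ∈ V)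
    (hfix : ∀ v ∈ V, y * v * y⁻¹ = v → v = 1)
    (hDV : ∀ d ∈ D, ∀ v ∈ V, d * v * d⁻¹ ∈ V)
    (hDy : ∀ d ∈ D, d * y * d⁻¹ = y ∨ d * y * d⁻¹ = y⁻¹)
    (D₁ : Subgroup Γ) (hD₁ : D₁.map σ = D) (hD₁k : ∀ g ∈ D₁, g ∈ σ.ker → g = 1) :
    ∀ a ∈ ⁅(V ⊔ D).comap σ, (V ⊔ D).comap σ⁆, a ∈ σ.ker → a = 1 := by
  obtain ⟨V₁, hV₁V, hV₁k, hV₁s, hV₁inv⟩ := exists_normCompl hc h2 V y hVr hyr hVQ hy3 hyV hfix
  have hyy : y * y = y⁻¹ := mul_eq_one_iff_eq_inv.mp hy3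
  have hD₁D : ∀ δ ∈ D₁, σ δ ∈ D := fun δ hδ => hD₁ ▸ Subgroup.mem_map_of_mem σ hδ
  have hD₁s : ∀ d ∈ D, ∃ δ ∈ D₁, σ δ = d := by
    intro d hd
    rw [← hD₁] at hd
    exact Subgroup.mem_map.mp hd
  have hDn : D ≤ Subgroup.normalizer (V : Set P) := by
    intro d hd
    rw [Subgroup.mem_normalizer_iff]
    intro v
    constructor
    · exact hDV d hd v
    · intro h
      have := hDV d⁻¹ (D.inv_mem hd) _ h
      have e : d⁻¹ * (d * v * d⁻¹) * d⁻¹⁻¹ = v := by group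
      rwa [e] at this
  have hD₁n : D₁ ≤ Subgroup.normalizer (V₁ : Set Γ) := by
    intro δ hδ
    rw [Subgroup.mem_normalizer_iff]
    intro g
    have hδD := hD₁D δ hδ
    constructor
    · exact hV₁inv δ (hDV _ hδD) (hDy _ hδD) g
    · intro h
      have hδi : σ δ⁻¹ ∈ D := by rw [map_inv]; exact D.inv_mem hδD
      have := hV₁inv δ⁻¹ (hDV _ hδi) (hDy _ hδi) _ h
      have e : δ⁻¹ * (δ * g * δ⁻¹) * δ⁻¹⁻¹ = g := by group
      rwa [e] at this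
  have hVD : ∀ d ∈ D, d ∈ V → d = 1 := by
    intro d hd hdV
    rcases hDy d hd with h | h
    · apply hfix d hdV
      have : d * y = y * d := by
        calc d * y = (d * y * d⁻¹) * d := by group
          _ = y * d := by rw [h]
      rw [← this]; group
    · have h1 : y * d⁻¹ * y⁻¹ ∈ V := hyV _ (V.inv_mem hdV)
      have h2' : d * (y * d⁻¹ * y⁻¹) ∈ V := V.mul_mem hdV h1
      have e : d * (y * d⁻¹ * y⁻¹) = y := by
        calc d * (y * d⁻¹ * y⁻¹) = (d * y * d⁻¹) * y⁻¹ := by group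
          _ = y⁻¹ * y⁻¹ := by rw [h]
          _ = y := by rw [← mul_inv_rev, hyy, inv_inv]
      rw [e] at h2'
      have hy1 : y = 1 := hfix y h2' (by group)
      apply hfix d hdV
      rw [hy1]; group
  have hP₁ : ∀ x ∈ V₁ ⊔ D₁, ∃ v₁ ∈ V₁, ∃ d₁ ∈ D₁, x = v₁ * d₁ := by
    intro x hx
    have hset := Subgroup.coe_mul_of_right_le_normalizer_left V₁ D₁ hD₁n
    have hx' : x ∈ ((V₁ ⊔ D₁ : Subgroup Γ) : Set Γ) := hx
    rw [hset] at hx'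
    obtain ⟨v₁, hv₁, d₁, hd₁, rfl⟩ := Set.mem_mul.mp hx'
    exact ⟨v₁, hv₁, d₁, hd₁, rfl⟩
  have hP₁k : ∀ x ∈ V₁ ⊔ D₁, x ∈ σ.ker → x = 1 := by
    intro x hx hxk
    obtain ⟨v₁, hv₁, d₁, hd₁, rfl⟩ := hP₁ x hx
    rw [MonoidHom.mem_ker, map_mul] at hxk
    have hd : σ d₁ = (σ v₁)⁻¹ := eq_inv_of_mul_eq_one_right hxk
    have hdV : σ d₁ ∈ V := by rw [hd]; exact V.inv_mem (hV₁V _ hv₁)
    have hd1 : σ d₁ = 1 := hVD _ (hD₁D _ hd₁) hdV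
    have hd₁1 : d₁ = 1 := hD₁k _ hd₁ (MonoidHom.mem_ker.mpr hd1)
    have hv1 : σ v₁ = 1 := by rw [hd1, mul_one] at hxk; exact hxk
    have hv₁1 : v₁ = 1 := hV₁k _ hv₁ (MonoidHom.mem_ker.mpr hv1)
    rw [hv₁1, hd₁1, one_mul]
  have hdec : ∀ g ∈ (V ⊔ D).comap σ, ∃ p ∈ V₁ ⊔ D₁, ∃ ζ ∈ σ.ker, g = p * ζ := by
    intro g hg
    have hg' : σ g ∈ ((V ⊔ D : Subgroup P) : Set P) := hg
    rw [Subgroup.coe_mul_of_right_le_normalizer_left V D hDn] at hg'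
    obtain ⟨v, hv, d, hd, hvd⟩ := Set.mem_mul.mp hg'
    obtain ⟨v₁, hv₁, hv₁v⟩ := hV₁s v hv
    obtain ⟨d₁, hd₁, hd₁d⟩ := hD₁s d hd
    refine ⟨v₁ * d₁, Subgroup.mul_mem _ (Subgroup.mem_sup_left hv₁) (Subgroup.mem_sup_right hd₁),
      (v₁ * d₁)⁻¹ * g, ?_, by group⟩
    rw [MonoidHom.mem_ker, map_mul, map_inv, map_mul, hv₁v, hd₁d, hvd, inv_mul_cancel]
  have hle : ⁅(V ⊔ D).comap σ, (V ⊔ D).comap σ⁆ ≤ V₁ ⊔ D₁ := by
    rw [Subgroup.commutator_le]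
    intro a ha b hb
    obtain ⟨p, hp, ζ, hζ, rfl⟩ := hdec a ha
    obtain ⟨p', hp', ζ', hζ', rfl⟩ := hdec b hb
    rw [commutatorElement_mul_central p p' ζ ζ' (hc hζ) (hc hζ'), commutatorElement_def]
    exact Subgroup.mul_mem _ (Subgroup.mul_mem _ (Subgroup.mul_mem _ hp hp') (Subgroup.inv_mem _ hp))
      (Subgroup.inv_mem _ hp')
  intro a ha hak
  exact hP₁k a (hle ha) hak

end complement

end Cfsg.Agent.Lib.Helper70
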