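import Mathlib
import Cfsg.Agent.Lib.Helper70.SchurTwoB

set_option autoImplicit false

/-!
# Local analysis of central extensions (helper70), part C

* lifts of dihedral subgroups `⟨s, t⟩` of order 8 and of `⟨s, t⟩ × ⟨r⟩` of order 16 generated by involutions
  all of whose relevant products only have lifts squaring to one (`exists_lift_dihedral`,
  `exists_lift_dihedral_two`);
* the prime 3: an elementary abelian group `⟨a, b⟩` of order 9 with an element centralising `a` and
  inverting `b` (`three_local_abelian`), and an extraspecial group `⟨a, b⟩` of order 27 with an element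
  inverting `a` and `b` (`three_local_extraspecial`).
-/

namespace Cfsg.Agent.Lib.Helper70

universe u v

open scoped commutatorElement

/-- A group generated by two involutions `a`, `b` with `(a * b) ^ n = 1` has at most `2 * n` elements. -/
theorem card_closure_pair_le {Γ : Type u} [Group Γ] (a b : Γ) (n : ℕ) (hn : 0 < n) (ha : a * a = 1)
    (hb : b * b = 1) (hab : (a * b) ^ n = 1) :
    Finite (Subgroup.closure ({a, b} : Set Γ)) ∧ Nat.card (Subgroup.closure ({a, b} : Set Γ)) ≤ 2 * n := by
  have hai : a⁻¹ = a := (eq_inv_of_mul_eq_one_left ha).symm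
  have hbi : b⁻¹ = b := (eq_inv_of_mul_eq_one_left hb).symm
  have hlast : (a * b) ^ (n - 1) = b * a := by
    have h1 : (a * b) ^ (n - 1) * (a * b) = 1 := by
      rw [← pow_succ, Nat.sub_add_cancel hn, hab]
    have h2 : (a * b) ^ (n - 1) = (a * b)⁻¹ := eq_inv_of_mul_eq_one_left h1
    rw [h2, mul_inv_rev, hai, hbi]
  have step : ∀ (i : Fin n) (e : Bool) (y : Γ), y = a ∨ y = b →
      ∃ (i' : Fin n) (e' : Bool), (a * b) ^ (i : ℕ) * (if e then a else 1) * y =
        (a * b) ^ (i' : ℕ) * (if e' then a else 1) := by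
    rintro ⟨i, hi⟩ e y (rfl | rfl)
    · cases e
      · exact ⟨⟨i, hi⟩, true, by simp⟩
      · refine ⟨⟨i, hi⟩, false, ?_⟩
        simp only [if_true, Bool.false_eq_true, if_false, mul_one]
        rw [mul_assoc, ha, mul_one]
    · cases e
      · rcases Nat.eq_zero_or_pos i with h0 | hpos
        · subst h0
          refine ⟨⟨n - 1, by omega⟩, true, ?_⟩
          simp only [pow_zero, Bool.false_eq_true, if_false, mul_one, one_mul, if_true]
          rw [hlast, mul_assoc, ha, mul_one]
        · refine ⟨⟨i - 1, by omega⟩, true, ?_⟩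
          simp only [Bool.false_eq_true, if_false, mul_one, if_true]
          have hi' : i = (i - 1) + 1 := by omega
          have e : (a * y) ^ i = (a * y) ^ (i - 1) * (a * y) := by
            conv_lhs => rw [hi']
            exact pow_succ _ _
          rw [e]
          simp only [mul_assoc]
          rw [hb, mul_one]
      · by_cases hlt : i + 1 < n
        · refine ⟨⟨i + 1, hlt⟩, false, ?_⟩
          simp only [if_true, Bool.false_eq_true, if_false, mul_one]
          rw [pow_succ, mul_assoc]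
        · refine ⟨⟨0, hn⟩, false, ?_⟩
          have hi1 : i + 1 = n := by omega
          simp only [if_true, Bool.false_eq_true, if_false, mul_one, pow_zero]
          rw [mul_assoc, ← pow_succ, hi1, hab]
  have key : ∀ x ∈ Subgroup.closure ({a, b} : Set Γ), ∃ (i : Fin n) (e : Bool),
      x = (a * b) ^ (i : ℕ) * (if e then a else 1) := by
    intro x hx
    induction hx using Subgroup.closure_induction_right with
    | one => exact ⟨⟨0, hn⟩, false, by simp⟩
    | mul_right x hx y hy ih =>
      obtain ⟨i, e, rfl⟩ := ih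
      have hy' : y = a ∨ y = b := hy
      obtain ⟨i', e', h⟩ := step i e y hy'
      exact ⟨i', e', h⟩
    | mul_inv_cancel x hx y hy ih =>
      obtain ⟨i, e, rfl⟩ := ih
      have hy' : y = a ∨ y = b := hy
      have hyi : y⁻¹ = a ∨ y⁻¹ = b := by
        rcases hy' with rfl | rfl
        · left; exact hai
        · right; exact hbi
      obtain ⟨i', e', h⟩ := step i e y⁻¹ hyi
      exact ⟨i', e', h⟩
  have hmem : ∀ p : Fin n × Bool, (a * b) ^ (p.1 : ℕ) * (if p.2 then a else 1) ∈
      Subgroup.closure ({a, b} : Set Γ) := by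
    intro p
    have h1 : a ∈ Subgroup.closure ({a, b} : Set Γ) := Subgroup.subset_closure (by simp)
    have h2 : b ∈ Subgroup.closure ({a, b} : Set Γ) := Subgroup.subset_closure (by simp)
    apply Subgroup.mul_mem _ (Subgroup.pow_mem _ (Subgroup.mul_mem _ h1 h2) _)
    split_ifs
    · exact h1
    · exact Subgroup.one_mem _
  let f : Fin n × Bool → Subgroup.closure ({a, b} : Set Γ) := fun p => ⟨_, hmem p⟩
  have hf : Function.Surjective f := by
    rintro ⟨x, hx⟩
    obtain ⟨i, e, h⟩ := key x hx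
    exact ⟨(i, e), Subtype.ext h.symm⟩
  refine ⟨Finite.of_surjective f hf, ?_⟩
  have h1 := Nat.card_le_card_of_surjective f hf
  have h2 : Nat.card (Fin n × Bool) = 2 * n := by
    rw [Nat.card_prod, Nat.card_fin, Nat.card_eq_fintype_card, Fintype.card_bool, mul_comm]
  rwa [h2] at h1

/-- Adjoining a commuting involution at most doubles the order. -/
theorem card_closure_insert_le {Γ : Type u} [Group Γ] (S : Set Γ) (r : Γ) (hr : r * r = 1)
    (hcomm : ∀ x ∈ S, x * r = r * x) [Finite (Subgroup.closure S)] :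
    Finite (Subgroup.closure (insert r S)) ∧
      Nat.card (Subgroup.closure (insert r S)) ≤ 2 * Nat.card (Subgroup.closure S) := by
  have hri : r⁻¹ = r := (eq_inv_of_mul_eq_one_left hr).symm
  have hcl : ∀ w ∈ Subgroup.closure S, w * r = r * w := by
    intro w hw
    have : Subgroup.closure S ≤ Subgroup.centralizer {r} := by
      rw [Subgroup.closure_le]
      intro x hx
      rw [SetLike.mem_coe, Subgroup.mem_centralizer_iff]
      intro z hz
      rw [Set.mem_singleton_iff.mp hz]
      exact (hcomm x hx).symm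
    have h1 := this hw
    rw [Subgroup.mem_centralizer_iff] at h1
    exact (h1 r rfl).symm
  have step : ∀ w ∈ Subgroup.closure S, ∀ (e : Bool) (y : Γ), y = r ∨ y ∈ Subgroup.closure S →
      ∃ w' ∈ Subgroup.closure S, ∃ e' : Bool,
        w * (if e then r else 1) * y = w' * (if e' then r else 1) := by
    rintro w hw e y (rfl | hy)
    · cases e
      · exact ⟨w, hw, true, by simp⟩
      · refine ⟨w, hw, false, ?_⟩
        simp only [if_true, Bool.false_eq_true, if_false, mul_one]
        rw [mul_assoc, hr, mul_one]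
    · cases e
      · exact ⟨w * y, Subgroup.mul_mem _ hw hy, false, by simp⟩
      · refine ⟨w * y, Subgroup.mul_mem _ hw hy, true, ?_⟩
        simp only [if_true]
        rw [mul_assoc, ← hcl y hy, mul_assoc]
  have key : ∀ x ∈ Subgroup.closure (insert r S), ∃ w ∈ Subgroup.closure S, ∃ e : Bool,
      x = w * (if e then r else 1) := by
    intro x hx
    induction hx using Subgroup.closure_induction_right with
    | one => exact ⟨1, Subgroup.one_mem _, false, by simp⟩
    | mul_right x hx y hy ih =>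
      obtain ⟨w, hw, e, rfl⟩ := ih
      have hy' : y = r ∨ y ∈ Subgroup.closure S := by
        rcases hy with h | h
        · left; exact h
        · right; exact Subgroup.subset_closure h
      obtain ⟨w', hw', e', h⟩ := step w hw e y hy'
      exact ⟨w', hw', e', h⟩
    | mul_inv_cancel x hx y hy ih =>
      obtain ⟨w, hw, e, rfl⟩ := ih
      have hy' : y⁻¹ = r ∨ y⁻¹ ∈ Subgroup.closure S := by
        rcases hy with h | h
        · left; rw [h]; exact hri
        · right; exact Subgroup.inv_mem _ (Subgroup.subset_closure h)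
      obtain ⟨w', hw', e', h⟩ := step w hw e y⁻¹ hy'
      exact ⟨w', hw', e', h⟩
  have hmem : ∀ p : Subgroup.closure S × Bool, (p.1 : Γ) * (if p.2 then r else 1) ∈
      Subgroup.closure (insert r S) := by
    intro p
    apply Subgroup.mul_mem _ (Subgroup.closure_mono (Set.subset_insert r S) p.1.2)
    split_ifs
    · exact Subgroup.subset_closure (Set.mem_insert r S)
    · exact Subgroup.one_mem _
  let f : Subgroup.closure S × Bool → Subgroup.closure (insert r S) := fun p => ⟨_, hmem p⟩
  have hf : Function.Surjective f := by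
    rintro ⟨x, hx⟩
    obtain ⟨w, hw, e, h⟩ := key x hx
    exact ⟨(⟨w, hw⟩, e), Subtype.ext h.symm⟩
  refine ⟨Finite.of_surjective f hf, ?_⟩
  have h1 := Nat.card_le_card_of_surjective f hf
  have h2 : Nat.card (Subgroup.closure S × Bool) = 2 * Nat.card (Subgroup.closure S) := by
    rw [Nat.card_prod, Nat.card_eq_fintype_card (α := Bool), Fintype.card_bool, mul_comm]
  rwa [h2] at h1

section lifts

variable {Γ : Type u} {P : Type v} [Group Γ] [Group P] {σ : Γ →* P}

/-- A subgroup of `Γ` mapping onto `D` with at most as many elements meets the kernel trivially. -/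
theorem lift_inj_of_card_le (D₁ : Subgroup Γ) [Finite D₁] (D : Subgroup P) (hD₁ : D₁.map σ = D)
    (hcard : Nat.card D₁ ≤ Nat.card D) : ∀ g ∈ D₁, g ∈ σ.ker → g = 1 := by
  subst hD₁
  let f : D₁ → D₁.map σ := fun g => ⟨σ g, Subgroup.mem_map_of_mem σ g.2⟩
  have hf : Function.Surjective f := by
    rintro ⟨d, hd⟩
    obtain ⟨g, hg, rfl⟩ := Subgroup.mem_map.mp hd
    exact ⟨⟨g, hg⟩, rfl⟩
  have hb := hf.bijective_of_nat_card_le hcard
  intro g hg hgk
  have h1 : f ⟨g, hg⟩ = f 1 := by
    apply Subtype.ext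
    show σ g = σ 1
    rw [MonoidHom.mem_ker.mp hgk, map_one]
  exact congrArg Subtype.val (hb.1 h1)

theorem comm_of_sq {a b : Γ} (ha : a * a = 1) (hb : b * b = 1) (hab : a * b * (a * b) = 1) :
    a * b = b * a := by
  have e1 : a * b = (a * b)⁻¹ := eq_inv_of_mul_eq_one_left hab
  have e2 : a⁻¹ = a := (eq_inv_of_mul_eq_one_left ha).symm
  have e3 : b⁻¹ = b := (eq_inv_of_mul_eq_one_left hb).symm
  rw [e1, mul_inv_rev, e2, e3]

/-- A dihedral subgroup of order 8 generated by involutions lifts. -/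
theorem exists_lift_dihedral {s t : P} (hs : s ∈ σ.range) (ht : t ∈ σ.range)
    (qs : QOne σ s) (qt : QOne σ t) (qst : QOne σ (s * t * (s * t)))
    (hcard : 8 ≤ Nat.card (Subgroup.closure ({s, t} : Set P))) :
    ∃ D₁ : Subgroup Γ, D₁.map σ = Subgroup.closure {s, t} ∧ ∀ g ∈ D₁, g ∈ σ.ker → g = 1 := by
  obtain ⟨a, ha⟩ := MonoidHom.mem_range.mp hs
  obtain ⟨b, hb⟩ := MonoidHom.mem_range.mp ht
  have h4 : (a * b) ^ 4 = 1 := by
    have := qst (a * b * (a * b)) (by rw [map_mul, map_mul, ha, hb])
    rw [show (4 : ℕ) = 2 + 2 from rfl, pow_add, pow_two]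
    exact this
  obtain ⟨hfin, hle⟩ := card_closure_pair_le a b 4 (by norm_num) (qs a ha) (qt b hb) h4
  have hmap : (Subgroup.closure ({a, b} : Set Γ)).map σ = Subgroup.closure {s, t} := by
    rw [MonoidHom.map_closure, Set.image_pair, ha, hb]
  exact ⟨Subgroup.closure {a, b}, hmap, lift_inj_of_card_le _ _ hmap (by omega)⟩

/-- A subgroup `⟨s, t⟩ × ⟨r⟩` of order 16 generated by involutions lifts. -/
theorem exists_lift_dihedral_two {s t r : P} (hs : s ∈ σ.range) (ht : t ∈ σ.range) (hr : r ∈ σ.range)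
    (qs : QOne σ s) (qt : QOne σ t) (qr : QOne σ r) (qst : QOne σ (s * t * (s * t)))
    (qsr : QOne σ (s * r)) (qtr : QOne σ (t * r))
    (hcard : 16 ≤ Nat.card (Subgroup.closure (insert r ({s, t} : Set P)))) :
    ∃ D₁ : Subgroup Γ, D₁.map σ = Subgroup.closure (insert r ({s, t} : Set P)) ∧
      ∀ g ∈ D₁, g ∈ σ.ker → g = 1 := by
  obtain ⟨a, ha⟩ := MonoidHom.mem_range.mp hs
  obtain ⟨b, hb⟩ := MonoidHom.mem_range.mp ht
  obtain ⟨c, hc'⟩ := MonoidHom.mem_range.mp hr
  have h4 : (a * b) ^ 4 = 1 := by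
    have := qst (a * b * (a * b)) (by rw [map_mul, map_mul, ha, hb])
    rw [show (4 : ℕ) = 2 + 2 from rfl, pow_add, pow_two]
    exact this
  obtain ⟨hfin, hle⟩ := card_closure_pair_le a b 4 (by norm_num) (qs a ha) (qt b hb) h4
  have hac : a * c = c * a :=
    comm_of_sq (qs a ha) (qr c hc') (qsr (a * c) (by rw [map_mul, ha, hc']))
  have hbc : b * c = c * b :=
    comm_of_sq (qt b hb) (qr c hc') (qtr (b * c) (by rw [map_mul, hb, hc']))
  have hcomm : ∀ x ∈ ({a, b} : Set Γ), x * c = c * x := by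
    rintro x (rfl | rfl)
    · exact hac
    · exact hbc
  obtain ⟨hfin', hle'⟩ := card_closure_insert_le ({a, b} : Set Γ) c (qr c hc') hcomm
  have hmap : (Subgroup.closure (insert c ({a, b} : Set Γ))).map σ =
      Subgroup.closure (insert r ({s, t} : Set P)) := by
    rw [MonoidHom.map_closure, Set.image_insert_eq, Set.image_pair, ha, hb, hc']
  exact ⟨_, hmap, lift_inj_of_card_le _ _ hmap (by omega)⟩

/-! ### The prime 3 -/

/-- The preimage of `⟨a, b⟩` is generated by lifts of `a`, `b` and the kernel. -/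
theorem comap_closure_pair_le {a b : P} {α β : Γ} (hα : σ α = a) (hβ : σ β = b) :
    (Subgroup.closure ({a, b} : Set P)).comap σ ≤
      Subgroup.closure (({α, β} : Set Γ) ∪ (σ.ker : Set Γ)) := by
  intro g hg
  have hg' : σ g ∈ Subgroup.map σ (Subgroup.closure {α, β}) := by
    rw [MonoidHom.map_closure, Set.image_pair, hα, hβ]
    exact hg
  obtain ⟨h, hh, hσ⟩ := hg'
  have hk : h⁻¹ * g ∈ σ.ker := by
    rw [MonoidHom.mem_ker, map_mul, map_inv, hσ, inv_mul_cancel]
  have : g = h * (h⁻¹ * g) := by group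
  rw [this]
  apply Subgroup.mul_mem
  · exact Subgroup.closure_mono Set.subset_union_left hh
  · exact Subgroup.subset_closure (Set.mem_union_right _ hk)

/-- An abelian subgroup `⟨a, b⟩` with `a ^ 3 = 1` and an element centralising `a` and inverting `b`:
its preimage is abelian. -/
theorem three_local_abelian (hc : σ.ker ≤ Subgroup.center Γ) {a b t : P} (har : a ∈ σ.range)
    (hbr : b ∈ σ.range) (htr : t ∈ σ.range) (ha3 : a * a * a = 1) (hab : a * b = b * a)
    (hta : t * a * t⁻¹ = a) (htb : t * b * t⁻¹ = b⁻¹) :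
    ∀ x ∈ ⁅(Subgroup.closure ({a, b} : Set P)).comap σ, (Subgroup.closure ({a, b} : Set P)).comap σ⁆,
      x = 1 := by
  obtain ⟨α, hα⟩ := MonoidHom.mem_range.mp har
  obtain ⟨β, hβ⟩ := MonoidHom.mem_range.mp hbr
  obtain ⟨τ, hτ⟩ := MonoidHom.mem_range.mp htr
  have hκ : ⁅β, α⁆ ∈ σ.ker := by
    rw [MonoidHom.mem_ker, map_commutatorElement, hα, hβ, commutatorElement_eq_one_iff_mul_comm]
    exact hab.symm
  have hκc := hc hκ
  have hα3 : α ^ 3 ∈ Subgroup.center Γ := hc (by
    rw [MonoidHom.mem_ker, map_pow, hα, pow_succ, pow_two, ha3])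
  have h3 : ⁅β, α⁆ ^ 3 = 1 :=
    central_commutator_pow_eq_one β α hκc 3 (Subgroup.mem_center_iff.mp hα3 β)
  have h2 : ⁅β, α⁆ = ⁅β, α⁆⁻¹ := by
    have e1 : ⁅τ * β * τ⁻¹, τ * α * τ⁻¹⁆ = ⁅β, α⁆ := comm_conj_of_central hκc
    have e2 : ⁅τ * β * τ⁻¹, τ * α * τ⁻¹⁆ = ⁅β⁻¹, α⁆ :=
      comm_congr_of_ker_central σ hc
        (by rw [map_mul, map_mul, map_inv, map_inv, hτ, hβ, htb])
        (by rw [map_mul, map_mul, map_inv, hτ, hα, hta])
    have e3 : ⁅β⁻¹, α⁆ = ⁅β, α⁆⁻¹ := by
      have : ⁅β⁻¹, α⁆ = β⁻¹ * ⁅β, α⁆⁻¹ * β := by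
        simp only [commutatorElement_def]; group
      rw [this]
      have h5 := central_conj (Subgroup.inv_mem _ hκc) β⁻¹
      rwa [inv_inv] at h5
    exact e1.symm.trans (e2.trans e3)
  have h1 : ⁅β, α⁆ = 1 := by
    have hsq : ⁅β, α⁆ ^ 2 = 1 := by
      rw [pow_two]
      nth_rewrite 2 [h2]
      exact mul_inv_cancel _
    have : ⁅β, α⁆ ^ 3 = ⁅β, α⁆ ^ 2 * ⁅β, α⁆ := pow_succ _ 2
    rw [h3, hsq, one_mul] at this
    exact this.symm
  have hcomm : β * α = α * β := commutatorElement_eq_one_iff_mul_comm.mp h1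
  have hgen : ∀ x ∈ (({α, β} : Set Γ) ∪ (σ.ker : Set Γ)), ∀ y ∈ (({α, β} : Set Γ) ∪ (σ.ker : Set Γ)),
      x * y = y * x := by
    rintro x (hx | hx) y (hy | hy)
    · rcases hx with rfl | rfl <;> rcases hy with rfl | rfl
      · rfl
      · exact hcomm.symm
      · exact hcomm
      · rfl
    · exact Subgroup.mem_center_iff.mp (hc hy) x
    · exact (Subgroup.mem_center_iff.mp (hc hx) y).symm
    · exact Subgroup.mem_center_iff.mp (hc hy) x
  have hcl : ∀ x ∈ Subgroup.closure (({α, β} : Set Γ) ∪ (σ.ker : Set Γ)),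
      ∀ y ∈ Subgroup.closure (({α, β} : Set Γ) ∪ (σ.ker : Set Γ)), x * y = y * x := by
    intro x hx y hy
    have h1 : Subgroup.closure (({α, β} : Set Γ) ∪ (σ.ker : Set Γ)) ≤
        Subgroup.centralizer (({α, β} : Set Γ) ∪ (σ.ker : Set Γ)) := by
      rw [Subgroup.closure_le]
      intro z hz
      rw [SetLike.mem_coe, Subgroup.mem_centralizer_iff]
      intro w hw
      exact hgen w hw z hz
    have hyc : y ∈ Subgroup.centralizer
        (Subgroup.closure (({α, β} : Set Γ) ∪ (σ.ker : Set Γ)) : Set Γ) := by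
      rw [Subgroup.centralizer_closure]
      exact h1 hy
    rw [Subgroup.mem_centralizer_iff] at hyc
    exact hyc x hx
  have hbot : ⁅(Subgroup.closure ({a, b} : Set P)).comap σ,
      (Subgroup.closure ({a, b} : Set P)).comap σ⁆ = ⊥ := by
    rw [Subgroup.commutator_eq_bot_iff_le_centralizer]
    intro x hx
    rw [Subgroup.mem_centralizer_iff]
    intro y hy
    exact hcl y (comap_closure_pair_le hα hβ hy) x (comap_closure_pair_le hα hβ hx)
  intro x hx
  rw [hbot] at hx
  exact Subgroup.mem_bot.mp hx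

end lifts

end Cfsg.Agent.Lib.Helper70
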