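import Mathlib
import Cfsg.Agent.Lib.Helper70.SchurTwoC

set_option autoImplicit false

/-!
# Local analysis of central extensions (helper70), part D

* `three_local_extraspecial`: the prime 3 for an extraspecial group `⟨a, b⟩` of order 27 and exponent 3
  with an element inverting `a` and `b`;
* `disjoint_of_fpf`, `not_two_dvd_index_of_split`: the index of `V ⊔ D` is odd.
-/

namespace Cfsg.Agent.Lib.Helper70

universe u v

open scoped commutatorElement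

section three

variable {Γ : Type u} {P : Type v} [Group Γ] [Group P] {σ : Γ →* P}

theorem three_local_extraspecial (hc : σ.ker ≤ Subgroup.center Γ) {a b t : P} (har : a ∈ σ.range)
    (hbr : b ∈ σ.range) (htr : t ∈ σ.range) (ha3 : a * a * a = 1) (hb3 : b * b * b = 1)
    (hca : ⁅a, b⁆ * a = a * ⁅a, b⁆) (hcb : ⁅a, b⁆ * b = b * ⁅a, b⁆) (hc1 : ⁅a, b⁆ ≠ 1)
    (hta : t * a * t⁻¹ = a⁻¹) (htb : t * b * t⁻¹ = b⁻¹) :
    ∀ x ∈ ⁅(Subgroup.closure ({a, b} : Set P)).comap σ, (Subgroup.closure ({a, b} : Set P)).comap σ⁆,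
      x ∈ σ.ker → x = 1 := by
  obtain ⟨α, hα⟩ := MonoidHom.mem_range.mp har
  obtain ⟨β, hβ⟩ := MonoidHom.mem_range.mp hbr
  obtain ⟨τ, hτ⟩ := MonoidHom.mem_range.mp htr
  have htc : t * ⁅a, b⁆ * t⁻¹ = ⁅a, b⁆ := by
    have e1 : t * ⁅a, b⁆ * t⁻¹ = ⁅t * a * t⁻¹, t * b * t⁻¹⁆ := (comm_conj t a b).symm
    rw [e1, hta, htb]
    have e2 : a * b = ⁅a, b⁆ * (b * a) := by rw [commutatorElement_def]; group
    have hca' : a⁻¹ * ⁅a, b⁆ = ⁅a, b⁆ * a⁻¹ := by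
      calc a⁻¹ * ⁅a, b⁆ = a⁻¹ * (⁅a, b⁆ * a) * a⁻¹ := by group
        _ = a⁻¹ * (a * ⁅a, b⁆) * a⁻¹ := by rw [hca]
        _ = ⁅a, b⁆ * a⁻¹ := by group
    have hcb' : b⁻¹ * ⁅a, b⁆ = ⁅a, b⁆ * b⁻¹ := by
      calc b⁻¹ * ⁅a, b⁆ = b⁻¹ * (⁅a, b⁆ * b) * b⁻¹ := by group
        _ = b⁻¹ * (b * ⁅a, b⁆) * b⁻¹ := by rw [hcb]
        _ = ⁅a, b⁆ * b⁻¹ := by group
    calc ⁅a⁻¹, b⁻¹⁆ = a⁻¹ * b⁻¹ * (a * b) := by rw [commutatorElement_def]; group
      _ = a⁻¹ * b⁻¹ * (⁅a, b⁆ * (b * a)) := by rw [← e2]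
      _ = a⁻¹ * (b⁻¹ * ⁅a, b⁆) * (b * a) := by simp only [mul_assoc]
      _ = a⁻¹ * (⁅a, b⁆ * b⁻¹) * (b * a) := by rw [hcb']
      _ = (a⁻¹ * ⁅a, b⁆) * (b⁻¹ * (b * a)) := by simp only [mul_assoc]
      _ = (⁅a, b⁆ * a⁻¹) * (b⁻¹ * (b * a)) := by rw [hca']
      _ = ⁅a, b⁆ := by simp only [mul_assoc, inv_mul_cancel_left, inv_mul_cancel, mul_one]
  have hγ : σ ⁅α, β⁆ = ⁅a, b⁆ := by rw [map_commutatorElement, hα, hβ]
  have key : ∀ (δ : Γ) (d : P), σ δ = d → d * d * d = 1 → ⁅a, b⁆ * d = d * ⁅a, b⁆ →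
      t * d * t⁻¹ = d⁻¹ → ⁅⁅α, β⁆, δ⁆ = 1 := by
    intro δ d hδ hd3 hcd htd
    have hk : ⁅⁅α, β⁆, δ⁆ ∈ σ.ker := by
      rw [MonoidHom.mem_ker, map_commutatorElement, hγ, hδ, commutatorElement_eq_one_iff_mul_comm]
      exact hcd
    have hkc := hc hk
    have hδ3 : δ ^ 3 ∈ Subgroup.center Γ := hc (by
      rw [MonoidHom.mem_ker, map_pow, hδ, pow_succ, pow_two, hd3])
    have h3 : ⁅⁅α, β⁆, δ⁆ ^ 3 = 1 :=
      central_commutator_pow_eq_one ⁅α, β⁆ δ hkc 3 (Subgroup.mem_center_iff.mp hδ3 ⁅α, β⁆)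
    have e1 : ⁅τ * ⁅α, β⁆ * τ⁻¹, τ * δ * τ⁻¹⁆ = ⁅⁅α, β⁆, δ⁆ := comm_conj_of_central hkc
    have e2 : ⁅τ * ⁅α, β⁆ * τ⁻¹, τ * δ * τ⁻¹⁆ = ⁅⁅α, β⁆, δ⁻¹⁆ :=
      comm_congr_of_ker_central σ hc
        (by rw [map_mul, map_mul, map_inv, hτ, hγ, htc])
        (by rw [map_mul, map_mul, map_inv, map_inv, hτ, hδ, htd])
    have e3 : ⁅⁅α, β⁆, δ⁻¹⁆ = ⁅⁅α, β⁆, δ⁆⁻¹ := by
      have : ⁅⁅α, β⁆, δ⁻¹⁆ = δ⁻¹ * ⁅⁅α, β⁆, δ⁆⁻¹ * δ := by
        simp only [commutatorElement_def]; group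
      rw [this]
      have h5 := central_conj (Subgroup.inv_mem _ hkc) δ⁻¹
      rwa [inv_inv] at h5
    have h2 : ⁅⁅α, β⁆, δ⁆ = ⁅⁅α, β⁆, δ⁆⁻¹ := e1.symm.trans (e2.trans e3)
    have hsq : ⁅⁅α, β⁆, δ⁆ ^ 2 = 1 := by
      rw [pow_two]
      nth_rewrite 2 [h2]
      exact mul_inv_cancel _
    have : ⁅⁅α, β⁆, δ⁆ ^ 3 = ⁅⁅α, β⁆, δ⁆ ^ 2 * ⁅⁅α, β⁆, δ⁆ := pow_succ _ 2
    rw [h3, hsq, one_mul] at this
    exact this.symm
  have hγα : ⁅α, β⁆ * α = α * ⁅α, β⁆ :=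
    commutatorElement_eq_one_iff_mul_comm.mp (key α a hα ha3 hca hta)
  have hγβ : ⁅α, β⁆ * β = β * ⁅α, β⁆ :=
    commutatorElement_eq_one_iff_mul_comm.mp (key β b hβ hb3 hcb htb)
  have hγ3 : ⁅α, β⁆ ^ 3 = 1 := by
    have h1 : α * β * α⁻¹ = ⁅α, β⁆ * β := by rw [commutatorElement_def]; group
    have hβ3 : β ^ 3 ∈ Subgroup.center Γ := hc (by
      rw [MonoidHom.mem_ker, map_pow, hβ, pow_succ, pow_two, hb3])
    have h2 : (α * β * α⁻¹) ^ 3 = β ^ 3 := by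
      rw [conj_pow, Subgroup.mem_center_iff.mp hβ3 α]; group
    rw [h1, (show Commute ⁅α, β⁆ β from hγβ).mul_pow] at h2
    exact mul_eq_right.mp h2
  -- the subgroup generated by the lifts and the kernel
  have hT : ∀ x ∈ Subgroup.closure (({α, β} : Set Γ) ∪ (σ.ker : Set Γ)), x * ⁅α, β⁆ = ⁅α, β⁆ * x := by
    intro x hx
    have h1 : Subgroup.closure (({α, β} : Set Γ) ∪ (σ.ker : Set Γ)) ≤
        Subgroup.centralizer {⁅α, β⁆} := by
      rw [Subgroup.closure_le]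
      intro z hz
      rw [SetLike.mem_coe, Subgroup.mem_centralizer_iff]
      intro w hw
      rw [Set.mem_singleton_iff.mp hw]
      rcases hz with hz | hz
      · rcases hz with rfl | rfl
        · exact hγα
        · exact hγβ
      · exact (Subgroup.mem_center_iff.mp (hc hz) _)
    have h2 := h1 hx
    rw [Subgroup.mem_centralizer_iff] at h2
    exact (h2 _ rfl).symm
  have hcomm : ∀ x ∈ Subgroup.closure (({α, β} : Set Γ) ∪ (σ.ker : Set Γ)),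
      ∀ y ∈ Subgroup.closure (({α, β} : Set Γ) ∪ (σ.ker : Set Γ)),
      ⁅x, y⁆ ∈ Subgroup.zpowers ⁅α, β⁆ := by
    set T := Subgroup.closure (({α, β} : Set Γ) ∪ (σ.ker : Set Γ)) with hTdef
    have hαT : α ∈ T := Subgroup.subset_closure (Or.inl (by simp))
    have hβT : β ∈ T := Subgroup.subset_closure (Or.inl (by simp))
    have hK' : (σ.ker.subgroupOf T) ≤ Subgroup.center T := by
      intro k hk
      rw [Subgroup.mem_center_iff]
      intro g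
      apply Subtype.ext
      exact Subgroup.mem_center_iff.mp (hc (Subgroup.mem_subgroupOf.mp hk)) g
    have hN' : ((Subgroup.zpowers ⁅α, β⁆).subgroupOf T).Normal := by
      constructor
      intro n hn g
      rw [Subgroup.mem_subgroupOf] at hn ⊢
      obtain ⟨k, hk⟩ := Subgroup.mem_zpowers_iff.mp hn
      have hcm : Commute (g : Γ) (⁅α, β⁆ ^ k) := (show Commute (g : Γ) ⁅α, β⁆ from hT g g.2).zpow_right k
      have : ((g * n * g⁻¹ : T) : Γ) = ⁅α, β⁆ ^ k := by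
        show (g : Γ) * (n : Γ) * (g : Γ)⁻¹ = _
        rw [← hk, hcm.eq, mul_inv_cancel_right]
      rw [this]
      exact Subgroup.zpow_mem _ (Subgroup.mem_zpowers _) k
    have hgen : Subgroup.closure ((({⟨α, hαT⟩, ⟨β, hβT⟩} : Set T)) ∪ ((σ.ker.subgroupOf T : Subgroup T) : Set T)) = ⊤ := by
      have h := Subgroup.closure_closure_coe_preimage (k := (({α, β} : Set Γ) ∪ (σ.ker : Set Γ)))
      have hset : (((↑) : T → Γ) ⁻¹' (({α, β} : Set Γ) ∪ (σ.ker : Set Γ))) =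
          (({⟨α, hαT⟩, ⟨β, hβT⟩} : Set T)) ∪ ((σ.ker.subgroupOf T : Subgroup T) : Set T) := by
        ext ⟨x, hx⟩
        simp only [Set.mem_preimage, Set.mem_union, Set.mem_insert_iff, Set.mem_singleton_iff,
          SetLike.mem_coe, Subgroup.mem_subgroupOf, Subtype.mk.injEq]
      rw [hset] at h
      exact h
    have hxy : ⁅(⟨α, hαT⟩ : T), ⟨β, hβT⟩⁆ ∈ (Subgroup.zpowers ⁅α, β⁆).subgroupOf T := by
      rw [Subgroup.mem_subgroupOf]
      exact Subgroup.mem_zpowers _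
    have hle := commutator_le_of_gen (σ.ker.subgroupOf T) hK' ⟨α, hαT⟩ ⟨β, hβT⟩ hgen
      ((Subgroup.zpowers ⁅α, β⁆).subgroupOf T) hxy
    intro x hx y hy
    have h1 : ⁅(⟨x, hx⟩ : T), ⟨y, hy⟩⁆ ∈ commutator T := by
      rw [commutator_def]
      exact Subgroup.commutator_mem_commutator (Subgroup.mem_top _) (Subgroup.mem_top _)
    have h2 := hle h1
    rw [Subgroup.mem_subgroupOf] at h2
    exact h2
  have hle : ⁅(Subgroup.closure ({a, b} : Set P)).comap σ, (Subgroup.closure ({a, b} : Set P)).comap σ⁆ ≤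
      Subgroup.zpowers ⁅α, β⁆ := by
    rw [Subgroup.commutator_le]
    intro x hx y hy
    exact hcomm x (comap_closure_pair_le hα hβ hx) y (comap_closure_pair_le hα hβ hy)
  intro x hx hxk
  obtain ⟨k, rfl⟩ := Subgroup.mem_zpowers_iff.mp (hle hx)
  have hck : ⁅a, b⁆ ^ k = 1 := by
    rw [← hγ, ← map_zpow]
    exact MonoidHom.mem_ker.mp hxk
  have hc3 : ⁅a, b⁆ ^ 3 = 1 := by rw [← hγ, ← map_pow, hγ3, map_one]
  have : Fact (Nat.Prime 3) := ⟨Nat.prime_three⟩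
  have hord : orderOf ⁅a, b⁆ = 3 := orderOf_eq_prime hc3 hc1
  have hdvd : ((3 : ℕ) : ℤ) ∣ k := by
    rw [← hord]
    exact orderOf_dvd_iff_zpow_eq_one.mpr hck
  obtain ⟨m, rfl⟩ := hdvd
  rw [zpow_mul, zpow_natCast, hγ3, one_zpow]

end three

section index

variable {P : Type v} [Group P]

/-- A subgroup normalising `⟨y⟩` meets trivially a subgroup on which `y` has no nontrivial fixed point. -/
theorem disjoint_of_fpf (V D : Subgroup P) (y : P) (hy3 : y * y * y = 1)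
    (hyV : ∀ v ∈ V, y * v * y⁻¹ ∈ V) (hfix : ∀ v ∈ V, y * v * y⁻¹ = v → v = 1)
    (hDy : ∀ d ∈ D, d * y * d⁻¹ = y ∨ d * y * d⁻¹ = y⁻¹) : ∀ d ∈ D, d ∈ V → d = 1 := by
  have hyy : y * y = y⁻¹ := mul_eq_one_iff_eq_inv.mp hy3
  intro d hd hdV
  rcases hDy d hd with h | h
  · apply hfix d hdV
    have : d * y = y * d := by
      calc d * y = (d * y * d⁻¹) * d := by group
        _ = y * d := by rw [h]
    rw [← this]; group
  · have h1 : y * d⁻¹ * y⁻¹ ∈ V := hyV _ (V.inv_mem hdV)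
    have h2' : d * (y * d⁻¹ * y⁻¹) ∈ V := V.mul_mem hdV h1
    have e : d * (y * d⁻¹ * y⁻¹) = y := by
      calc d * (y * d⁻¹ * y⁻¹) = (d * y * d⁻¹) * y⁻¹ := by group
        _ = y⁻¹ * y⁻¹ := by rw [h]
        _ = y := by rw [← mul_inv_rev, hyy, inv_inv]
    rw [e] at h2'
    have hy1 : y = 1 := hfix y h2' (by group)
    apply hfix d hdV
    rw [hy1]; group

/-- The index of `V ⊔ D` in `H` is odd when `V` and `D` are disjoint `2`-groups, `D` normalises `V`, and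
`|V| |D|` is the full power of 2 dividing `|H|`. -/
theorem not_two_dvd_index_of_split (H V D : Subgroup P) [Finite H] (hle : V ⊔ D ≤ H) (a b : ℕ)
    (hcV : Nat.card V = 2 ^ a) (hcD : Nat.card D = 2 ^ b)
    (hDn : D ≤ Subgroup.normalizer (V : Set P)) (hVD : ∀ d ∈ D, d ∈ V → d = 1)
    (hH : ¬ 2 ^ (a + b + 1) ∣ Nat.card H) : ¬ 2 ∣ ((V ⊔ D).subgroupOf H).index := by
  have : Fact (Nat.Prime 2) := ⟨Nat.prime_two⟩
  have hVp : IsPGroup 2 V := IsPGroup.of_card hcV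
  have hDp : IsPGroup 2 D := IsPGroup.of_card hcD
  have hp : IsPGroup 2 (V ⊔ D : Subgroup P) := IsPGroup.to_sup_of_normal_left' hVp hDp hDn
  have hfin : Finite (V ⊔ D : Subgroup P) := Finite.of_injective (Subgroup.inclusion hle)
    (Subgroup.inclusion_injective hle)
  obtain ⟨k, hk⟩ := IsPGroup.iff_card.mp hp
  let f : V × D → (V ⊔ D : Subgroup P) := fun p =>
    ⟨(p.1 : P) * (p.2 : P), Subgroup.mul_mem _ (Subgroup.mem_sup_left p.1.2) (Subgroup.mem_sup_right p.2.2)⟩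
  have hf : Function.Injective f := by
    rintro ⟨⟨v, hv⟩, ⟨d, hd⟩⟩ ⟨⟨v', hv'⟩, ⟨d', hd'⟩⟩ h
    have h1 : v * d = v' * d' := congrArg Subtype.val h
    have h2 : d * d'⁻¹ = v⁻¹ * v' := by
      calc d * d'⁻¹ = v⁻¹ * (v * d) * d'⁻¹ := by group
        _ = v⁻¹ * (v' * d') * d'⁻¹ := by rw [h1]
        _ = v⁻¹ * v' := by group
    have h3 : d * d'⁻¹ = 1 := hVD _ (D.mul_mem hd (D.inv_mem hd')) (by
      rw [h2]; exact V.mul_mem (V.inv_mem hv) hv')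
    have hdd : d = d' := by
      have := mul_eq_one_iff_eq_inv.mp h3
      rwa [inv_inv] at this
    subst hdd
    have hvv : v = v' := mul_right_cancel h1
    subst hvv
    rfl
  have h1 := Nat.card_le_card_of_injective f hf
  rw [Nat.card_prod, hcV, hcD, hk, ← pow_add] at h1
  have hab : a + b ≤ k := (Nat.pow_le_pow_iff_right (by norm_num)).mp h1
  have hcU : Nat.card ((V ⊔ D).subgroupOf H) = 2 ^ k := by
    rw [Nat.card_congr (Subgroup.subgroupOfEquivOfLe hle).toEquiv, hk]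
  intro h2
  apply hH
  have h3 := Subgroup.card_mul_index ((V ⊔ D).subgroupOf H)
  rw [hcU] at h3
  rw [← h3]
  calc 2 ^ (a + b + 1) = 2 ^ (a + b) * 2 := pow_succ _ _
    _ ∣ 2 ^ k * ((V ⊔ D).subgroupOf H).index := Nat.mul_dvd_mul (pow_dvd_pow 2 hab) h2

end index

end Cfsg.Agent.Lib.Helper70
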