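import Mathlib
import Cfsg.Agent.Lib.Helper70.SchurTwoD

set_option autoImplicit false

/-!
# Local analysis of central extensions at the prime 2 (helper70), part E: multipliers of order 2

* `quotMap`, `isStemExtension_quotMap`: the stem extension induced on the quotient by a subgroup of the
  kernel;
* `abelian_of_inverting`: if all the elements `s * v` (`v ∈ V`) only have lifts squaring to one, the
  preimage of `V` is abelian;
* `exists_normCompl_ab`, `two_local_ab`: the main theorem at the prime 2 for a subgroup `V` with abelian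
  preimage;
* `exists_lift_four`: lifting a four-group;
* `ker_le_sq_of_local`, `exp_two_of_four_group`, `hasCyclicSchurMultiplier_two_of_local`: criterion for the
  Schur multiplier to be of order 2.
-/

namespace Cfsg.Agent.Lib.Helper70

universe u v

open scoped commutatorElement

section quot

variable {Γ : Type u} {G : Type v} [Group Γ] [Group G]

/-- The map induced on the quotient by a normal subgroup of the kernel. -/
def quotMap (σ : Γ →* G) (Z₀ : Subgroup Γ) [Z₀.Normal] (hZ₀ : Z₀ ≤ σ.ker) : Γ ⧸ Z₀ →* G :=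
  QuotientGroup.lift Z₀ σ (fun _ hx => hZ₀ hx)

theorem quotMap_mk (σ : Γ →* G) (Z₀ : Subgroup Γ) [Z₀.Normal] (hZ₀ : Z₀ ≤ σ.ker) (x : Γ) :
    quotMap σ Z₀ hZ₀ (QuotientGroup.mk x) = σ x := rfl

theorem mem_ker_quotMap (σ : Γ →* G) (Z₀ : Subgroup Γ) [Z₀.Normal] (hZ₀ : Z₀ ≤ σ.ker) (x : Γ) :
    (QuotientGroup.mk x : Γ ⧸ Z₀) ∈ (quotMap σ Z₀ hZ₀).ker ↔ x ∈ σ.ker := by
  rw [MonoidHom.mem_ker, MonoidHom.mem_ker, quotMap_mk]

theorem isStemExtension_quotMap (σ : Γ →* G) (hσ : Cfsg.IsStemExtension σ) (Z₀ : Subgroup Γ)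
    [Z₀.Normal] (hZ₀ : Z₀ ≤ σ.ker) : Cfsg.IsStemExtension (quotMap σ Z₀ hZ₀) := by
  refine ⟨?_, ?_, ?_⟩
  · intro g
    obtain ⟨x, hx⟩ := hσ.1 g
    exact ⟨QuotientGroup.mk x, hx⟩
  · intro x' hx'
    obtain ⟨x, rfl⟩ := QuotientGroup.mk_surjective x'
    have hx : x ∈ σ.ker := (mem_ker_quotMap σ Z₀ hZ₀ x).mp hx'
    rw [Subgroup.mem_center_iff]
    intro g'
    obtain ⟨g, rfl⟩ := QuotientGroup.mk_surjective g'
    rw [← QuotientGroup.mk_mul, ← QuotientGroup.mk_mul, Subgroup.mem_center_iff.mp (hσ.2.1 hx) g]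
  · intro x' hx'
    obtain ⟨x, rfl⟩ := QuotientGroup.mk_surjective x'
    have hx : x ∈ σ.ker := (mem_ker_quotMap σ Z₀ hZ₀ x).mp hx'
    have hxc : x ∈ commutator Γ := hσ.2.2 hx
    rw [← map_commutator_of_surjective (QuotientGroup.mk' Z₀) (QuotientGroup.mk'_surjective Z₀)]
    exact ⟨x, hxc, rfl⟩

end quot

section ab

variable {Γ : Type u} {P : Type v} [Group Γ] [Group P] {σ : Γ →* P}

/-- If `s` and all the `s * v`, `v ∈ V`, only have lifts squaring to one, the preimage of `V` is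
abelian (a lift of `s` inverts it). -/
theorem abelian_of_inverting (V : Subgroup P) {s : P} (hsr : s ∈ σ.range)
    (hq : ∀ v ∈ V, QOne σ (s * v)) : ∀ g h : Γ, σ g ∈ V → σ h ∈ V → g * h = h * g := by
  obtain ⟨τ, hτ⟩ := MonoidHom.mem_range.mp hsr
  have hτ2 : τ * τ = 1 := hq 1 V.one_mem τ (by rw [mul_one, hτ])
  have hinv : ∀ g : Γ, σ g ∈ V → τ * g * τ = g⁻¹ := by
    intro g hg
    have h1 := hq (σ g) hg (τ * g) (by rw [map_mul, hτ])
    calc τ * g * τ = (τ * g * (τ * g)) * g⁻¹ := by group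
      _ = g⁻¹ := by rw [h1, one_mul]
  intro g h hg hh
  have h1 := hinv g hg
  have h2 := hinv h hh
  have h3 := hinv (g * h) (by rw [map_mul]; exact V.mul_mem hg hh)
  have h4 : τ * (g * h) * τ = (τ * g * τ) * (τ * h * τ) := by
    calc τ * (g * h) * τ = τ * g * 1 * h * τ := by group
      _ = τ * g * (τ * τ) * h * τ := by rw [hτ2]
      _ = (τ * g * τ) * (τ * h * τ) := by group
  rw [h3, h1, h2] at h4
  have h5 : (g * h)⁻¹ = (h * g)⁻¹ := by rw [h4, mul_inv_rev]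
  exact inv_injective h5

theorem exists_normCompl_ab (hc : σ.ker ≤ Subgroup.center Γ) (h2 : ∀ ζ ∈ σ.ker, ζ * ζ = 1)
    (V : Subgroup P) (y : P) (hVr : V ≤ σ.range) (hyr : y ∈ σ.range)
    (hVab : ∀ g h : Γ, σ g ∈ V → σ h ∈ V → g * h = h * g) (hy3 : y * y * y = 1)
    (hyV : ∀ v ∈ V, y * v * y⁻¹ ∈ V) (hfix : ∀ v ∈ V, y * v * y⁻¹ = v → v = 1) :
    ∃ V₁ : Subgroup Γ, (∀ g ∈ V₁, σ g ∈ V) ∧ (∀ g ∈ V₁, g ∈ σ.ker → g = 1) ∧
      (∀ v ∈ V, ∃ g ∈ V₁, σ g = v) ∧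
      (∀ δ : Γ, (∀ v ∈ V, σ δ * v * (σ δ)⁻¹ ∈ V) →
        (σ δ * y * (σ δ)⁻¹ = y ∨ σ δ * y * (σ δ)⁻¹ = y⁻¹) → ∀ g ∈ V₁, δ * g * δ⁻¹ ∈ V₁) := by
  obtain ⟨η, hη⟩ := MonoidHom.mem_range.mp hyr
  have hyy : y * y = y⁻¹ := mul_eq_one_iff_eq_inv.mp hy3
  have hyV' : ∀ v ∈ V, y⁻¹ * v * y ∈ V := by
    intro v hv
    have h := hyV _ (hyV v hv)
    have e : y * (y * v * y⁻¹) * y⁻¹ = y⁻¹ * v * y := by
      calc y * (y * v * y⁻¹) * y⁻¹ = (y * y) * v * (y * y)⁻¹ := by group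
        _ = y⁻¹ * v * y := by rw [hyy, inv_inv]
    rwa [e] at h
  have F2 := hVab
  have Fη : ∀ g : Γ, σ g ∈ V → σ (η * g * η⁻¹) ∈ V := by
    intro g hg
    rw [map_mul, map_mul, map_inv, hη]
    exact hyV _ hg
  have Fη' : ∀ g : Γ, σ g ∈ V → σ (η⁻¹ * g * η) ∈ V := by
    intro g hg
    rw [map_mul, map_mul, map_inv, hη]
    exact hyV' _ hg
  have hη3 : η * η * η ∈ σ.ker := by rw [MonoidHom.mem_ker, map_mul, map_mul, hη, hy3]
  have hη3c := Subgroup.mem_center_iff.mp (hc hη3)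
  have Fηη : ∀ g : Γ, η * (η * g * η⁻¹) * η⁻¹ = η⁻¹ * g * η := by
    intro g
    calc η * (η * g * η⁻¹) * η⁻¹ = η⁻¹ * ((η * η * η) * g) * (η * η * η)⁻¹ * η := by group
      _ = η⁻¹ * (g * (η * η * η)) * (η * η * η)⁻¹ * η := by rw [hη3c g]
      _ = η⁻¹ * g * η := by group
  have Nmul : ∀ g h : Γ, σ g ∈ V → σ h ∈ V →
      g * h * (η * (g * h) * η⁻¹) * (η⁻¹ * (g * h) * η) =
        g * (η * g * η⁻¹) * (η⁻¹ * g * η) * (h * (η * h * η⁻¹) * (η⁻¹ * h * η)) := by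
    intro g h hg hh
    have e1 : η * (g * h) * η⁻¹ = (η * g * η⁻¹) * (η * h * η⁻¹) := by group
    have e2 : η⁻¹ * (g * h) * η = (η⁻¹ * g * η) * (η⁻¹ * h * η) := by group
    rw [e1, e2]
    have c1 : h * (η * g * η⁻¹) = (η * g * η⁻¹) * h := F2 _ _ hh (Fη g hg)
    have c2 : h * (η⁻¹ * g * η) = (η⁻¹ * g * η) * h := F2 _ _ hh (Fη' g hg)
    have c3 : (η * h * η⁻¹) * (η⁻¹ * g * η) = (η⁻¹ * g * η) * (η * h * η⁻¹) :=
      F2 _ _ (Fη h hh) (Fη' g hg)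
    generalize η * g * η⁻¹ = a₂ at c1 c3 ⊢
    generalize η⁻¹ * g * η = a₃ at c2 c3 ⊢
    generalize η * h * η⁻¹ = b₂ at c3 ⊢
    generalize η⁻¹ * h * η = b₃
    calc g * h * (a₂ * b₂) * (a₃ * b₃) = g * (h * a₂) * b₂ * a₃ * b₃ := by simp only [mul_assoc]
      _ = g * (a₂ * h) * b₂ * a₃ * b₃ := by rw [c1]
      _ = g * a₂ * (h * (b₂ * a₃)) * b₃ := by simp only [mul_assoc]
      _ = g * a₂ * (h * (a₃ * b₂)) * b₃ := by rw [c3]
      _ = g * a₂ * ((h * a₃) * b₂) * b₃ := by simp only [mul_assoc]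
      _ = g * a₂ * ((a₃ * h) * b₂) * b₃ := by rw [c2]
      _ = g * a₂ * a₃ * (h * b₂ * b₃) := by simp only [mul_assoc]
  have Ncen : ∀ ζ ∈ σ.ker, ζ * (η * ζ * η⁻¹) * (η⁻¹ * ζ * η) = ζ := by
    intro ζ hζ
    have hz := Subgroup.mem_center_iff.mp (hc hζ)
    have e1 : η * ζ * η⁻¹ = ζ := by rw [hz η]; group
    have e2 : η⁻¹ * ζ * η = ζ := by rw [hz η⁻¹]; group
    rw [e1, e2, h2 ζ hζ, one_mul]
  refine ⟨{ carrier := {g | σ g ∈ V ∧ g * (η * g * η⁻¹) * (η⁻¹ * g * η) = 1}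
            one_mem' := ⟨by rw [map_one]; exact V.one_mem, by group⟩
            mul_mem' := by
              rintro g h ⟨hg, hg1⟩ ⟨hh, hh1⟩
              exact ⟨by rw [map_mul]; exact V.mul_mem hg hh, by rw [Nmul g h hg hh, hg1, hh1, one_mul]⟩
            inv_mem' := by
              rintro g ⟨hg, hg1⟩
              have hg' : σ g⁻¹ ∈ V := by rw [map_inv]; exact V.inv_mem hg
              refine ⟨hg', ?_⟩
              have e := Nmul g g⁻¹ hg hg'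
              rw [hg1, one_mul] at e
              rw [← e]
              group }, ?_, ?_, ?_, ?_⟩
  · intro g hg
    exact hg.1
  · rintro g ⟨hg, hg1⟩ hk
    rw [Ncen g hk] at hg1
    exact hg1
  · intro v hv
    obtain ⟨g₀, hg₀⟩ := MonoidHom.mem_range.mp (hVr hv)
    have hg₀V : σ g₀ ∈ V := by rw [hg₀]; exact hv
    have ha₂ := Fη g₀ hg₀V
    have ha₃ := Fη' g₀ hg₀V
    have hζV : σ (g₀ * (η * g₀ * η⁻¹) * (η⁻¹ * g₀ * η)) ∈ V := by
      rw [map_mul, map_mul]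
      exact V.mul_mem (V.mul_mem hg₀V ha₂) ha₃
    have hconj : η * (g₀ * (η * g₀ * η⁻¹) * (η⁻¹ * g₀ * η)) * η⁻¹ =
        g₀ * (η * g₀ * η⁻¹) * (η⁻¹ * g₀ * η) := by
      have e0 : η * (η⁻¹ * g₀ * η) * η⁻¹ = g₀ := by group
      have hcm : (η * g₀ * η⁻¹) * (η⁻¹ * g₀ * η) * g₀ = g₀ * ((η * g₀ * η⁻¹) * (η⁻¹ * g₀ * η)) :=
        F2 _ _ (by rw [map_mul]; exact V.mul_mem ha₂ ha₃) hg₀V
      calc η * (g₀ * (η * g₀ * η⁻¹) * (η⁻¹ * g₀ * η)) * η⁻¹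
          = (η * g₀ * η⁻¹) * (η * (η * g₀ * η⁻¹) * η⁻¹) * (η * (η⁻¹ * g₀ * η) * η⁻¹) := by group
        _ = (η * g₀ * η⁻¹) * (η⁻¹ * g₀ * η) * g₀ := by rw [Fηη g₀, e0]
        _ = g₀ * (η * g₀ * η⁻¹) * (η⁻¹ * g₀ * η) := by rw [hcm]; simp only [mul_assoc]
    have hζ1 : σ (g₀ * (η * g₀ * η⁻¹) * (η⁻¹ * g₀ * η)) = 1 := by
      apply hfix _ hζV
      have := congrArg σ hconj
      rw [map_mul, map_mul, map_inv, hη] at this
      exact this
    have hζk : g₀ * (η * g₀ * η⁻¹) * (η⁻¹ * g₀ * η) ∈ σ.ker := MonoidHom.mem_ker.mpr hζ1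
    refine ⟨g₀ * (g₀ * (η * g₀ * η⁻¹) * (η⁻¹ * g₀ * η)), ⟨?_, ?_⟩, ?_⟩
    · rw [map_mul, hζ1, mul_one]; exact hg₀V
    · rw [Nmul _ _ hg₀V (by rw [hζ1]; exact V.one_mem), Ncen _ hζk]
      exact h2 _ hζk
    · rw [map_mul, hζ1, mul_one]; exact hg₀
  · rintro δ hδV hδy g ⟨hg, hg1⟩
    refine ⟨?_, ?_⟩
    · rw [map_mul, map_mul, map_inv]
      exact hδV _ hg
    · have e : δ * g * δ⁻¹ * (η * (δ * g * δ⁻¹) * η⁻¹) * (η⁻¹ * (δ * g * δ⁻¹) * η) =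
          δ * (g * ((δ⁻¹ * η * δ) * g * (δ⁻¹ * η * δ)⁻¹) * ((δ⁻¹ * η * δ)⁻¹ * g * (δ⁻¹ * η * δ))) * δ⁻¹ := by
        group
      rw [e]
      have hσ' : σ (δ⁻¹ * η * δ) = (σ δ)⁻¹ * y * σ δ := by rw [map_mul, map_mul, map_inv, hη]
      rcases hδy with h | h
      · have h' : σ (δ⁻¹ * η * δ) = σ η := by
          rw [hσ', hη]
          calc (σ δ)⁻¹ * y * σ δ = (σ δ)⁻¹ * (σ δ * y * (σ δ)⁻¹) * σ δ := by rw [h]
            _ = y := by group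
        rw [conj_eq_of_map_eq hc h' g, conj_eq_of_map_eq' hc h' g, hg1]
        group
      · have h' : σ (δ⁻¹ * η * δ) = σ η⁻¹ := by
          rw [hσ', map_inv, hη]
          have h'' : y = σ δ * y⁻¹ * (σ δ)⁻¹ := by
            calc y = (σ δ * y * (σ δ)⁻¹)⁻¹ := by rw [h, inv_inv]
              _ = σ δ * y⁻¹ * (σ δ)⁻¹ := by group
          calc (σ δ)⁻¹ * y * σ δ = (σ δ)⁻¹ * (σ δ * y⁻¹ * (σ δ)⁻¹) * σ δ := by rw [← h'']
            _ = y⁻¹ := by group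
        rw [conj_eq_of_map_eq hc h' g, conj_eq_of_map_eq' hc h' g, inv_inv]
        have hcm : (η⁻¹ * g * η) * (η * g * η⁻¹) = (η * g * η⁻¹) * (η⁻¹ * g * η) :=
          F2 _ _ (Fη' g hg) (Fη g hg)
        have e3 : g * (η⁻¹ * g * η) * (η * g * η⁻¹) = 1 := by
          rw [mul_assoc g, hcm, ← mul_assoc]
          exact hg1
        rw [e3]
        group

/-- The main theorem at the prime 2, for a subgroup `V` whose preimage is abelian. -/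
theorem two_local_ab (hc : σ.ker ≤ Subgroup.center Γ) (h2 : ∀ ζ ∈ σ.ker, ζ * ζ = 1)
    (V D : Subgroup P) (y : P) (hVr : V ≤ σ.range) (hyr : y ∈ σ.range)
    (hVab : ∀ g h : Γ, σ g ∈ V → σ h ∈ V → g * h = h * g) (hy3 : y * y * y = 1)
    (hyV : ∀ v ∈ V, y * v * y⁻¹ ∈ V) (hfix : ∀ v ∈ V, y * v * y⁻¹ = v → v = 1)
    (hDV : ∀ d ∈ D, ∀ v ∈ V, d * v * d⁻¹ ∈ V)
    (hDy : ∀ d ∈ D, d * y * d⁻¹ = y ∨ d * y * d⁻¹ = y⁻¹)
    (D₁ : Subgroup Γ) (hD₁ : D₁.map σ = D) (hD₁k : ∀ g ∈ D₁, g ∈ σ.ker → g = 1) :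
    ∀ a ∈ ⁅(V ⊔ D).comap σ, (V ⊔ D).comap σ⁆, a ∈ σ.ker → a = 1 := by
  obtain ⟨V₁, hV₁V, hV₁k, hV₁s, hV₁inv⟩ := exists_normCompl_ab hc h2 V y hVr hyr hVab hy3 hyV hfix
  have hyy : y * y = y⁻¹ := mul_eq_one_iff_eq_inv.mp hy3
  have hD₁D : ∀ δ ∈ D₁, σ δ ∈ D := fun δ hδ => hD₁ ▸ Subgroup.mem_map_of_mem σ hδ
  have hD₁s : ∀ d ∈ D, ∃ δ ∈ D₁, σ δ = d := by
    intro d hd
    rw [← hD₁] at hd
    exact Subgroup.mem_map.mp hd
  have hDn : D ≤ Subgroup.normalizer (V : Set P) := by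
    intro d hd
    rw [Subgroup.mem_normalizer_iff]
    intro v
    constructor
    · exact hDV d hd v
    · intro h
      have := hDV d⁻¹ (D.inv_mem hd) _ h
      have e : d⁻¹ * (d * v * d⁻¹) * d⁻¹⁻¹ = v := by group
      rwa [e] at this
  have hD₁n : D₁ ≤ Subgroup.normalizer (V₁ : Set Γ) := by
    intro δ hδ
    rw [Subgroup.mem_normalizer_iff]
    intro g
    have hδD := hD₁D δ hδ
    constructor
    · exact hV₁inv δ (hDV _ hδD) (hDy _ hδD) g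
    · intro h
      have hδi : σ δ⁻¹ ∈ D := by rw [map_inv]; exact D.inv_mem hδD
      have := hV₁inv δ⁻¹ (hDV _ hδi) (hDy _ hδi) _ h
      have e : δ⁻¹ * (δ * g * δ⁻¹) * δ⁻¹⁻¹ = g := by group
      rwa [e] at this
  have hVD : ∀ d ∈ D, d ∈ V → d = 1 := by
    intro d hd hdV
    rcases hDy d hd with h | h
    · apply hfix d hdV
      have : d * y = y * d := by
        calc d * y = (d * y * d⁻¹) * d := by group
          _ = y * d := by rw [h]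
      rw [← this]; group
    · have h1 : y * d⁻¹ * y⁻¹ ∈ V := hyV _ (V.inv_mem hdV)
      have h2' : d * (y * d⁻¹ * y⁻¹) ∈ V := V.mul_mem hdV h1
      have e : d * (y * d⁻¹ * y⁻¹) = y := by
        calc d * (y * d⁻¹ * y⁻¹) = (d * y * d⁻¹) * y⁻¹ := by group
          _ = y⁻¹ * y⁻¹ := by rw [h]
          _ = y := by rw [← mul_inv_rev, hyy, inv_inv]
      rw [e] at h2'
      have hy1 : y = 1 := hfix y h2' (by group)
      apply hfix d hdV
      rw [hy1]; group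
  have hP₁ : ∀ x ∈ V₁ ⊔ D₁, ∃ v₁ ∈ V₁, ∃ d₁ ∈ D₁, x = v₁ * d₁ := by
    intro x hx
    have hset := Subgroup.coe_mul_of_right_le_normalizer_left V₁ D₁ hD₁n
    have hx' : x ∈ ((V₁ ⊔ D₁ : Subgroup Γ) : Set Γ) := hx
    rw [hset] at hx'
    obtain ⟨v₁, hv₁, d₁, hd₁, rfl⟩ := Set.mem_mul.mp hx'
    exact ⟨v₁, hv₁, d₁, hd₁, rfl⟩
  have hP₁k : ∀ x ∈ V₁ ⊔ D₁, x ∈ σ.ker → x = 1 := by
    intro x hx hxk
    obtain ⟨v₁, hv₁, d₁, hd₁, rfl⟩ := hP₁ x hx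
    rw [MonoidHom.mem_ker, map_mul] at hxk
    have hd : σ d₁ = (σ v₁)⁻¹ := eq_inv_of_mul_eq_one_right hxk
    have hdV : σ d₁ ∈ V := by rw [hd]; exact V.inv_mem (hV₁V _ hv₁)
    have hd1 : σ d₁ = 1 := hVD _ (hD₁D _ hd₁) hdV
    have hd₁1 : d₁ = 1 := hD₁k _ hd₁ (MonoidHom.mem_ker.mpr hd1)
    have hv1 : σ v₁ = 1 := by rw [hd1, mul_one] at hxk; exact hxk
    have hv₁1 : v₁ = 1 := hV₁k _ hv₁ (MonoidHom.mem_ker.mpr hv1)
    rw [hv₁1, hd₁1, one_mul]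
  have hdec : ∀ g ∈ (V ⊔ D).comap σ, ∃ p ∈ V₁ ⊔ D₁, ∃ ζ ∈ σ.ker, g = p * ζ := by
    intro g hg
    have hg' : σ g ∈ ((V ⊔ D : Subgroup P) : Set P) := hg
    rw [Subgroup.coe_mul_of_right_le_normalizer_left V D hDn] at hg'
    obtain ⟨v, hv, d, hd, hvd⟩ := Set.mem_mul.mp hg'
    obtain ⟨v₁, hv₁, hv₁v⟩ := hV₁s v hv
    obtain ⟨d₁, hd₁, hd₁d⟩ := hD₁s d hd
    refine ⟨v₁ * d₁, Subgroup.mul_mem _ (Subgroup.mem_sup_left hv₁) (Subgroup.mem_sup_right hd₁),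
      (v₁ * d₁)⁻¹ * g, ?_, by group⟩
    rw [MonoidHom.mem_ker, map_mul, map_inv, map_mul, hv₁v, hd₁d, hvd, inv_mul_cancel]
  have hle : ⁅(V ⊔ D).comap σ, (V ⊔ D).comap σ⁆ ≤ V₁ ⊔ D₁ := by
    rw [Subgroup.commutator_le]
    intro a ha b hb
    obtain ⟨p, hp, ζ, hζ, rfl⟩ := hdec a ha
    obtain ⟨p', hp', ζ', hζ', rfl⟩ := hdec b hb
    rw [commutatorElement_mul_central p p' ζ ζ' (hc hζ) (hc hζ'), commutatorElement_def]
    exact Subgroup.mul_mem _ (Subgroup.mul_mem _ (Subgroup.mul_mem _ hp hp') (Subgroup.inv_mem _ hp))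
      (Subgroup.inv_mem _ hp')
  intro a ha hak
  exact hP₁k a (hle ha) hak

/-- A four-group generated by involutions all of whose involutions only have lifts squaring to one
lifts. -/
theorem exists_lift_four {s t : P} (hs : s ∈ σ.range) (ht : t ∈ σ.range)
    (qs : QOne σ s) (qt : QOne σ t) (qst : QOne σ (s * t))
    (hcard : 4 ≤ Nat.card (Subgroup.closure ({s, t} : Set P))) :
    ∃ D₁ : Subgroup Γ, D₁.map σ = Subgroup.closure {s, t} ∧ ∀ g ∈ D₁, g ∈ σ.ker → g = 1 := by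
  obtain ⟨a, ha⟩ := MonoidHom.mem_range.mp hs
  obtain ⟨b, hb⟩ := MonoidHom.mem_range.mp ht
  have h2 : (a * b) ^ 2 = 1 := by
    rw [pow_two]
    exact qst (a * b) (by rw [map_mul, ha, hb])
  obtain ⟨hfin, hle⟩ := card_closure_pair_le a b 2 (by norm_num) (qs a ha) (qt b hb) h2
  have hmap : (Subgroup.closure ({a, b} : Set Γ)).map σ = Subgroup.closure {s, t} := by
    rw [MonoidHom.map_closure, Set.image_pair, ha, hb]
  exact ⟨Subgroup.closure {a, b}, hmap, lift_inj_of_card_le _ _ hmap (by omega)⟩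

end ab

/-! ### Multipliers of order 2 -/

/-- If the stem extensions with kernel of exponent 2 in which the lifts of the involution `a₀` square to
one satisfy the local criterion at the prime 2, then the kernel of every stem extension with kernel of
exponent 2 is generated by the square of a lift of `a₀`. -/
theorem ker_le_sq_of_local {G : Type u} [Group G] [Finite G] (a₀ : G) (ha₀ : a₀ * a₀ = 1)
    (h : ∀ (Γ : Type u) [Group Γ] [Finite Γ] (σ : Γ →* G), Cfsg.IsStemExtension σ →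
      (∀ ζ ∈ σ.ker, ζ ^ 2 = 1) → QOne σ a₀ →
      ∃ U : Subgroup G, ¬ 2 ∣ U.index ∧ ∀ a ∈ ⁅U.comap σ, U.comap σ⁆, a ∈ σ.ker → a = 1)
    {Γ : Type u} [Group Γ] [Finite Γ] (σ : Γ →* G) (hσ : Cfsg.IsStemExtension σ)
    (hexp : ∀ ζ ∈ σ.ker, ζ ^ 2 = 1) (α : Γ) (hα : σ α = a₀) :
    ∀ ζ ∈ σ.ker, ζ = 1 ∨ ζ = α * α := by
  have hw : α * α ∈ σ.ker := sq_mem_ker ha₀ hα
  have hZ₀K : Subgroup.zpowers (α * α) ≤ σ.ker := by
    rw [Subgroup.zpowers_le]; exact hw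
  have hZ₀n : (Subgroup.zpowers (α * α)).Normal :=
    normal_of_le_center _ (hZ₀K.trans hσ.2.1)
  have hσ' := isStemExtension_quotMap σ hσ (Subgroup.zpowers (α * α)) hZ₀K
  have hexp' : ∀ ζ ∈ (quotMap σ (Subgroup.zpowers (α * α)) hZ₀K).ker, ζ ^ 2 = 1 := by
    intro x' hx'
    obtain ⟨x, rfl⟩ := QuotientGroup.mk_surjective x'
    have hx : x ∈ σ.ker := (mem_ker_quotMap σ _ hZ₀K x).mp hx'
    rw [← QuotientGroup.mk_pow, hexp x hx]
    rfl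
  have h2 : ∀ ζ ∈ σ.ker, ζ * ζ = 1 := fun ζ hζ => by rw [← pow_two]; exact hexp ζ hζ
  have hq : QOne (quotMap σ (Subgroup.zpowers (α * α)) hZ₀K) a₀ := by
    intro g' hg'
    obtain ⟨g, rfl⟩ := QuotientGroup.mk_surjective g'
    have hg : σ g = a₀ := hg'
    have e : g * g = α * α := sq_eq_of_map_eq hσ.2.1 h2 (hg.trans hα.symm)
    rw [← QuotientGroup.mk_mul, e]
    exact (QuotientGroup.eq_one_iff _).mpr (Subgroup.mem_zpowers _)
  obtain ⟨U, hU, hU'⟩ := h (Γ ⧸ Subgroup.zpowers (α * α)) _ hσ' hexp' hq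
  intro ζ hζ
  have hζ' : (QuotientGroup.mk ζ : Γ ⧸ Subgroup.zpowers (α * α)) ∈
      (quotMap σ (Subgroup.zpowers (α * α)) hZ₀K).ker := (mem_ker_quotMap σ _ hZ₀K ζ).mpr hζ
  have h1 := pow_index_mem_commutator_comap _ hσ'.1 hσ'.2.1 hσ'.2.2 U hζ'
  have h3 : (QuotientGroup.mk ζ : Γ ⧸ Subgroup.zpowers (α * α)) ^ U.index = 1 :=
    hU' _ h1 (Subgroup.pow_mem _ hζ' _)
  have h4 := hexp' _ hζ'
  have hcop : Nat.gcd U.index 2 = 1 :=
    Nat.Coprime.symm ((Nat.Prime.coprime_iff_not_dvd Nat.prime_two).mpr hU)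
  have h5 : (QuotientGroup.mk ζ : Γ ⧸ Subgroup.zpowers (α * α)) = 1 := by
    have := pow_gcd_eq_one.mpr ⟨h3, h4⟩
    rwa [hcop, pow_one] at this
  have h6 : ζ ∈ Subgroup.zpowers (α * α) := (QuotientGroup.eq_one_iff ζ).mp h5
  obtain ⟨k, hk⟩ := Subgroup.mem_zpowers_iff.mp h6
  have hw2 : (α * α) ^ 2 = 1 := hexp _ hw
  rcases Int.even_or_odd' k with ⟨m, rfl | rfl⟩
  · left
    rw [← hk, zpow_mul, zpow_ofNat, hw2, one_zpow]
  · right
    rw [← hk, zpow_add, zpow_mul, zpow_ofNat, hw2, one_zpow, one_mul, zpow_one]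

/-- If moreover `G` has a four-group all of whose involutions are conjugate to `a₀`, a kernel of
exponent 4 has exponent 2. -/
theorem exp_two_of_four_group {G : Type u} [Group G] [Finite G] (a₀ a b : G) (ha₀ : a₀ * a₀ = 1)
    (hab : a * b = b * a) (ca : ∃ k, a = k * a₀ * k⁻¹) (cb : ∃ k, b = k * a₀ * k⁻¹)
    (cab : ∃ k, a * b = k * a₀ * k⁻¹)
    (htwo : ∀ (Γ : Type u) [Group Γ] [Finite Γ] (σ : Γ →* G), Cfsg.IsStemExtension σ →
      (∀ ζ ∈ σ.ker, ζ ^ 2 = 1) → ∀ α : Γ, σ α = a₀ → ∀ ζ ∈ σ.ker, ζ = 1 ∨ ζ = α * α)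
    {Γ : Type u} [Group Γ] [Finite Γ] (σ : Γ →* G) (hσ : Cfsg.IsStemExtension σ)
    (hexp : ∀ ζ ∈ σ.ker, ζ ^ 4 = 1) : ∀ ζ ∈ σ.ker, ζ ^ 2 = 1 := by
  have hc := hσ.2.1
  obtain ⟨α, hα⟩ := hσ.1 a₀
  obtain ⟨ka, hka⟩ := ca
  obtain ⟨kb, hkb⟩ := cb
  obtain ⟨kc, hkc⟩ := cab
  obtain ⟨κa, hκa⟩ := hσ.1 ka
  obtain ⟨κb, hκb⟩ := hσ.1 kb
  obtain ⟨κc, hκc⟩ := hσ.1 kc
  have hw : α * α ∈ σ.ker := sq_mem_ker ha₀ hα
  have hwc := Subgroup.mem_center_iff.mp (hc hw)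
  have hsq : ∀ κ : Γ, (κ * α * κ⁻¹) * (κ * α * κ⁻¹) = α * α := by
    intro κ
    calc (κ * α * κ⁻¹) * (κ * α * κ⁻¹) = κ * (α * α) * κ⁻¹ := by group
      _ = α * α * κ * κ⁻¹ := by rw [hwc κ]
      _ = α * α := by group
  have hA : σ (κa * α * κa⁻¹) = a := by rw [map_mul, map_mul, map_inv, hκa, hα, hka]
  have hB : σ (κb * α * κb⁻¹) = b := by rw [map_mul, map_mul, map_inv, hκb, hα, hkb]
  have hC : σ (κc * α * κc⁻¹) = a * b := by rw [map_mul, map_mul, map_inv, hκc, hα, hkc]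
  have hA2 := hsq κa
  have hB2 := hsq κb
  have hC2 := hsq κc
  generalize κa * α * κa⁻¹ = A at hA hA2
  generalize κb * α * κb⁻¹ = B at hB hB2
  generalize κc * α * κc⁻¹ = C at hC hC2
  obtain ⟨w, hwdef⟩ : ∃ w, w = α * α := ⟨_, rfl⟩
  rw [← hwdef] at hw hwc hA2 hB2 hC2
  -- the commutator of the lifts
  have hck : B⁻¹ * A⁻¹ * B * A ∈ σ.ker := by
    rw [MonoidHom.mem_ker, map_mul, map_mul, map_mul, map_inv, map_inv, hA, hB]
    calc b⁻¹ * a⁻¹ * b * a = b⁻¹ * a⁻¹ * (b * a) := by group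
      _ = b⁻¹ * a⁻¹ * (a * b) := by rw [hab]
      _ = 1 := by group
  have hcc := Subgroup.mem_center_iff.mp (hc hck)
  -- the difference of the two lifts of `a * b`
  have hζk : C⁻¹ * (A * B) ∈ σ.ker := by
    rw [MonoidHom.mem_ker, map_mul, map_inv, map_mul, hA, hB, hC, inv_mul_cancel]
  have hζc := Subgroup.mem_center_iff.mp (hc hζk)
  have hAB : A * B = C * (C⁻¹ * (A * B)) := by group
  have hBA : B * A = A * B * (B⁻¹ * A⁻¹ * B * A) := by group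
  have hAinv : A⁻¹ * B * A = B * (B⁻¹ * A⁻¹ * B * A) := by group
  generalize B⁻¹ * A⁻¹ * B * A = c at hck hcc hBA hAinv
  generalize C⁻¹ * (A * B) = ζ₀ at hζk hζc hAB
  -- first computation of the square of `A * B`
  have e1 : (A * B) * (A * B) = w * (ζ₀ * ζ₀) := by
    calc (A * B) * (A * B) = (C * ζ₀) * (C * ζ₀) := by rw [← hAB]
      _ = C * (ζ₀ * C) * ζ₀ := by simp only [mul_assoc]
      _ = C * (C * ζ₀) * ζ₀ := by rw [← hζc C]
      _ = (C * C) * (ζ₀ * ζ₀) := by simp only [mul_assoc]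
      _ = w * (ζ₀ * ζ₀) := by rw [hC2]
  -- second computation
  have e2 : (A * B) * (A * B) = w * w * c := by
    calc (A * B) * (A * B) = A * (B * A) * B := by simp only [mul_assoc]
      _ = A * (A * B * c) * B := by rw [hBA]
      _ = A * A * B * (c * B) := by simp only [mul_assoc]
      _ = A * A * B * (B * c) := by rw [← hcc B]
      _ = (A * A) * (B * B) * c := by simp only [mul_assoc]
      _ = w * w * c := by rw [hA2, hB2]
  have e3 : ζ₀ * ζ₀ = w * c := by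
    have : w * (ζ₀ * ζ₀) = w * (w * c) := by rw [← e1, e2, mul_assoc]
    exact mul_left_cancel this
  -- the commutator has order at most 2
  have e4 : c * c = 1 := by
    have h2 : A⁻¹ * (B * B) * A = (A⁻¹ * B * A) * (A⁻¹ * B * A) := by group
    rw [hAinv, hB2] at h2
    have h3 : A⁻¹ * w * A = w := by
      calc A⁻¹ * w * A = A⁻¹ * (w * A) := by group
        _ = A⁻¹ * (A * w) := by rw [hwc A]
        _ = w := by group
    rw [h3] at h2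
    have h4 : (B * c) * (B * c) = w * (c * c) := by
      calc (B * c) * (B * c) = B * (c * B) * c := by simp only [mul_assoc]
        _ = B * (B * c) * c := by rw [← hcc B]
        _ = (B * B) * (c * c) := by simp only [mul_assoc]
        _ = w * (c * c) := by rw [hB2]
    rw [h4] at h2
    have h5 : w * 1 = w * (c * c) := by rw [mul_one]; exact h2
    exact (mul_left_cancel h5).symm
  have e5 : w * w = 1 := by
    have h1 : ζ₀ ^ 4 = 1 := hexp ζ₀ hζk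
    have h2 : ζ₀ ^ 4 = (ζ₀ * ζ₀) * (ζ₀ * ζ₀) := by
      rw [show (4 : ℕ) = 2 + 2 from rfl, pow_add, pow_two]
    rw [h2, e3] at h1
    have h3 : (w * c) * (w * c) = (w * w) * (c * c) := by
      calc (w * c) * (w * c) = w * (c * w) * c := by simp only [mul_assoc]
        _ = w * (w * c) * c := by rw [← hcc w]
        _ = (w * w) * (c * c) := by simp only [mul_assoc]
    rw [h3, e4, mul_one] at h1
    exact h1
  -- the quotient by the squares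
  have hZ₀n : (powSub σ.ker hc 2).Normal :=
    normal_of_le_center _ ((powSub_le σ.ker hc 2).trans hc)
  have hσ' := isStemExtension_quotMap σ hσ (powSub σ.ker hc 2) (powSub_le σ.ker hc 2)
  have hexp' : ∀ ζ ∈ (quotMap σ (powSub σ.ker hc 2) (powSub_le σ.ker hc 2)).ker, ζ ^ 2 = 1 := by
    intro x' hx'
    obtain ⟨x, rfl⟩ := QuotientGroup.mk_surjective x'
    have hx : x ∈ σ.ker := (mem_ker_quotMap σ _ _ x).mp hx'
    rw [← QuotientGroup.mk_pow, QuotientGroup.eq_one_iff]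
    exact ⟨x, hx, rfl⟩
  have key := htwo (Γ ⧸ powSub σ.ker hc 2) _ hσ' hexp' (QuotientGroup.mk α) hα
  intro ζ hζ
  have hζc' := Subgroup.mem_center_iff.mp (hc hζ)
  rcases key (QuotientGroup.mk ζ) ((mem_ker_quotMap σ _ _ ζ).mpr hζ) with h | h
  · obtain ⟨k, hk, hkk⟩ := (QuotientGroup.eq_one_iff ζ).mp h
    rw [← hkk, ← pow_mul]
    exact hexp k hk
  · rw [← QuotientGroup.mk_mul, ← hwdef] at h
    obtain ⟨k, hk, hkk⟩ := QuotientGroup.eq.mp h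
    have hk4 : k ^ 4 = 1 := hexp k hk
    have e : w = ζ * k ^ 2 := by rw [hkk]; group
    have c1 : k ^ 2 * ζ = ζ * k ^ 2 := hζc' (k ^ 2)
    calc ζ ^ 2 = ζ * ζ := pow_two ζ
      _ = ζ * ζ * k ^ 4 := by rw [hk4, mul_one]
      _ = ζ * ζ * (k ^ 2 * k ^ 2) := by rw [← pow_add]
      _ = ζ * (ζ * k ^ 2) * k ^ 2 := by simp only [mul_assoc]
      _ = ζ * (k ^ 2 * ζ) * k ^ 2 := by rw [c1]
      _ = (ζ * k ^ 2) * (ζ * k ^ 2) := by simp only [mul_assoc]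
      _ = w * w := by rw [← e]
      _ = 1 := e5

/-- Criterion for the Schur multiplier to be cyclic of order 2. -/
theorem hasCyclicSchurMultiplier_two_of_local {G : Type u} [Group G] [Finite G]
    (hex : ∃ (Γ : Type u) (_ : Group Γ) (_ : Finite Γ) (σ : Γ →* G), Cfsg.IsStemExtension σ ∧
      Nonempty (σ.ker ≃* Multiplicative (ZMod 2)))
    (hodd : ∀ (Γ : Type u) [Group Γ] [Finite Γ] (σ : Γ →* G), Cfsg.IsStemExtension σ → ∀ ℓ : ℕ,
      ℓ.Prime → ℓ ≠ 2 → (∀ ζ ∈ σ.ker, ζ ^ ℓ = 1) →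
      ∃ U : Subgroup G, ¬ ℓ ∣ U.index ∧ ∀ a ∈ ⁅U.comap σ, U.comap σ⁆, a ∈ σ.ker → a = 1)
    (a₀ : G) (ha₀ : a₀ * a₀ = 1)
    (htwo : ∀ (Γ : Type u) [Group Γ] [Finite Γ] (σ : Γ →* G), Cfsg.IsStemExtension σ →
      (∀ ζ ∈ σ.ker, ζ ^ 2 = 1) → ∀ α : Γ, σ α = a₀ → ∀ ζ ∈ σ.ker, ζ = 1 ∨ ζ = α * α)
    (hfour : ∀ (Γ : Type u) [Group Γ] [Finite Γ] (σ : Γ →* G), Cfsg.IsStemExtension σ →
      (∀ ζ ∈ σ.ker, ζ ^ 4 = 1) → ∀ ζ ∈ σ.ker, ζ ^ 2 = 1) :
    Cfsg.HasCyclicSchurMultiplier G 2 := by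
  refine ⟨hex, ?_⟩
  intro Γ _ _ σ hσ
  have hc := hσ.2.1
  -- odd primes: every element of the kernel is an `ℓ`-th power
  have hpow : ∀ ℓ : ℕ, ℓ.Prime → ℓ ≠ 2 → ∀ x ∈ σ.ker, x ∈ powSub σ.ker hc ℓ := by
    intro ℓ hℓ hne x hx
    have hZ₀n : (powSub σ.ker hc ℓ).Normal :=
      normal_of_le_center _ ((powSub_le σ.ker hc ℓ).trans hc)
    have hσ' := isStemExtension_quotMap σ hσ (powSub σ.ker hc ℓ) (powSub_le σ.ker hc ℓ)
    have hexp' : ∀ ζ ∈ (quotMap σ (powSub σ.ker hc ℓ) (powSub_le σ.ker hc ℓ)).ker, ζ ^ ℓ = 1 := by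
      intro x' hx'
      obtain ⟨x, rfl⟩ := QuotientGroup.mk_surjective x'
      have hx : x ∈ σ.ker := (mem_ker_quotMap σ _ _ x).mp hx'
      rw [← QuotientGroup.mk_pow, QuotientGroup.eq_one_iff]
      exact ⟨x, hx, rfl⟩
    obtain ⟨U, hU, hU'⟩ := hodd (Γ ⧸ powSub σ.ker hc ℓ) _ hσ' ℓ hℓ hne hexp'
    have hx' : (QuotientGroup.mk x : Γ ⧸ powSub σ.ker hc ℓ) ∈
        (quotMap σ (powSub σ.ker hc ℓ) (powSub_le σ.ker hc ℓ)).ker :=
      (mem_ker_quotMap σ _ _ x).mpr hx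
    have h1 := pow_index_mem_commutator_comap _ hσ'.1 hσ'.2.1 hσ'.2.2 U hx'
    have h2 : (QuotientGroup.mk x : Γ ⧸ powSub σ.ker hc ℓ) ^ U.index = 1 :=
      hU' _ h1 (Subgroup.pow_mem _ hx' _)
    have h3 := hexp' _ hx'
    have hcop : Nat.gcd U.index ℓ = 1 :=
      Nat.Coprime.symm ((Nat.Prime.coprime_iff_not_dvd hℓ).mpr hU)
    have h4 : (QuotientGroup.mk x : Γ ⧸ powSub σ.ker hc ℓ) = 1 := by
      have := pow_gcd_eq_one.mpr ⟨h2, h3⟩
      rwa [hcop, pow_one] at this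
    exact (QuotientGroup.eq_one_iff x).mp h4
  have hprime : ∀ ℓ : ℕ, ℓ.Prime → ℓ ∣ Nat.card σ.ker → ℓ = 2 := by
    intro ℓ hℓ hdvd
    by_contra hne
    obtain ⟨k₀, hk₀⟩ := exists_not_pow σ.ker ℓ ℓ hℓ hdvd dvd_rfl
    obtain ⟨k, hk, hkk⟩ := hpow ℓ hℓ hne k₀ k₀.2
    exact hk₀ ⟨k, hk⟩ (Subtype.ext hkk)
  -- squares are fourth powers
  have hsq4 : ∀ x ∈ σ.ker, ∃ k ∈ σ.ker, k ^ 4 = x ^ 2 := by
    intro x hx
    have hZ₀n : (powSub σ.ker hc 4).Normal :=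
      normal_of_le_center _ ((powSub_le σ.ker hc 4).trans hc)
    have hσ' := isStemExtension_quotMap σ hσ (powSub σ.ker hc 4) (powSub_le σ.ker hc 4)
    have hexp' : ∀ ζ ∈ (quotMap σ (powSub σ.ker hc 4) (powSub_le σ.ker hc 4)).ker, ζ ^ 4 = 1 := by
      intro x' hx'
      obtain ⟨x, rfl⟩ := QuotientGroup.mk_surjective x'
      have hx : x ∈ σ.ker := (mem_ker_quotMap σ _ _ x).mp hx'
      rw [← QuotientGroup.mk_pow, QuotientGroup.eq_one_iff]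
      exact ⟨x, hx, rfl⟩
    have h1 := hfour (Γ ⧸ powSub σ.ker hc 4) _ hσ' hexp' (QuotientGroup.mk x)
      ((mem_ker_quotMap σ _ _ x).mpr hx)
    rw [← QuotientGroup.mk_pow] at h1
    exact (QuotientGroup.eq_one_iff _).mp h1
  -- the kernel is a 2-group
  have hcardpos : Nat.card σ.ker ≠ 0 := Nat.card_pos.ne'
  have hcardpow : Nat.card σ.ker = 2 ^ (Nat.card σ.ker).primeFactorsList.length :=
    Nat.eq_prime_pow_of_unique_prime_dvd hcardpos (fun {d} hd hdvd => hprime d hd hdvd)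
  have hall : ∀ x ∈ σ.ker, x ^ 2 ^ ((Nat.card σ.ker).primeFactorsList.length + 1) = 1 := by
    intro x hx
    have h1 : (⟨x, hx⟩ : σ.ker) ^ Nat.card σ.ker = 1 := pow_card_eq_one'
    have h2 : x ^ Nat.card σ.ker = 1 := congrArg Subtype.val h1
    rw [pow_succ, pow_mul, ← hcardpow, h2, one_pow]
  have hdown : ∀ m : ℕ, (∀ x ∈ σ.ker, x ^ 2 ^ (m + 1) = 1) → ∀ x ∈ σ.ker, x ^ 2 = 1 := by
    intro m
    induction m with
    | zero =>
      intro h x hx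
      have := h x hx
      rwa [zero_add, pow_one] at this
    | succ m ih =>
      intro h
      apply ih
      intro x hx
      obtain ⟨k, hk, hkk⟩ := hsq4 x hx
      have h1 : x ^ 2 ^ (m + 1) = (x ^ 2) ^ 2 ^ m := by rw [← pow_mul, pow_succ']
      rw [h1, ← hkk, ← pow_mul]
      have h2 : 4 * 2 ^ m = 2 ^ (m + 1 + 1) := by rw [pow_succ, pow_succ]; ring
      rw [h2]
      exact h k hk
  have hexp2 := hdown _ hall
  obtain ⟨α, hα⟩ := hσ.1 a₀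
  have hle : σ.ker ≤ Subgroup.zpowers (α * α) := by
    intro ζ hζ
    rcases htwo Γ σ hσ hexp2 α hα ζ hζ with h | h
    · rw [h]; exact one_mem _
    · rw [h]; exact Subgroup.mem_zpowers _
  exact surj_of_le_zpowers σ.ker (α * α) 2 hle (hexp2 _ (sq_mem_ker ha₀ hα))

end Cfsg.Agent.Lib.Helper70
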