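import Mathlib
import Cfsg.Agent.Lib.Helper4.FCDefs

/-!
# Project FC (S4146, architect helper4): piece BCB

`L1Stmt → BCb1Stmt → BCbStmt`: the index `m = |C(x) : C(x) ∩ C(y)|` is a power of `s`, because
`C(x) ∩ C(y)` contains a Sylow `r`-subgroup of `C(x)` for every prime `r ≠ s`.
-/

set_option autoImplicit false

namespace Cfsg.Agent.Lib.Helper4.FC

universe u

theorem fc_bcb : L1Stmt.{u} → BCb1Stmt.{u} → BCbStmt.{u} := by
  intro hL1 hB1 G _ _ n m p s A x y hF hp hpn hs hAn hAp hyA hcy hsx hcx hxA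
  have hcop : (cs x).Coprime (cs y) := by rw [hcx, hcy]; exact hF.2.2.1
  have hD := hL1 G x y hcop
  rw [hcx, hcy] at hD
  have hle : Cen x ⊓ Cen y ≤ Cen x := inf_le_left
  have hrel : (Cen x ⊓ Cen y).relIndex (Cen x) = m := by
    have h := Subgroup.relIndex_mul_index hle
    rw [hD] at h
    have hcx' : (Cen x).index = n := hcx
    rw [hcx'] at h
    have hn : 0 < n := by have := hF.1; omega
    nlinarith
  have hm0 : m ≠ 0 := by have := hF.2.1; omega
  have hprime : ∀ {d : ℕ}, d.Prime → d ∣ m → d = s := by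
    intro r hr hrm
    by_contra hrs
    haveI : Fact r.Prime := ⟨hr⟩
    let R : Sylow r (Cen x) := default
    have hRle : (R : Subgroup (Cen x)) ≤ (Cen x ⊓ Cen y).subgroupOf (Cen x) := by
      intro c hc
      rw [Subgroup.mem_subgroupOf, Subgroup.mem_inf]
      refine ⟨c.2, ?_⟩
      obtain ⟨k, hk⟩ := (IsPGroup.iff_orderOf.mp R.2) ⟨c, hc⟩
      have hprim : Prim r (c : G) := by
        refine ⟨k, ?_⟩
        rw [← hk, Subgroup.orderOf_mk, Subgroup.orderOf_coe]
      have h := hB1 G n m p s r A x (c : G) hF hp hpn hs hr hrs hAn hAp hsx hcx hxA hprim c.2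
        y hyA
      show (c : G) ∈ Subgroup.centralizer ({y} : Set G)
      rw [Subgroup.mem_centralizer_iff]
      intro z hz
      rw [Set.mem_singleton_iff] at hz
      rw [hz]
      exact h.symm
    have hdvd := Subgroup.index_dvd_of_le hRle
    have hnd := R.not_dvd_index
    apply hnd
    have hidx : ((Cen x ⊓ Cen y).subgroupOf (Cen x)).index = m := hrel
    rw [hidx] at hdvd
    exact hrm.trans hdvd
  exact ⟨_, Nat.eq_prime_pow_of_unique_prime_dvd hm0 hprime⟩

end Cfsg.Agent.Lib.Helper4.FC
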