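import Mathlib
import Cfsg.Agent.Lib.Helper4.FCDefs

/-!
# Project FC (S4146, architect helper4): piece L3 (duplicate seat, helper70)

Commuting elements of coprime orders: `C(xy) = C(x) ∩ C(y)`.
-/

set_option autoImplicit false

namespace Cfsg.Agent.Lib.Helper4.FC

universe u

theorem l3_helper70_pow {G : Type u} [Group G] [Finite G] (x y : G) (hxy : Commute x y)
    (hcop : (orderOf x).Coprime (orderOf y)) : ∃ k : ℕ, (x * y) ^ k = x := by
  obtain ⟨c, hc⟩ := exists_pow_eq_self_of_coprime (x := x) (n := orderOf y) hcop.symm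
  refine ⟨orderOf y * c, ?_⟩
  rw [pow_mul, hxy.mul_pow, pow_orderOf_eq_one, mul_one, hc]

theorem l3_helper70_mem {G : Type u} [Group G] (z g : G) : g ∈ Cen z ↔ Commute z g := by
  rw [Subgroup.mem_centralizer_iff]
  constructor
  · intro h
    exact h z (Set.mem_singleton z)
  · intro h w hw
    rw [Set.mem_singleton_iff] at hw
    rw [hw]
    exact h

theorem fc_l3 : L3Stmt.{u} := by
  intro G _ _ x y hxy hcop
  obtain ⟨k, hk⟩ := l3_helper70_pow x y hxy hcop
  obtain ⟨l, hl⟩ := l3_helper70_pow y x hxy.symm hcop.symm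
  rw [← hxy.eq] at hl
  ext g
  rw [Subgroup.mem_inf, l3_helper70_mem, l3_helper70_mem, l3_helper70_mem]
  constructor
  · intro h
    refine ⟨?_, ?_⟩
    · rw [← hk]; exact h.pow_left k
    · rw [← hl]; exact h.pow_left l
  · rintro ⟨h1, h2⟩
    exact h1.mul_left h2

end Cfsg.Agent.Lib.Helper4.FC
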