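import Mathlib
import Cfsg.Agent.Lib.Helper4.FCDefs

/-!
# Project FC (S4146, architect helper4): piece LFK2 (duplicate seat, helper70)

`cs (y k) = m * |K : C_K(k)|` for `y ∈ A` of class size `m` and `k ∈ K = C_H(A)`.
-/

set_option autoImplicit false

namespace Cfsg.Agent.Lib.Helper4.FC

universe u

theorem lfk2_helper70_card {G : Type u} [Group G] (A B C : Subgroup G) (hA : A ≤ C)
    (hB : B ≤ C) (h1 : A ⊓ B = ⊥) (hmul : ∀ c ∈ C, ∃ a ∈ A, ∃ b ∈ B, a * b = c) :
    Nat.card C = Nat.card A * Nat.card B := by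
  rw [← Nat.card_prod]
  symm
  apply Nat.card_congr
  refine Equiv.ofBijective
    (fun p : A × B => (⟨(p.1 : G) * (p.2 : G), C.mul_mem (hA p.1.2) (hB p.2.2)⟩ : C)) ⟨?_, ?_⟩
  · rintro ⟨a, b⟩ ⟨a', b'⟩ h
    have h' : (a : G) * b = a' * b' := congrArg Subtype.val h
    have hmem : (a' : G)⁻¹ * a ∈ A ⊓ B := by
      refine ⟨A.mul_mem (A.inv_mem a'.2) a.2, ?_⟩
      have e : (a' : G)⁻¹ * a = b' * (b : G)⁻¹ := by
        rw [inv_mul_eq_iff_eq_mul, ← mul_assoc, ← h', mul_inv_cancel_right]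
      rw [e]
      exact B.mul_mem b'.2 (B.inv_mem b.2)
    rw [h1, Subgroup.mem_bot, inv_mul_eq_one] at hmem
    have ha : (a : G) = a' := hmem.symm
    have hb : (b : G) = b' := by
      rw [ha] at h'
      exact mul_left_cancel h'
    exact Prod.ext (Subtype.ext ha) (Subtype.ext hb)
  · rintro ⟨c, hc⟩
    obtain ⟨a, ha, b, hb, hab⟩ := hmul c hc
    exact ⟨(⟨a, ha⟩, ⟨b, hb⟩), Subtype.ext hab⟩

theorem lfk2_helper70_mem {G : Type u} [Group G] (z g : G) : g ∈ Cen z ↔ z * g = g * z := by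
  rw [Subgroup.mem_centralizer_iff]
  constructor
  · intro h
    exact h z (Set.mem_singleton z)
  · intro h w hw
    rw [Set.mem_singleton_iff] at hw
    rw [hw]
    exact h

theorem fc_lfk2 : LF2Stmt.{u} → L3Stmt.{u} → LFK1Stmt.{u} → LFK2Stmt.{u} := by
  intro hLF2 hL3 hLFK1 G _ _ n m A H y k hctx hyA hcy hk
  have hctx' := hctx
  obtain ⟨hF, hAn, hAab, hAcop, hAH, hAHtop, hAcs, hArel⟩ := hctx
  haveI := hAn
  have hk' : k ∈ H ∧ k ∈ Subgroup.centralizer (A : Set G) := Subgroup.mem_inf.mp hk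
  have hkH : k ∈ H := hk'.1
  have hkA : ∀ a ∈ A, a * k = k * a := fun a ha => (Subgroup.mem_centralizer_iff.mp hk'.2) a ha
  have hG : Nat.card G = Nat.card A * Nat.card H := by
    rw [← Subgroup.card_top (G := G)]
    apply lfk2_helper70_card A H ⊤ le_top le_top hAH
    intro c _
    exact Subgroup.mem_sup_of_normal_left.mp (by rw [hAHtop]; exact Subgroup.mem_top c)
  have hHidx : Nat.card H = A.index := by
    have h1 := A.card_mul_index
    rw [hG] at h1
    exact (Nat.eq_of_mul_eq_mul_left Nat.card_pos h1).symm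
  have hyk : Commute y k := hkA y hyA
  have hcop : (orderOf y).Coprime (orderOf k) := by
    have h1 : orderOf y ∣ Nat.card A := by
      have h := orderOf_dvd_natCard (⟨y, hyA⟩ : A)
      rwa [Subgroup.orderOf_mk] at h
    have h2 : orderOf k ∣ A.index := by
      have h := orderOf_dvd_natCard (⟨k, hkH⟩ : H)
      rwa [Subgroup.orderOf_mk, hHidx] at h
    exact Nat.Coprime.coprime_dvd_left h1 (Nat.Coprime.coprime_dvd_right h2 hAcop)
  have hL := hL3 G y k hyk hcop
  have hC : Nat.card (Cen (y * k)) =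
      Nat.card A * Nat.card (Cen k ⊓ CHA A H : Subgroup G) := by
    apply lfk2_helper70_card A (Cen k ⊓ CHA A H) (Cen (y * k))
    · intro a ha
      rw [hL]
      exact ⟨(lfk2_helper70_mem y a).mpr (hAab y hyA a ha),
        (lfk2_helper70_mem k a).mpr (hkA a ha).symm⟩
    · intro b hb
      rw [hL]
      have hb' := Subgroup.mem_inf.mp hb
      have hb'' : b ∈ H ∧ b ∈ Subgroup.centralizer (A : Set G) := Subgroup.mem_inf.mp hb'.2
      refine ⟨(lfk2_helper70_mem y b).mpr ?_, hb'.1⟩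
      exact (Subgroup.mem_centralizer_iff.mp hb''.2) y hyA
    · rw [eq_bot_iff, ← hAH]
      exact inf_le_inf le_rfl (inf_le_right.trans inf_le_left)
    · intro c hc
      rw [hL] at hc
      obtain ⟨hcy', hck⟩ := Subgroup.mem_inf.mp hc
      obtain ⟨a, ha, h, hh, hah⟩ := Subgroup.mem_sup_of_normal_left.mp
        (by rw [hAHtop]; exact Subgroup.mem_top c : c ∈ A ⊔ H)
      have hay : a ∈ Cen y := (lfk2_helper70_mem y a).mpr (hAab y hyA a ha)
      have hak : a ∈ Cen k := (lfk2_helper70_mem k a).mpr (hkA a ha).symm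
      have he : h = a⁻¹ * c := by rw [← hah]; group
      have hhy : h ∈ Cen y := by
        rw [he]
        exact (Cen y).mul_mem ((Cen y).inv_mem hay) hcy'
      have hhk : h ∈ Cen k := by
        rw [he]
        exact (Cen k).mul_mem ((Cen k).inv_mem hak) hck
      have hhK : h ∈ CHA A H :=
        hLF2 G n m A H h y hctx' hh hyA hcy ((lfk2_helper70_mem y h).mp hhy).symm
      exact ⟨a, ha, h, Subgroup.mem_inf.mpr ⟨hhk, hhK⟩, hah⟩
  have hKH : CHA A H ≤ H := inf_le_left
  have hKr : Nat.card (Cen k ⊓ CHA A H : Subgroup G) * (Cen k).relIndex (CHA A H) =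
      Nat.card (CHA A H) := by
    have e := Subgroup.relIndex_mul_relIndex (⊥ : Subgroup G) (Cen k ⊓ CHA A H) (CHA A H)
      bot_le inf_le_right
    rw [Subgroup.relIndex_bot_left, Subgroup.relIndex_bot_left, Subgroup.inf_relIndex_right] at e
    exact e
  have hHr : Nat.card (CHA A H) * m = Nat.card H := by
    have e := Subgroup.relIndex_mul_relIndex (⊥ : Subgroup G) (CHA A H) H bot_le hKH
    rw [Subgroup.relIndex_bot_left, Subgroup.relIndex_bot_left, hLFK1 G n m A H hctx'] at e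
    exact e
  have hidx : Nat.card (Cen (y * k)) * (Cen (y * k)).index = Nat.card G :=
    (Cen (y * k)).card_mul_index
  have hpos : 0 < Nat.card A * Nat.card (Cen k ⊓ CHA A H : Subgroup G) :=
    Nat.mul_pos Nat.card_pos Nat.card_pos
  show (Cen (y * k)).index = m * (Cen k).relIndex (CHA A H)
  apply Nat.eq_of_mul_eq_mul_left hpos
  calc Nat.card A * Nat.card (Cen k ⊓ CHA A H : Subgroup G) * (Cen (y * k)).index
      = Nat.card (Cen (y * k)) * (Cen (y * k)).index := by rw [hC]
    _ = Nat.card G := hidx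
    _ = Nat.card A * Nat.card H := hG
    _ = Nat.card A * (Nat.card (CHA A H) * m) := by rw [hHr]
    _ = Nat.card A * ((Nat.card (Cen k ⊓ CHA A H : Subgroup G) * (Cen k).relIndex (CHA A H)) * m) := by
        rw [hKr]
    _ = Nat.card A * Nat.card (Cen k ⊓ CHA A H : Subgroup G) * (m * (Cen k).relIndex (CHA A H)) := by
        ring

end Cfsg.Agent.Lib.Helper4.FC
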