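import Mathlib
import Cfsg.Agent.Lib.Helper4.FCDefs

/-!
# Project FC (S4146, architect helper4): piece SPLIT (duplicate seat, helper70)

`G = N ⋊ H`, `x ∈ H`: `cs x = |N : C_N(x)| * |H : C_H(x)|`.
-/

set_option autoImplicit false

namespace Cfsg.Agent.Lib.Helper4.FC

universe u

theorem split_helper70_card {G : Type u} [Group G] (A B C : Subgroup G) (hA : A ≤ C)
    (hB : B ≤ C) (h1 : A ⊓ B = ⊥) (hmul : ∀ c ∈ C, ∃ a ∈ A, ∃ b ∈ B, a * b = c) :
    Nat.card C = Nat.card A * Nat.card B := by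
  rw [← Nat.card_prod]
  symm
  apply Nat.card_congr
  refine Equiv.ofBijective
    (fun p : A × B => (⟨(p.1 : G) * (p.2 : G), C.mul_mem (hA p.1.2) (hB p.2.2)⟩ : C)) ⟨?_, ?_⟩
  · rintro ⟨a, b⟩ ⟨a', b'⟩ h
    have h' : (a : G) * b = a' * b' := congrArg Subtype.val h
    have hmem : (a' : G)⁻¹ * a ∈ A ⊓ B := by
      refine ⟨A.mul_mem (A.inv_mem a'.2) a.2, ?_⟩
      have e : (a' : G)⁻¹ * a = b' * (b : G)⁻¹ := by
        rw [inv_mul_eq_iff_eq_mul, ← mul_assoc, ← h', mul_inv_cancel_right]
      rw [e]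
      exact B.mul_mem b'.2 (B.inv_mem b.2)
    rw [h1, Subgroup.mem_bot, inv_mul_eq_one] at hmem
    have ha : (a : G) = a' := hmem.symm
    have hb : (b : G) = b' := by
      rw [ha] at h'
      exact mul_left_cancel h'
    exact Prod.ext (Subtype.ext ha) (Subtype.ext hb)
  · rintro ⟨c, hc⟩
    obtain ⟨a, ha, b, hb, hab⟩ := hmul c hc
    exact ⟨(⟨a, ha⟩, ⟨b, hb⟩), Subtype.ext hab⟩

theorem split_helper70_mem {G : Type u} [Group G] (z g : G) : g ∈ Cen z ↔ z * g = g * z := by
  rw [Subgroup.mem_centralizer_iff]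
  constructor
  · intro h
    exact h z (Set.mem_singleton z)
  · intro h w hw
    rw [Set.mem_singleton_iff] at hw
    rw [hw]
    exact h

theorem fc_split : SplitStmt.{u} := by
  intro G _ _ N H x hN h1 h2 hx
  haveI := hN
  -- |G| = |N| |H|
  have hG : Nat.card G = Nat.card N * Nat.card H := by
    rw [← Subgroup.card_top (G := G)]
    apply split_helper70_card N H ⊤ le_top le_top h1
    intro c _
    exact Subgroup.mem_sup_of_normal_left.mp (by rw [h2]; exact Subgroup.mem_top c)
  -- |C| = |C ∩ N| |C ∩ H|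
  have hC : Nat.card (Cen x) = Nat.card (Cen x ⊓ N : Subgroup G) * Nat.card (Cen x ⊓ H : Subgroup G) := by
    apply split_helper70_card (Cen x ⊓ N) (Cen x ⊓ H) (Cen x) inf_le_left inf_le_left
    · rw [eq_bot_iff, ← h1]
      exact inf_le_inf inf_le_right inf_le_right
    · intro c hc
      have hxc : x * c = c * x := (split_helper70_mem x c).mp hc
      obtain ⟨n, hn, h, hh, hnh⟩ :=
        Subgroup.mem_sup_of_normal_left.mp (by rw [h2]; exact Subgroup.mem_top c : c ∈ N ⊔ H)
      have hn' : x * n * x⁻¹ ∈ N := hN.conj_mem n hn x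
      have hh' : x * h * x⁻¹ ∈ H := H.mul_mem (H.mul_mem hx hh) (H.inv_mem hx)
      have heq : (x * n * x⁻¹) * (x * h * x⁻¹) = n * h := by
        have e : (x * n * x⁻¹) * (x * h * x⁻¹) = x * (n * h) * x⁻¹ := by group
        rw [e, hnh, hxc, mul_inv_cancel_right]
      have hmem : n⁻¹ * (x * n * x⁻¹) ∈ N ⊓ H := by
        refine ⟨N.mul_mem (N.inv_mem hn) hn', ?_⟩
        have e : n⁻¹ * (x * n * x⁻¹) = h * (x * h * x⁻¹)⁻¹ := by
          rw [inv_mul_eq_iff_eq_mul, ← mul_assoc, ← heq, mul_inv_cancel_right]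
        rw [e]
        exact H.mul_mem hh (H.inv_mem hh')
      rw [h1, Subgroup.mem_bot, inv_mul_eq_one] at hmem
      have hxn : x * n = n * x := by
        calc x * n = (x * n * x⁻¹) * x := by group
          _ = n * x := by rw [← hmem]
      have hxh : x * h = h * x := by
        rw [← hmem] at heq
        have e := mul_left_cancel heq
        calc x * h = (x * h * x⁻¹) * x := by group
          _ = h * x := by rw [e]
      exact ⟨n, ⟨(split_helper70_mem x n).mpr hxn, hn⟩, h,
        ⟨(split_helper70_mem x h).mpr hxh, hh⟩, hnh⟩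
  have hNr : Nat.card (Cen x ⊓ N : Subgroup G) * (Cen x).relIndex N = Nat.card N := by
    have e := Subgroup.relIndex_mul_relIndex (⊥ : Subgroup G) (Cen x ⊓ N) N bot_le inf_le_right
    rw [Subgroup.relIndex_bot_left, Subgroup.relIndex_bot_left, Subgroup.inf_relIndex_right] at e
    exact e
  have hHr : Nat.card (Cen x ⊓ H : Subgroup G) * (Cen x).relIndex H = Nat.card H := by
    have e := Subgroup.relIndex_mul_relIndex (⊥ : Subgroup G) (Cen x ⊓ H) H bot_le inf_le_right
    rw [Subgroup.relIndex_bot_left, Subgroup.relIndex_bot_left, Subgroup.inf_relIndex_right] at e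
    exact e
  have hidx : Nat.card (Cen x) * (Cen x).index = Nat.card G := (Cen x).card_mul_index
  have hpos : 0 < Nat.card (Cen x) := Nat.card_pos
  show (Cen x).index = (Cen x).relIndex N * (Cen x).relIndex H
  apply Nat.eq_of_mul_eq_mul_left hpos
  rw [hidx, hG, ← hNr, ← hHr, hC]
  ring

end Cfsg.Agent.Lib.Helper4.FC
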