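import Mathlib
import Cfsg.Agent.Lib.Helper4.FCDefs

/-!
# Project FC (S4146, architect helper4): piece W

`KQStmt → W1Stmt → W2Stmt → W3Stmt → W4Stmt → WStmt`: for `b ∈ Q` with `cs b = m = q^i`, the
group `C_Q(b)` centralizes the normal `q`-complement `K`.
-/

set_option autoImplicit false

namespace Cfsg.Agent.Lib.Helper4.FC

universe u

theorem fc_w : KQStmt.{u} → W1Stmt.{u} → W2Stmt.{u} → W3Stmt.{u} → W4Stmt.{u} → WStmt.{u} := by
  intro hKQ hW1 hW2 hW3 hW4 G _ _ n m q K Q b x hF hq hm hKn hKq hKi hbQ hcb hxQ hxb u hu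
  haveI : Fact q.Prime := ⟨hq⟩
  haveI := hKn
  obtain ⟨_, hKQ2, _⟩ := hKQ G q K Q hq hKn hKq hKi
  have hKb : K ≤ Cen b := by
    apply hW1 G K b hKn
    rw [hcb]
    obtain ⟨i, hi⟩ := hm
    rw [hi]
    exact Nat.Coprime.pow_right i hKq
  have hbprim : Prim q b := by
    obtain ⟨k, hk⟩ := (IsPGroup.iff_orderOf.mp Q.2) ⟨b, hbQ⟩
    exact ⟨k, by rw [← hk, Subgroup.orderOf_mk]⟩
  have hK'n : (K.subgroupOf (Cen b)).Normal := hKn.subgroupOf (Cen b)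
  have hT0 : IsPGroup q (((Q : Subgroup G) ⊓ Cen b).subgroupOf (Cen b)) :=
    (Q.2.to_le inf_le_left).comap_subtype
  obtain ⟨T, hT⟩ := hT0.exists_le_sylow
  have hsup : K.subgroupOf (Cen b) ⊔ (T : Subgroup (Cen b)) = ⊤ := by
    rw [eq_top_iff]
    intro c _
    have hc : (c : G) ∈ K ⊔ (Q : Subgroup G) := by rw [hKQ2]; exact Subgroup.mem_top _
    rw [Subgroup.mem_sup_of_normal_left] at hc
    obtain ⟨k, hk, y, hy, hky⟩ := hc
    have hkb : k ∈ Cen b := hKb hk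
    have hyb : y ∈ Cen b := by
      have e1 : y = k⁻¹ * (c : G) := by rw [← hky]; group
      rw [e1]
      exact (Cen b).mul_mem ((Cen b).inv_mem hkb) c.2
    have e : c = (⟨k, hkb⟩ : Cen b) * ⟨y, hyb⟩ := Subtype.ext hky.symm
    rw [e]
    apply Subgroup.mul_mem_sup
    · exact Subgroup.mem_subgroupOf.mpr hk
    · apply hT
      exact Subgroup.mem_subgroupOf.mpr ⟨hy, hyb⟩
  have hcov : ∀ v ∈ K.subgroupOf (Cen b), ∃ k ∈ K.subgroupOf (Cen b),
      ∀ z ∈ (T : Subgroup (Cen b)), z * (k⁻¹ * v * k) = (k⁻¹ * v * k) * z := by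
    intro v hv
    have hq' : ¬ q ∣ cs v :=
      hW2 G n m q K b v hF hq hm hKn hKq hcb hbprim (Subgroup.mem_subgroupOf.mp hv)
    exact hW3 (Cen b) q (K.subgroupOf (Cen b)) T v hq hK'n hsup hq'
  have hcent := hW4 (Cen b) (K.subgroupOf (Cen b)) (T : Subgroup (Cen b)) hK'n hcov
  have hxT : (⟨x, hxb⟩ : Cen b) ∈ (T : Subgroup (Cen b)) :=
    hT (Subgroup.mem_subgroupOf.mpr ⟨hxQ, hxb⟩)
  have huK' : (⟨u, hKb hu⟩ : Cen b) ∈ K.subgroupOf (Cen b) := Subgroup.mem_subgroupOf.mpr hu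
  have h := hcent _ hxT _ huK'
  exact congrArg Subtype.val h

end Cfsg.Agent.Lib.Helper4.FC
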