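/-! Data for S2134 (helper70): the centraliser of the involution `f` of the presented Held group.
Computed outside Lean; every use is checked by the kernel in `HeCChk`. -/

set_option autoImplicit false
set_option maxRecDepth 1000000

namespace Cfsg.Agent.Lib.Helper70.HeC

/-- words of the basis of `W = 2^4` (padded by two empty words) -/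
def wWL : List (List Nat) := [
  [5],
  [6, 3, 4, 5, 3, 6],
  [2, 6, 3, 4, 5, 3, 6, 2],
  [6, 1, 2, 3, 4, 5, 3, 2, 1, 6],
  [],
  []]

/-- a word moving the coset `0` to a coset moved by every nontrivial element of `W` -/
def uW : List Nat := [3, 2, 1, 3, 6]

/-- words of the generators `x, t, u` of the complement and of their inverses -/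
def hGWL : List (List Nat) := [
  [6, 3, 2, 3, 6, 5, 6, 3, 2, 3, 6, 5, 1, 2],
  [3, 6, 5, 6, 3, 2, 3, 6, 5, 6, 3, 5],
  [1, 0, 1, 6, 1, 2, 3, 4, 5, 3, 2, 1, 3, 4, 5, 3, 6, 5],
  [2, 1, 5, 6, 3, 2, 3, 6, 5, 6, 3, 2, 3, 6],
  [5, 3, 6, 5, 6, 3, 2, 3, 6, 5, 6, 3],
  [5, 6, 3, 5, 4, 3, 1, 2, 3, 5, 4, 3, 2, 1, 6, 1, 0, 1]]

/-- their tables on `W` -/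
def hTabL : List (List Nat) := [
  [0, 1, 11, 10, 2, 3, 9, 8, 4, 5, 15, 14, 6, 7, 13, 12, 0, 1, 11, 10, 2, 3, 9, 8, 4, 5, 15, 14, 6, 7, 13, 12, 0, 1, 11, 10, 2, 3, 9, 8, 4, 5, 15, 14, 6, 7, 13, 12, 0, 1, 11, 10, 2, 3, 9, 8, 4, 5, 15, 14, 6, 7, 13, 12],
  [0, 1, 2, 3, 4, 5, 6, 7, 14, 15, 12, 13, 10, 11, 8, 9, 0, 1, 2, 3, 4, 5, 6, 7, 14, 15, 12, 13, 10, 11, 8, 9, 0, 1, 2, 3, 4, 5, 6, 7, 14, 15, 12, 13, 10, 11, 8, 9, 0, 1, 2, 3, 4, 5, 6, 7, 14, 15, 12, 13, 10, 11, 8, 9],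
  [0, 1, 2, 3, 5, 4, 7, 6, 8, 9, 10, 11, 13, 12, 15, 14, 0, 1, 2, 3, 5, 4, 7, 6, 8, 9, 10, 11, 13, 12, 15, 14, 0, 1, 2, 3, 5, 4, 7, 6, 8, 9, 10, 11, 13, 12, 15, 14, 0, 1, 2, 3, 5, 4, 7, 6, 8, 9, 10, 11, 13, 12, 15, 14],
  [0, 1, 4, 5, 8, 9, 12, 13, 7, 6, 3, 2, 15, 14, 11, 10, 0, 1, 4, 5, 8, 9, 12, 13, 7, 6, 3, 2, 15, 14, 11, 10, 0, 1, 4, 5, 8, 9, 12, 13, 7, 6, 3, 2, 15, 14, 11, 10, 0, 1, 4, 5, 8, 9, 12, 13, 7, 6, 3, 2, 15, 14, 11, 10],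
  [0, 1, 2, 3, 4, 5, 6, 7, 14, 15, 12, 13, 10, 11, 8, 9, 0, 1, 2, 3, 4, 5, 6, 7, 14, 15, 12, 13, 10, 11, 8, 9, 0, 1, 2, 3, 4, 5, 6, 7, 14, 15, 12, 13, 10, 11, 8, 9, 0, 1, 2, 3, 4, 5, 6, 7, 14, 15, 12, 13, 10, 11, 8, 9],
  [0, 1, 2, 3, 5, 4, 7, 6, 8, 9, 10, 11, 13, 12, 15, 14, 0, 1, 2, 3, 5, 4, 7, 6, 8, 9, 10, 11, 13, 12, 15, 14, 0, 1, 2, 3, 5, 4, 7, 6, 8, 9, 10, 11, 13, 12, 15, 14, 0, 1, 2, 3, 5, 4, 7, 6, 8, 9, 10, 11, 13, 12, 15, 14]]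

/-- 1344 words in `x, t, u` (letters 0, 1, 2), sorted by the code of their action on `W` -/
def HLL : List (List Nat) := [
  [1, 0, 0, 0, 0, 0, 0, 1, 0, 1],
  [1, 0, 0, 0, 0, 0, 0, 2, 1, 0, 1],
  [2, 0, 0, 2, 0, 1, 0, 0, 1],
  [0, 0, 0, 1, 0, 0, 1],
  [0, 1, 0, 2, 1, 0, 0, 0, 0],
  [0, 1, 0, 1, 0, 0, 0, 0],
  [0, 0, 0, 0, 0, 0, 1, 0, 1],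
  [0, 0, 0, 0, 0, 0, 2, 1, 0, 1],
  [2, 1, 0, 0, 0, 0, 0, 0, 1, 0, 1],
  [1, 2, 0, 0, 0, 0, 0, 0, 1, 0, 1],
  [0, 0, 2, 0, 1, 0, 0, 1],
  [2, 0, 0, 0, 1, 0, 0, 1],
  [2, 0, 1, 0, 1, 0, 0, 0, 0],
  [1, 2, 0, 0, 0, 1, 0, 0, 1],
  [0, 0, 2, 0, 0, 0, 0, 1, 0, 1],
  [2, 0, 0, 0, 0, 0, 0, 1, 0, 1],
  [2, 0, 0, 0, 0, 0, 1],
  [0, 0, 2, 0, 0, 0, 1],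
  [0, 0, 2, 1, 0, 0, 1, 0, 1, 0],
  [2, 0, 0, 1, 0, 0, 1, 0, 1, 0],
  [2, 0, 0, 1, 0, 1, 0, 0, 0, 0, 0],
  [0, 0, 2, 1, 0, 1, 0, 0, 0, 0, 0],
  [1, 2, 0, 0, 0, 0, 0, 1],
  [2, 1, 0, 0, 0, 0, 0, 1],
  [0, 0, 0, 0, 0, 1],
  [2, 0, 0, 2, 0, 0, 0, 1],
  [0, 0, 1, 0, 0, 1, 2, 0, 1, 0],
  [0, 0, 1, 0, 0, 1, 0, 1, 0],
  [0, 0, 1, 0, 1, 0, 0, 0, 2, 0, 0],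
  [0, 0, 1, 0, 1, 0, 0, 0, 0, 0],
  [1, 0, 0, 0, 0, 0, 1],
  [0, 0, 1, 0, 0, 1, 2, 0, 0],
  [0, 0, 1, 0, 1, 0, 1],
  [2, 0, 0, 1, 0, 1, 0, 1],
  [2, 1, 0, 1, 0, 1, 0, 0, 1, 0, 0],
  [1, 0, 1, 0, 1, 0, 0, 1, 0, 0],
  [2, 0, 1, 0, 1, 0, 1, 0, 1],
  [0, 1, 0, 1, 0, 1, 0, 1],
  [1, 0, 1, 0, 0, 0, 0, 1],
  [2, 1, 0, 1, 0, 0, 0, 0, 1],
  [0, 0, 1, 0, 1, 0, 1, 2],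
  [0, 0, 2, 1, 0, 1, 0, 1],
  [1, 2, 0, 1, 0, 1, 0, 0, 1, 0, 0],
  [1, 0, 1, 0, 2, 1, 0, 0, 1, 0, 0],
  [0, 1, 0, 2, 1, 0, 1, 0, 1],
  [0, 1, 0, 1, 0, 1, 0, 1, 2],
  [1, 2, 0, 1, 0, 0, 0, 0, 1],
  [1, 0, 1, 0, 2, 0, 0, 0, 1],
  [1, 0, 0, 1, 0, 0, 0, 0, 2],
  [1, 2, 0, 0, 1, 0, 0, 0, 0],
  [2, 0, 1, 0, 2],
  [0, 1, 0, 2],
  [0, 0, 0, 0, 1, 2, 0, 1, 0, 0],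
  [0, 0, 2, 0, 0, 1, 0, 1, 0, 0],
  [0, 0, 2],
  [2, 0, 0, 2],
  [1, 0, 0, 1, 0, 0, 0, 0],
  [2, 1, 0, 0, 1, 0, 0, 0, 0],
  [2, 0, 1, 0],
  [0, 1, 0],
  [2, 0, 0, 0, 0, 1, 0, 1, 0, 0],
  [0, 0, 0, 0, 1, 0, 1, 0, 0],
  [0, 0],
  [2, 0, 0],
  [0, 0, 1, 0, 0, 0, 0, 2],
  [2, 0, 0, 1, 0, 0, 0, 0],
  [2, 1, 0, 1, 0],
  [1, 0, 1, 0, 2],
  [2, 1, 0, 0],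
  [2, 1, 2, 0, 0],
  [0, 1, 0, 2, 0, 1, 0, 0, 1],
  [2, 0, 0, 1, 0, 0, 0, 1, 0],
  [0, 0, 1, 0, 0, 0, 0],
  [0, 0, 2, 1, 0, 0, 0, 0],
  [1, 2, 0, 1, 0],
  [1, 0, 1, 0],
  [1, 0, 0],
  [1, 2, 0, 0],
  [0, 0, 2, 1, 0, 0, 0, 1, 0],
  [0, 0, 1, 0, 0, 0, 1, 0],
  [1, 0, 0, 1, 0, 1, 0, 1],
  [1, 2, 0, 0, 1, 0, 1, 0, 1],
  [0, 1, 0, 1, 0, 0, 1, 2, 0, 0],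
  [0, 1, 0, 1, 0, 0, 1, 0, 0],
  [0, 1, 0, 0, 0, 0, 1],
  [0, 0, 2, 0, 0, 1, 0, 0, 0],
  [0, 0, 2, 0, 1, 0, 1, 0, 0, 0],
  [0, 0, 0, 1, 0, 1, 0, 0, 0],
  [1, 0, 0, 1, 0, 1, 0, 1, 2],
  [2, 1, 0, 0, 1, 0, 1, 0, 1],
  [2, 0, 1, 0, 1, 0, 0, 1, 0, 0],
  [0, 1, 0, 2, 1, 0, 0, 1, 0, 0],
  [2, 0, 1, 0, 0, 0, 0, 1],
  [0, 1, 0, 2, 0, 0, 0, 1],
  [0, 0, 0, 1, 0, 1, 2, 0, 0, 0],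
  [2, 0, 0, 0, 1, 0, 1, 0, 0, 0],
  [1, 0, 2, 0, 0, 0, 0, 0, 1, 0, 1],
  [1, 0, 0, 0, 0, 0, 2, 0, 1, 0, 1],
  [0, 0, 0, 1, 2, 0, 0, 1],
  [0, 2, 0, 0, 1, 0, 0, 1],
  [0, 2, 1, 0, 1, 0, 0, 0, 0],
  [0, 1, 0, 1, 0, 0, 0, 2, 0],
  [0, 2, 0, 0, 0, 0, 0, 1, 0, 1],
  [0, 0, 0, 0, 0, 2, 0, 1, 0, 1],
  [1, 0, 0, 0, 0, 2, 0, 0, 1, 0, 1],
  [1, 0, 0, 0, 2, 0, 0, 0, 1, 0, 1],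
  [0, 2, 0, 2, 0, 1, 0, 0, 1],
  [0, 0, 0, 2, 1, 0, 0, 1],
  [0, 1, 0, 1, 2, 0, 0, 0, 0],
  [0, 1, 2, 0, 1, 0, 0, 0, 0],
  [0, 0, 0, 0, 2, 0, 0, 1, 0, 1],
  [0, 0, 0, 2, 0, 0, 0, 1, 0, 1],
  [0, 0, 0, 0, 0, 2, 1],
  [0, 2, 0, 0, 0, 0, 1],
  [0, 1, 0, 0, 1, 2, 0, 1, 0, 0, 0],
  [0, 2, 0, 1, 0, 0, 1, 0, 1, 0],
  [0, 2, 0, 1, 0, 1, 0, 0, 0, 0, 0],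
  [0, 0, 1, 0, 1, 2, 0, 0, 0, 0, 0],
  [1, 0, 0, 0, 0, 0, 2, 1],
  [1, 0, 2, 0, 0, 0, 0, 1],
  [0, 0, 0, 0, 2, 0, 1],
  [0, 0, 0, 2, 0, 0, 1],
  [0, 0, 1, 2, 0, 0, 1, 0, 1, 0],
  [0, 0, 1, 0, 0, 1, 0, 1, 2, 0],
  [0, 0, 1, 2, 0, 1, 0, 0, 0, 0, 0],
  [0, 1, 2, 0, 0, 0, 1, 0, 0, 1, 0],
  [1, 0, 0, 0, 0, 2, 0, 1],
  [1, 0, 0, 0, 2, 0, 0, 1],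
  [0, 0, 1, 0, 1, 2, 0, 1],
  [0, 0, 1, 2, 0, 1, 0, 1],
  [1, 0, 2, 1, 0, 1, 0, 0, 1, 0, 0],
  [1, 0, 1, 0, 1, 2, 0, 0, 1, 0, 0],
  [0, 1, 0, 1, 2, 0, 1, 0, 1],
  [0, 1, 0, 1, 0, 1, 2, 0, 1],
  [1, 0, 1, 0, 0, 0, 2, 0, 1],
  [1, 0, 2, 1, 0, 0, 0, 0, 1],
  [0, 2, 0, 1, 0, 1, 0, 1],
  [2, 0, 2, 0, 1, 0, 1, 0, 1],
  [0, 2, 1, 0, 0, 1, 0, 0, 0, 0, 0, 0],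
  [1, 0, 1, 2, 0, 1, 0, 0, 1, 0, 0],
  [0, 2, 1, 0, 1, 0, 1, 0, 1],
  [0, 1, 2, 0, 1, 0, 1, 0, 1],
  [1, 0, 1, 0, 0, 0, 0, 2, 1],
  [1, 0, 1, 2, 0, 0, 0, 0, 1],
  [1, 0, 2, 0, 1, 0, 0, 0, 0],
  [1, 0, 0, 1, 2, 0, 0, 0, 0],
  [0, 2, 1, 0, 2],
  [0, 1, 2, 0, 2],
  [0, 0, 0, 0, 2, 1, 0, 1, 0, 0],
  [1, 0, 2, 0, 1, 0, 0, 0, 1, 0],
  [0, 2, 0, 2],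
  [2, 0, 2, 0, 2],
  [1, 0, 0, 1, 0, 0, 0, 2, 0],
  [1, 2, 0, 2, 0, 1, 0, 0, 0, 0],
  [0, 2, 1, 0],
  [0, 1, 2, 0],
  [0, 2, 0, 0, 0, 1, 0, 1, 0, 0],
  [0, 0, 0, 2, 0, 1, 0, 1, 0, 0],
  [0, 2, 0],
  [2, 0, 2, 0],
  [0, 2, 0, 1, 0, 0, 0, 0],
  [0, 0, 1, 2, 0, 0, 0, 0],
  [2, 1, 0, 1, 2, 0],
  [2, 1, 0, 2, 1, 0],
  [2, 1, 0, 2, 0],
  [2, 1, 2, 0, 2, 0],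
  [0, 0, 1, 2, 0, 0, 0, 1, 0],
  [0, 2, 0, 1, 0, 0, 0, 1, 0],
  [0, 0, 1, 0, 0, 0, 2, 0],
  [2, 0, 2, 0, 1, 0, 0, 0, 0],
  [1, 0, 2, 1, 0],
  [1, 0, 1, 2, 0],
  [1, 0, 2, 0],
  [1, 2, 0, 2, 0],
  [0, 0, 1, 0, 0, 0, 2, 1, 0],
  [0, 0, 1, 0, 0, 0, 1, 2, 0],
  [1, 0, 0, 1, 0, 1, 2, 0, 1],
  [1, 0, 0, 1, 2, 0, 1, 0, 1],
  [0, 2, 1, 0, 1, 0, 0, 1, 0, 0],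
  [0, 1, 0, 1, 2, 0, 0, 1, 0, 0],
  [0, 1, 0, 0, 0, 2, 0, 1],
  [0, 2, 1, 0, 0, 0, 0, 1],
  [1, 0, 1, 0, 1, 2, 0, 1, 0, 1],
  [0, 2, 0, 0, 1, 0, 1, 0, 0, 0],
  [1, 0, 2, 0, 1, 0, 1, 0, 1],
  [0, 0, 0, 2, 0, 1, 0, 0, 1, 0],
  [0, 2, 1, 0, 2, 1, 0, 0, 1, 0, 0],
  [0, 1, 2, 0, 1, 0, 0, 1, 0, 0],
  [0, 1, 0, 0, 0, 0, 2, 1],
  [0, 1, 2, 0, 0, 0, 0, 1],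
  [0, 0, 0, 1, 2, 0, 1, 0, 0, 0],
  [0, 0, 0, 2, 1, 0, 1, 0, 0, 0],
  [1, 0, 0, 0, 1, 0, 1, 0, 0],
  [1, 0, 0, 0, 1, 0, 1, 2, 0, 0],
  [2, 1, 2, 1, 0],
  [0],
  [2, 1, 2, 0],
  [1, 0],
  [0, 0, 0, 1, 0, 1, 0, 0],
  [0, 0, 0, 1, 0, 1, 2, 0, 0],
  [1, 0, 2, 0, 0, 1, 0, 1, 0, 0],
  [1, 0, 0, 0, 1, 2, 0, 1, 0, 0],
  [2, 1, 2, 1, 0, 2],
  [0, 2],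
  [2, 1, 2, 0, 2],
  [1, 0, 2],
  [0, 2, 0, 0, 1, 0, 1, 0, 0],
  [0, 0, 0, 1, 2, 0, 1, 0, 0],
  [0, 1, 0, 1, 0, 1, 2],
  [0, 2, 1, 0, 1, 0, 1],
  [0, 0, 1, 0, 0, 0, 2, 0, 0, 0],
  [0, 2, 0, 1, 0, 0, 0, 0, 0, 0],
  [1, 0, 0, 1, 0, 0, 0, 2, 0, 0, 0],
  [1, 0, 2, 0, 1, 0, 0, 0, 0, 0, 0],
  [1, 0, 1, 0, 1, 0, 1, 2],
  [1, 0, 2, 1, 0, 1, 0, 1],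
  [0, 1, 0, 1, 0, 1],
  [0, 1, 0, 2, 1, 0, 1],
  [0, 0, 1, 0, 0, 0, 0, 2, 0, 0],
  [0, 0, 1, 0, 0, 0, 0, 0, 0],
  [1, 0, 0, 1, 0, 0, 0, 0, 2, 0, 0],
  [1, 0, 0, 1, 0, 0, 0, 0, 0, 0],
  [1, 0, 1, 0, 1, 0, 1],
  [1, 0, 1, 0, 2, 1, 0, 1],
  [0, 0, 1, 0, 0, 1],
  [2, 0, 0, 1, 2, 0, 0, 1],
  [1, 0, 2, 0, 0, 0, 0, 0, 1, 0, 0],
  [1, 0, 0, 0, 0, 0, 0, 1, 0, 0],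
  [0, 0, 0, 0, 0, 2, 1, 0, 1],
  [0, 0, 0, 0, 0, 1, 0, 1],
  [1, 0, 1, 0, 0, 0, 0],
  [1, 0, 2, 1, 0, 0, 0, 0],
  [0, 0, 1, 0, 0, 1, 2],
  [0, 2, 0, 1, 0, 0, 1],
  [1, 0, 0, 0, 0, 0, 2, 0, 1, 0, 0],
  [1, 0, 0, 0, 0, 0, 0, 2, 1, 0, 0],
  [2, 0, 0, 2, 0, 0, 0, 1, 0, 1],
  [0, 2, 0, 0, 0, 0, 1, 0, 1],
  [1, 0, 1, 0, 0, 0, 0, 2],
  [1, 0, 1, 0, 2, 0, 0, 0],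
  [0, 0, 1, 0, 1, 0, 0, 0, 2],
  [0, 0, 1, 0, 1, 2, 0, 0, 0],
  [1, 0, 2, 0, 0, 0, 1],
  [1, 0, 0, 0, 0, 1, 2],
  [0, 0, 0, 1, 2, 0, 0, 1, 0],
  [2, 0, 0, 2, 0, 1, 0, 0, 1, 0],
  [1, 0, 1, 0, 2, 0, 1, 0, 0],
  [1, 0, 2, 1, 0, 0, 1, 0, 0],
  [0, 0, 1, 0, 1, 0, 0, 0],
  [0, 2, 0, 1, 0, 1, 0, 0, 0],
  [0, 2, 0, 0, 1, 0, 0, 0],
  [1, 0, 0, 0, 0, 1],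
  [0, 0, 0, 1, 0, 0, 1, 0],
  [0, 2, 0, 0, 1, 0, 0, 1, 0],
  [1, 0, 1, 0, 0, 1, 2, 0, 0],
  [1, 0, 1, 0, 0, 1, 0, 0],
  [0, 1, 0, 2, 0, 1, 0, 1, 0],
  [0, 2, 1, 0, 0, 1, 0, 1, 0],
  [0, 2, 0, 0, 0, 1],
  [0, 0, 0, 0, 1, 2],
  [0, 1, 0, 2, 0, 1, 0, 0],
  [0, 2, 1, 0, 0, 1, 0, 0],
  [0, 2, 1, 0, 1, 0, 0, 0, 0, 0],
  [0, 1, 0, 2, 1, 0, 0, 0, 0, 0],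
  [0, 1, 0, 0, 1, 0, 1, 0],
  [0, 1, 0, 0, 1, 2, 0, 1, 0],
  [0, 0, 2, 0, 2, 0, 1],
  [0, 0, 0, 0, 1],
  [0, 1, 0, 0, 1, 2, 0, 0],
  [0, 1, 0, 0, 1, 0, 0],
  [0, 1, 0, 1, 0, 0, 0, 0, 0],
  [0, 1, 0, 1, 0, 0, 0, 2, 0, 0],
  [0, 1, 0, 0, 0, 1, 0],
  [0, 2, 1, 0, 0, 0, 1, 0],
  [0, 2, 0, 0, 0, 0, 0, 1, 0, 0],
  [0, 0, 0, 0, 0, 0, 1, 0, 0],
  [0, 1, 0, 0, 0, 0],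
  [0, 2, 1, 0, 0, 0, 0],
  [1, 0, 0, 0, 0, 0, 2, 1, 0, 1],
  [1, 0, 0, 0, 0, 0, 1, 0, 1],
  [0, 1, 0, 2, 0, 0, 1, 0],
  [1, 0, 2, 0, 1, 0, 0, 1],
  [0, 0, 0, 0, 0, 2, 0, 1, 0, 0],
  [0, 0, 0, 0, 0, 0, 2, 1, 0, 0],
  [0, 1, 0, 0, 0, 0, 2],
  [0, 1, 0, 2, 0, 0, 0],
  [0, 0, 0, 0, 0, 0, 2, 1, 0, 1, 0],
  [1, 0, 2, 0, 0, 0, 0, 1, 0, 1],
  [2, 1, 0, 0, 0, 1, 0, 1, 0, 0],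
  [1, 2, 0, 0, 0, 1, 0, 1, 0, 0],
  [1, 2, 1, 0],
  [2, 0],
  [2, 1, 0],
  [1, 2, 0],
  [0, 0, 2, 0, 1, 0, 1, 0, 0],
  [2, 0, 0, 0, 1, 0, 1, 0, 0],
  [2, 1, 0, 2, 0, 0, 1, 0, 1, 0, 0],
  [1, 0, 0, 0, 2, 1, 0, 1, 0, 0],
  [1, 2, 1, 0, 2],
  [2, 0, 2],
  [2, 1, 0, 2],
  [1, 2, 0, 2],
  [0, 2, 0, 2, 0, 1, 0, 1, 0, 0],
  [0, 0, 0, 2, 1, 0, 1, 0, 0],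
  [2, 0, 1, 0, 1, 0, 1],
  [2, 0, 1, 0, 2, 1, 0, 1],
  [0, 0, 2, 1, 0, 0, 0, 0, 0, 0],
  [2, 0, 0, 1, 0, 0, 0, 0, 0, 0],
  [2, 1, 0, 0, 1, 0, 0, 0, 0, 0, 0],
  [1, 2, 0, 0, 1, 0, 0, 0, 0, 0, 0],
  [1, 2, 0, 1, 0, 1, 0, 1],
  [2, 1, 0, 1, 0, 1, 0, 1],
  [0, 1, 0, 1, 2, 0, 1],
  [0, 1, 2, 0, 1, 0, 1],
  [0, 0, 1, 2, 0, 0, 0, 0, 0, 0],
  [0, 0, 1, 0, 0, 0, 0, 0, 2, 0],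
  [1, 0, 0, 1, 2, 0, 0, 0, 0, 0, 0],
  [1, 0, 0, 1, 0, 0, 0, 0, 0, 2, 0],
  [1, 0, 1, 0, 1, 2, 0, 1],
  [1, 0, 1, 2, 0, 1, 0, 1],
  [2, 0, 0, 1, 0, 0, 1],
  [0, 0, 1, 2, 0, 0, 1],
  [2, 1, 0, 0, 0, 0, 0, 0, 1, 0, 0],
  [1, 0, 0, 0, 0, 2, 0, 0, 1, 0, 0],
  [0, 0, 0, 0, 2, 0, 1, 0, 1],
  [2, 0, 0, 0, 0, 0, 1, 0, 1],
  [1, 0, 1, 0, 0, 0, 2, 0],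
  [2, 1, 0, 1, 0, 0, 0, 0],
  [0, 0, 2, 1, 0, 0, 1],
  [2, 0, 2, 0, 1, 0, 0, 1],
  [1, 2, 0, 0, 0, 0, 0, 0, 1, 0, 0],
  [1, 0, 0, 0, 2, 0, 0, 0, 1, 0, 0],
  [0, 0, 2, 0, 0, 0, 1, 0, 1],
  [0, 0, 0, 2, 0, 0, 1, 0, 1],
  [1, 2, 0, 1, 0, 0, 0, 0],
  [1, 0, 1, 2, 0, 0, 0, 0],
  [0, 0, 2, 1, 0, 1, 0, 0, 0],
  [0, 0, 1, 2, 0, 1, 0, 0, 0],
  [1, 2, 0, 0, 0, 0, 1],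
  [1, 0, 0, 0, 0, 2, 1],
  [0, 2, 0, 2, 0, 1, 0, 0, 1, 0],
  [0, 0, 2, 0, 1, 0, 0, 1, 0],
  [2, 1, 0, 2, 1, 0, 0, 1, 0, 0],
  [1, 2, 0, 1, 0, 0, 1, 0, 0],
  [2, 0, 0, 1, 0, 1, 0, 0, 0],
  [2, 0, 2, 0, 1, 0, 1, 0, 0, 0],
  [2, 1, 0, 0, 0, 0, 1],
  [1, 0, 0, 0, 2, 0, 1],
  [2, 0, 0, 0, 1, 0, 0, 1, 0],
  [0, 0, 0, 2, 1, 0, 0, 1, 0],
  [2, 1, 0, 1, 0, 0, 1, 0, 0],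
  [1, 0, 1, 2, 0, 0, 1, 0, 0],
  [2, 0, 1, 0, 0, 1, 0, 1, 0],
  [1, 0, 0, 1, 2, 0, 1, 0, 0, 0],
  [2, 0, 0, 0, 0, 1],
  [0, 0, 0, 0, 2, 1],
  [0, 1, 2, 0, 2, 0, 1, 0, 0],
  [2, 0, 1, 0, 0, 1, 0, 0],
  [0, 1, 0, 1, 2, 0, 0, 0, 0, 0],
  [2, 0, 1, 0, 1, 0, 0, 0, 0, 0],
  [0, 1, 0, 0, 1, 0, 1, 2, 0],
  [0, 1, 2, 0, 0, 1, 0, 1, 0],
  [0, 0, 2, 0, 0, 1],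
  [0, 0, 0, 2, 0, 1],
  [2, 0, 1, 0, 2, 0, 1, 0, 0],
  [0, 1, 2, 0, 0, 1, 0, 0],
  [1, 2, 0, 0, 0, 1, 0, 0, 1, 0],
  [0, 1, 2, 0, 1, 0, 0, 0, 0, 0],
  [0, 1, 0, 0, 0, 1, 2, 0],
  [0, 1, 0, 0, 0, 2, 1, 0],
  [0, 0, 2, 0, 0, 0, 0, 1, 0, 0],
  [0, 0, 0, 0, 2, 0, 0, 1, 0, 0],
  [0, 1, 0, 0, 0, 2, 0],
  [2, 0, 1, 0, 2, 0, 0, 0],
  [1, 0, 0, 0, 0, 2, 0, 1, 0, 1],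
  [1, 2, 0, 0, 0, 0, 0, 1, 0, 1],
  [2, 0, 1, 0, 0, 0, 1, 0],
  [0, 1, 2, 0, 0, 0, 1, 0],
  [2, 0, 0, 0, 0, 0, 0, 1, 0, 0],
  [0, 0, 0, 2, 0, 0, 0, 1, 0, 0],
  [2, 0, 1, 0, 0, 0, 0],
  [0, 1, 2, 0, 0, 0, 0],
  [2, 1, 0, 0, 0, 0, 0, 1, 0, 1],
  [1, 0, 0, 0, 2, 0, 0, 1, 0, 1],
  [2, 1, 0, 0, 0, 0, 1, 0, 0],
  [1, 2, 0, 0, 0, 0, 1, 0, 0],
  [0, 0, 2, 0, 0, 1, 0, 1, 0],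
  [2, 0, 0, 0, 0, 1, 0, 1, 0],
  [2, 0, 0, 1, 0, 0, 0, 1],
  [0, 0, 2, 1, 0, 0, 0, 1],
  [0, 0, 2, 0, 0, 1, 0, 0],
  [2, 0, 0, 0, 0, 1, 0, 0],
  [1, 0, 2, 0, 0, 0, 1, 0, 0],
  [0, 2, 0, 0, 1, 0, 0, 0, 0, 0],
  [1, 0, 2, 0, 1, 0, 0, 0, 1],
  [0, 2, 0, 0, 0, 1, 0, 1, 0],
  [0, 2, 0, 1, 0, 0, 0, 1],
  [0, 0, 1, 0, 0, 0, 2, 1],
  [0, 2, 0, 0, 0, 1, 0, 0],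
  [0, 0, 2, 0, 2, 0, 1, 0, 0],
  [1, 0, 2, 1, 0, 0, 0],
  [2, 1, 0, 1, 2, 0, 0, 0],
  [1, 0, 2, 1, 0, 0, 1, 0],
  [1, 0, 1, 0, 0, 1, 2, 0],
  [0, 2, 1, 0, 0, 1, 0],
  [0, 1, 0, 0, 1, 2, 0],
  [0, 2, 1, 0, 0, 0],
  [0, 2, 1, 0, 2, 0, 0],
  [2, 1, 0, 1, 0, 0, 0],
  [1, 2, 0, 1, 0, 0, 0],
  [1, 2, 0, 1, 0, 0, 1, 0],
  [2, 1, 0, 1, 0, 0, 1, 0],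
  [2, 0, 1, 0, 0, 1, 0],
  [2, 0, 1, 0, 2, 0, 1, 0],
  [2, 0, 1, 0, 2, 0, 0],
  [2, 0, 1, 0, 0, 0],
  [2, 0, 1, 0, 1, 0, 0],
  [0, 2, 1, 0, 2, 1, 0, 0],
  [0, 0, 0, 0, 0, 2, 0],
  [2, 0, 0, 0, 0, 0, 0],
  [0, 0, 0, 0, 0, 2, 1, 0],
  [2, 0, 0, 0, 0, 0, 1, 0],
  [2, 0, 1, 0, 1, 0, 1, 0],
  [0, 1, 0, 1, 0, 1, 2, 0],
  [2, 0, 1, 0, 2, 1, 0, 0],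
  [0, 2, 1, 0, 1, 0, 0],
  [0, 2, 0, 0, 0, 0, 0],
  [0, 0, 2, 0, 0, 0, 0],
  [0, 0, 2, 0, 0, 0, 1, 0],
  [0, 2, 0, 0, 0, 0, 1, 0],
  [0, 2, 1, 0, 1, 0, 1, 0],
  [2, 0, 1, 0, 2, 1, 0, 1, 0],
  [1, 2, 0, 1, 0, 0, 0, 0, 0, 0, 1],
  [1, 0, 2, 1, 0, 0, 0, 0, 0, 0, 1],
  [1, 0, 2, 0, 0, 1, 0, 1],
  [1, 2, 0, 0, 0, 1, 0, 1],
  [0, 0, 0, 1, 2, 0, 0, 1, 0, 1],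
  [0, 0, 2, 0, 1, 0, 0, 1, 0, 1],
  [0, 0, 2, 1],
  [2, 0, 0, 1, 2],
  [2, 1, 0, 1, 0, 0, 0, 0, 0, 0, 1],
  [1, 0, 1, 0, 0, 0, 0, 2, 0, 0, 1],
  [1, 0, 0, 0, 1, 2, 0, 1],
  [2, 1, 0, 0, 0, 1, 0, 1],
  [2, 0, 0, 0, 1, 0, 0, 1, 0, 1],
  [0, 2, 0, 0, 1, 0, 0, 1, 0, 1],
  [0, 2, 0, 1],
  [2, 0, 0, 1],
  [2, 0, 1, 0, 0, 0, 0, 0, 0, 1],
  [0, 2, 1, 0, 0, 0, 0, 0, 0, 1],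
  [0, 2, 0, 0, 1, 0, 1],
  [2, 0, 0, 0, 1, 0, 1],
  [2, 1, 0, 0, 1],
  [1, 2, 0, 0, 1, 2],
  [0, 2, 1, 0, 1, 0, 0, 0, 0, 0, 1],
  [2, 0, 1, 0, 1, 0, 0, 0, 0, 0, 1],
  [0, 1, 0, 0, 0, 0, 0, 2, 0, 1],
  [0, 1, 0, 0, 0, 0, 2, 0, 0, 1],
  [0, 0, 0, 1, 2, 0, 1],
  [0, 0, 2, 0, 1, 0, 1],
  [1, 0, 2, 0, 1],
  [1, 2, 0, 0, 1],
  [1, 2, 0, 0, 0, 1, 0, 0, 1, 0, 1],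
  [0, 1, 0, 1, 0, 0, 0, 2, 0, 0, 1],
  [1, 2, 0, 1, 0, 1, 0, 0],
  [2, 1, 0, 1, 2, 0, 1, 0, 0],
  [1, 0, 0, 0, 0, 0, 2, 0],
  [1, 2, 0, 0, 0, 0, 0, 0],
  [1, 2, 0, 1, 0, 1, 0, 1, 0],
  [1, 0, 1, 0, 1, 0, 1, 2, 0],
  [1, 0, 0, 0, 0, 0, 2, 1, 0],
  [1, 2, 0, 0, 0, 0, 0, 1, 0],
  [2, 1, 0, 1, 0, 1, 0, 0],
  [1, 0, 2, 1, 0, 1, 0, 0],
  [1, 0, 2, 0, 0, 0, 0, 0],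
  [2, 1, 0, 0, 0, 0, 0, 0],
  [1, 0, 2, 1, 0, 1, 0, 1, 0],
  [2, 1, 0, 1, 0, 1, 0, 1, 0],
  [2, 1, 0, 0, 0, 0, 0, 1, 0],
  [1, 0, 2, 0, 0, 0, 0, 1, 0],
  [1, 0, 0, 0, 0, 1, 0, 0],
  [1, 0, 0, 0, 0, 1, 2, 0, 0],
  [0, 0, 0, 0, 1, 2, 0, 1, 0],
  [0, 0, 0, 0, 1, 0, 1, 0],
  [2, 0, 0, 2, 1, 0, 0, 0, 1],
  [0, 0, 1, 0, 0, 0, 1],
  [0, 0, 0, 0, 1, 0, 0],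
  [0, 0, 0, 0, 1, 2, 0, 0],
  [1, 0, 0, 0, 0, 2, 1, 0, 0],
  [1, 0, 0, 0, 2, 0, 1, 0, 0],
  [0, 0, 0, 0, 2, 1, 0, 1, 0],
  [0, 0, 0, 2, 0, 1, 0, 1, 0],
  [0, 0, 1, 2, 0, 0, 0, 1],
  [0, 0, 1, 0, 0, 0, 1, 2],
  [0, 0, 0, 0, 2, 1, 0, 0],
  [0, 0, 0, 2, 0, 1, 0, 0],
  [1, 0, 1, 0, 0, 0],
  [1, 0, 1, 0, 2, 0, 0],
  [1, 0, 1, 0, 2, 0, 1, 0],
  [1, 0, 1, 0, 0, 1, 0],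
  [0, 1, 0, 2, 0, 1, 0],
  [0, 1, 0, 0, 1, 0],
  [0, 1, 0, 0, 0],
  [0, 1, 0, 2, 0, 0],
  [1, 0, 1, 0, 0, 0, 2],
  [1, 0, 1, 2, 0, 0, 0],
  [2, 1, 0, 2, 1, 0, 0, 1, 0],
  [1, 0, 1, 2, 0, 0, 1, 0],
  [0, 1, 2, 0, 2, 0, 1, 0],
  [0, 1, 2, 0, 0, 1, 0],
  [0, 1, 0, 0, 0, 2],
  [0, 1, 2, 0, 0, 0],
  [0, 1, 0, 1, 0, 0],
  [0, 1, 0, 1, 2, 0, 0],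
  [0, 0, 0, 0, 0, 0],
  [0, 0, 0, 0, 2, 0, 0],
  [0, 0, 0, 0, 2, 0, 1, 0],
  [0, 0, 0, 0, 0, 1, 0],
  [0, 1, 0, 1, 2, 0, 1, 0],
  [0, 1, 0, 1, 0, 1, 0],
  [0, 1, 0, 2, 1, 0, 0],
  [0, 1, 2, 0, 1, 0, 0],
  [0, 0, 0, 0, 0, 0, 2],
  [0, 0, 0, 2, 0, 0, 0],
  [2, 0, 0, 2, 0, 0, 0, 1, 0],
  [0, 0, 0, 2, 0, 0, 1, 0],
  [0, 1, 0, 2, 1, 0, 1, 0],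
  [0, 1, 2, 0, 1, 0, 1, 0],
  [1, 0, 1, 0, 2, 0, 0, 0, 0, 0, 1],
  [1, 0, 1, 0, 0, 0, 2, 0, 0, 0, 1],
  [1, 0, 0, 0, 1, 0, 1, 2],
  [2, 1, 0, 2, 0, 0, 1, 0, 1],
  [0, 0, 0, 1, 0, 0, 1, 0, 1, 2],
  [0, 0, 1, 0, 0, 1, 2, 0, 1, 0, 0],
  [0, 0, 1, 2],
  [2, 0, 0, 2, 1],
  [1, 0, 1, 0, 0, 0, 0, 0, 0, 1],
  [1, 0, 1, 2, 0, 0, 0, 0, 0, 0, 1],
  [1, 0, 0, 0, 1, 0, 1],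
  [1, 0, 0, 0, 2, 1, 0, 1],
  [0, 0, 0, 1, 0, 0, 1, 0, 1],
  [0, 0, 0, 2, 1, 0, 0, 1, 0, 1],
  [0, 0, 1],
  [2, 0, 2, 0, 1],
  [0, 1, 0, 2, 0, 0, 0, 0, 0, 1],
  [0, 1, 0, 0, 0, 2, 0, 0, 0, 1],
  [0, 0, 0, 1, 0, 1, 2],
  [0, 2, 0, 2, 0, 1, 0, 1],
  [1, 0, 0, 1, 2],
  [2, 1, 2, 0, 0, 1],
  [0, 1, 0, 1, 2, 0, 0, 0, 0, 0, 1],
  [0, 1, 0, 2, 1, 0, 0, 0, 0, 0, 1],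
  [0, 1, 0, 0, 0, 0, 0, 0, 1],
  [0, 1, 2, 0, 0, 0, 0, 0, 0, 1],
  [0, 0, 0, 1, 0, 1],
  [0, 0, 0, 2, 1, 0, 1],
  [1, 0, 0, 1],
  [1, 2, 0, 2, 0, 1],
  [0, 1, 0, 1, 0, 0, 0, 0, 0, 1],
  [0, 1, 2, 0, 1, 0, 0, 0, 0, 0, 1],
  [1, 0, 1, 0, 1, 0, 0],
  [1, 0, 1, 0, 1, 2, 0, 0],
  [1, 0, 0, 0, 0, 0, 0],
  [1, 0, 0, 0, 0, 2, 0, 0],
  [1, 0, 1, 0, 1, 2, 0, 1, 0],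
  [1, 0, 1, 0, 1, 0, 1, 0],
  [1, 0, 0, 0, 0, 2, 0, 1, 0],
  [1, 0, 0, 0, 0, 0, 1, 0],
  [1, 0, 1, 0, 2, 1, 0, 0],
  [1, 0, 1, 2, 0, 1, 0, 0],
  [1, 0, 0, 0, 0, 0, 0, 2],
  [1, 0, 0, 0, 2, 0, 0, 0],
  [1, 0, 1, 0, 2, 1, 0, 1, 0],
  [1, 0, 1, 2, 0, 1, 0, 1, 0],
  [0, 0, 1, 0, 0, 1, 2, 0, 0, 0],
  [1, 0, 0, 0, 2, 0, 0, 1, 0],
  [0, 1, 0, 1, 0, 0, 0],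
  [2, 0, 1, 0, 1, 0, 0, 0],
  [2, 0, 0, 1, 0, 0, 1, 0],
  [0, 0, 1, 0, 0, 1, 0],
  [2, 0, 0, 1, 0, 0, 0],
  [0, 0, 1, 0, 0, 0],
  [0, 1, 0, 1, 0, 0, 1, 0],
  [2, 0, 1, 0, 1, 0, 0, 1, 0],
  [0, 1, 0, 1, 0, 0, 0, 2],
  [0, 1, 0, 1, 2, 0, 0, 0],
  [2, 0, 0, 1, 2, 0, 0, 1, 0],
  [0, 0, 1, 2, 0, 0, 1, 0],
  [0, 0, 1, 2, 0, 0, 0],
  [0, 0, 1, 0, 0, 0, 2],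
  [0, 1, 0, 1, 2, 0, 0, 1, 0],
  [0, 2, 1, 0, 2, 1, 0, 0, 1, 0],
  [],
  [0, 0, 0, 0, 0, 2, 0, 0],
  [0, 0, 1, 0, 1, 2, 0, 1, 0],
  [0, 0, 1, 0, 1, 0, 1, 0],
  [0, 0, 1, 0, 1, 2, 0, 0],
  [0, 0, 1, 0, 1, 0, 0],
  [0, 0, 0, 0, 0, 0, 1, 0],
  [0, 0, 0, 0, 0, 2, 0, 1, 0],
  [2],
  [0, 0, 0, 0, 2, 0, 0, 0],
  [2, 0, 0, 1, 0, 1, 0, 1, 0],
  [0, 0, 1, 2, 0, 1, 0, 1, 0],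
  [0, 0, 1, 2, 0, 1, 0, 0],
  [2, 0, 0, 1, 0, 1, 0, 0],
  [0, 0, 0, 0, 2, 0, 0, 1, 0],
  [2, 0, 0, 0, 0, 0, 0, 1, 0],
  [2, 0, 0, 0, 0, 1, 0, 1],
  [0, 0, 2, 0, 2, 0, 1, 0, 1],
  [0, 1, 0, 0, 1, 2],
  [2, 0, 1, 0, 0, 1],
  [0, 0, 1, 0, 0, 0, 2, 0, 0, 0, 1],
  [2, 0, 0, 1, 0, 0, 0, 0, 0, 0, 1],
  [2, 0, 0, 1, 0, 1, 0, 0, 0, 0, 0, 1],
  [0, 0, 1, 0, 1, 2, 0, 0, 0, 0, 0, 1],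
  [0, 0, 0, 0, 1, 0, 1],
  [0, 0, 0, 0, 2, 1, 0, 1],
  [0, 1, 0, 0, 1],
  [0, 1, 2, 0, 2, 0, 1],
  [0, 0, 1, 2, 0, 0, 0, 0, 0, 0, 1],
  [0, 0, 1, 0, 0, 0, 0, 0, 0, 1],
  [0, 0, 1, 2, 0, 1, 0, 0, 0, 0, 0, 1],
  [0, 0, 1, 0, 1, 0, 0, 0, 0, 0, 1],
  [1, 0, 2, 0, 0, 1, 0],
  [2, 1, 0, 2, 0, 0, 1, 0],
  [1, 0, 2, 0, 0, 0],
  [1, 0, 0, 0, 0, 2],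
  [0, 0, 0, 0, 2, 0, 1, 0, 0],
  [0, 0, 0, 0, 0, 2, 1, 0, 0],
  [0, 0, 0, 0, 2, 0, 1, 0, 1, 0],
  [0, 0, 0, 0, 0, 2, 1, 0, 1, 0],
  [1, 0, 0, 0, 1, 0],
  [2, 1, 0, 0, 0, 1, 0],
  [2, 1, 0, 0, 0, 0],
  [1, 0, 0, 0, 0],
  [2, 0, 0, 0, 0, 0, 1, 0, 0],
  [0, 0, 0, 0, 0, 1, 0, 0],
  [0, 0, 0, 0, 0, 1, 0, 1, 0],
  [2, 0, 0, 0, 0, 0, 1, 0, 1, 0],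
  [2, 0, 1, 0, 0, 0, 0, 0, 0],
  [0, 1, 0, 0, 0, 2, 0, 0, 0],
  [2, 1, 0, 1, 0, 1],
  [1, 0, 1, 0, 1, 2],
  [0, 1, 0, 1, 2, 0, 1, 0, 0],
  [2, 0, 1, 0, 1, 0, 1, 0, 0],
  [0, 1, 0, 1, 2, 0, 1, 0, 1, 0],
  [2, 0, 1, 0, 1, 0, 1, 0, 1, 0],
  [0, 1, 0, 0, 0, 0, 0, 0],
  [0, 1, 0, 0, 0, 0, 2, 0, 0],
  [1, 0, 2, 1, 0, 1],
  [1, 0, 1, 0, 1],
  [0, 1, 0, 1, 0, 1, 2, 0, 0],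
  [0, 1, 0, 1, 0, 1, 0, 0],
  [0, 1, 0, 1, 0, 1, 0, 1, 0],
  [0, 1, 0, 1, 0, 1, 2, 0, 1, 0],
  [1, 0, 0, 1, 0, 0],
  [1, 0, 0, 1, 2, 0, 0],
  [1, 0, 0, 1, 0, 1, 0],
  [1, 0, 0, 1, 2, 0, 1, 0],
  [1, 0, 1, 0, 0, 0, 2, 0, 0],
  [1, 0, 1, 0, 0, 0, 0, 0],
  [0, 2, 0, 2, 0, 1],
  [0, 0, 0, 1],
  [2, 1, 0, 0, 1, 0, 0],
  [1, 0, 2, 0, 1, 0, 0],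
  [1, 0, 2, 0, 1, 0, 1, 0],
  [2, 1, 0, 0, 1, 0, 1, 0],
  [1, 0, 2, 1, 0, 0, 0, 0, 0],
  [2, 1, 0, 1, 0, 0, 0, 0, 0],
  [2, 0, 0, 0, 1],
  [0, 0, 0, 1, 2],
  [0, 1, 0, 2, 1, 0, 0, 0],
  [2, 0, 1, 0, 2, 1, 0, 0, 0],
  [0, 0, 2, 1, 0, 0, 1, 0],
  [0, 0, 1, 0, 0, 1, 2, 0],
  [2, 0, 0, 2, 1, 0, 0, 0],
  [0, 0, 2, 1, 0, 0, 0],
  [0, 1, 0, 1, 0, 0, 1, 2, 0],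
  [0, 1, 0, 2, 1, 0, 0, 1, 0],
  [0, 2, 1, 0, 1, 0, 0, 0],
  [0, 1, 2, 0, 1, 0, 0, 0],
  [0, 2, 0, 1, 0, 0, 1, 0],
  [2, 0, 2, 0, 1, 0, 0, 1, 0],
  [0, 2, 0, 1, 0, 0, 0],
  [2, 0, 2, 0, 1, 0, 0, 0],
  [0, 2, 1, 0, 1, 0, 0, 1, 0],
  [0, 1, 2, 0, 1, 0, 0, 1, 0],
  [2, 1, 2, 1],
  [0, 2, 0, 0, 0, 0, 0, 0],
  [0, 2, 0, 1, 0, 1, 0, 1, 0],
  [0, 0, 1, 0, 1, 0, 1, 2, 0],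
  [2, 0, 0, 2, 1, 0, 1, 0, 0],
  [0, 2, 0, 1, 0, 1, 0, 0],
  [0, 2, 0, 0, 0, 0, 0, 1, 0],
  [0, 0, 0, 0, 0, 0, 2, 1, 0],
  [1, 2, 1],
  [0, 0, 0, 2, 0, 0, 0, 0],
  [0, 0, 2, 1, 0, 1, 0, 1, 0],
  [2, 0, 2, 0, 1, 0, 1, 0, 1, 0],
  [0, 0, 2, 1, 0, 1, 0, 0],
  [2, 0, 2, 0, 1, 0, 1, 0, 0],
  [0, 0, 2, 0, 0, 0, 0, 1, 0],
  [0, 0, 0, 2, 0, 0, 0, 1, 0],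
  [0, 0, 2, 0, 0, 1, 0, 1],
  [0, 2, 0, 0, 0, 1, 0, 1],
  [0, 2, 1, 0, 0, 1],
  [2, 0, 1, 0, 2, 0, 1],
  [0, 0, 2, 1, 0, 0, 0, 0, 0, 0, 1],
  [0, 2, 0, 1, 0, 0, 0, 0, 0, 0, 1],
  [0, 2, 0, 1, 0, 1, 0, 0, 0, 0, 0, 1],
  [0, 0, 2, 1, 0, 1, 0, 0, 0, 0, 0, 1],
  [0, 0, 0, 0, 1, 2, 0, 1],
  [0, 0, 0, 2, 0, 1, 0, 1],
  [0, 1, 0, 2, 0, 1],
  [0, 1, 2, 0, 0, 1],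
  [0, 0, 1, 0, 0, 0, 0, 2, 0, 0, 1],
  [0, 0, 1, 0, 0, 0, 0, 0, 2, 0, 1],
  [0, 0, 1, 0, 1, 0, 0, 0, 2, 0, 0, 1],
  [0, 1, 2, 0, 0, 0, 1, 0, 0, 1, 0, 1],
  [2, 1, 2, 0, 0, 0, 1, 0],
  [1, 2, 0, 0, 0, 1, 0],
  [1, 2, 0, 0, 0, 0],
  [2, 1, 2, 0, 0, 0, 0],
  [2, 0, 0, 2, 0, 0, 0, 1, 0, 0],
  [0, 0, 2, 0, 0, 0, 1, 0, 0],
  [0, 0, 2, 0, 0, 0, 1, 0, 1, 0],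
  [0, 1, 0, 2, 0, 1, 0, 0, 0, 1],
  [1, 0, 0, 0, 1, 2, 0],
  [1, 0, 0, 0, 2, 1, 0],
  [2, 1, 0, 0, 0, 2, 0],
  [1, 0, 0, 0, 2, 0],
  [0, 2, 0, 0, 0, 0, 1, 0, 0],
  [0, 0, 0, 2, 0, 0, 1, 0, 0],
  [0, 2, 0, 0, 0, 0, 1, 0, 1, 0],
  [0, 0, 0, 2, 0, 0, 1, 0, 1, 0],
  [0, 1, 0, 2, 0, 0, 0, 0, 0],
  [0, 2, 1, 0, 0, 0, 0, 0, 0],
  [2, 1, 0, 1, 2, 0, 1],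
  [1, 0, 1, 0, 2, 1],
  [0, 1, 0, 2, 1, 0, 1, 0, 0],
  [0, 2, 1, 0, 1, 0, 1, 0, 0],
  [0, 2, 1, 0, 1, 0, 1, 0, 1, 0],
  [0, 1, 0, 2, 1, 0, 1, 0, 1, 0],
  [0, 1, 0, 0, 0, 0, 0, 2, 0],
  [0, 1, 2, 0, 0, 0, 0, 0, 0],
  [1, 2, 0, 1, 0, 1],
  [1, 0, 1, 2, 0, 1],
  [2, 0, 1, 0, 2, 1, 0, 1, 0, 0],
  [0, 1, 2, 0, 1, 0, 1, 0, 0],
  [0, 1, 0, 1, 0, 1, 0, 1, 2, 0],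
  [0, 1, 2, 0, 1, 0, 1, 0, 1, 0],
  [1, 2, 0, 0, 1, 0, 0],
  [1, 2, 0, 0, 1, 2, 0, 0],
  [1, 0, 0, 1, 0, 1, 2, 0],
  [1, 2, 0, 0, 1, 0, 1, 0],
  [1, 2, 0, 1, 0, 0, 0, 0, 0],
  [1, 0, 1, 0, 0, 0, 0, 2, 0],
  [0, 2, 0, 0, 1],
  [0, 0, 2, 0, 1],
  [2, 1, 2, 0, 0, 1, 0, 0],
  [1, 2, 0, 2, 0, 1, 0, 0],
  [2, 1, 2, 0, 0, 1, 0, 1, 0],
  [1, 2, 0, 2, 0, 1, 0, 1, 0],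
  [1, 0, 1, 0, 2, 0, 0, 0, 0],
  [1, 0, 1, 2, 0, 0, 0, 0, 0],
  [2, 0, 0, 2, 0, 1],
  [0, 0, 0, 2, 1],
  [1, 0, 1, 0, 2, 0, 0, 0, 0, 0, 1, 0],
  [1, 2, 0, 1, 0, 0, 0, 0, 0, 0, 1, 0],
  [0, 0, 2, 1, 0, 1, 0, 0, 0, 0],
  [0, 0, 1, 0, 1, 0, 0, 0, 2, 0],
  [2, 1, 2, 0, 1],
  [1, 2, 0, 1],
  [0, 0, 2, 0, 0, 1, 0, 0, 1],
  [0, 0, 0, 0, 1, 2, 0, 0, 1],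
  [1, 0, 2, 1, 0, 0, 0, 0, 0, 0, 1, 0],
  [1, 0, 1, 0, 0, 0, 2, 0, 0, 0, 1, 0],
  [0, 0, 1, 0, 1, 2, 0, 0, 0, 0],
  [0, 0, 1, 2, 0, 1, 0, 0, 0, 0],
  [2, 1, 0, 2, 1],
  [1, 0, 2, 1],
  [0, 0, 0, 0, 2, 1, 0, 0, 1],
  [0, 0, 2, 0, 2, 0, 1, 0, 0, 1],
  [1, 0, 0, 0, 1, 0, 1, 2, 0],
  [1, 0, 2, 0, 0, 1, 0, 1, 0],
  [1, 0, 2, 0, 1, 0, 0, 0, 0, 0],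
  [1, 0, 0, 1, 0, 0, 0, 0, 2, 0],
  [1, 0, 2, 1, 0, 0, 0, 1],
  [1, 0, 1, 0, 2, 0, 0, 1],
  [2, 1, 2, 0, 0, 0, 1, 0, 0],
  [1, 0, 2, 0, 0, 1, 0, 0],
  [1, 2, 0, 0, 0, 1, 0, 1, 0],
  [2, 1, 0, 2, 0, 0, 1, 0, 1, 0],
  [1, 2, 0, 0, 1, 0, 0, 0, 0, 0],
  [1, 0, 0, 1, 2, 0, 0, 0, 0, 0],
  [1, 0, 1, 0, 0, 0, 2, 1],
  [1, 2, 0, 1, 0, 0, 0, 1],
  [2, 1, 0, 2, 0, 0, 1, 0, 0],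
  [1, 2, 0, 0, 0, 1, 0, 0],
  [1, 2, 0, 0, 0, 0, 1, 0],
  [1, 0, 2, 0, 0, 0, 1, 0],
  [0, 2, 1, 0, 2, 0],
  [2, 0, 1, 0, 2, 0],
  [0, 2, 1, 0, 2, 1, 0],
  [2, 0, 1, 0, 2, 1, 0],
  [1, 2, 0, 0, 0, 0, 0],
  [1, 0, 2, 0, 0, 0, 0],
  [1, 0, 0, 0, 0, 1, 2, 0],
  [1, 0, 0, 0, 0, 2, 1, 0],
  [0, 1, 0, 2, 0],
  [0, 1, 2, 0, 2, 0],
  [0, 1, 0, 1, 2, 0],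
  [0, 1, 0, 2, 1, 0],
  [1, 0, 0, 0, 0, 2, 0],
  [2, 1, 2, 0, 0, 0, 0, 0],
  [0, 0, 0, 0, 0, 2, 0, 1],
  [0, 0, 0, 0, 2, 0, 0, 1],
  [0, 0, 0, 1, 2, 0, 1, 0, 0, 0, 0, 0],
  [1, 0, 1, 0, 1, 2, 0, 1, 0, 1, 0, 0],
  [0, 1, 0, 0, 0, 2, 0, 0, 1],
  [0, 1, 0, 0, 0, 0, 2, 0, 1],
  [1, 0, 0, 1, 2, 0, 1],
  [1, 0, 2, 0, 1, 0, 1],
  [0, 0, 0, 0, 0, 0, 2, 1],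
  [0, 0, 2, 0, 0, 0, 0, 1],
  [0, 0, 2, 0, 1, 0, 1, 0, 0, 0, 0, 0],
  [0, 0, 0, 1, 0, 1, 2, 0, 0, 0, 0, 0],
  [0, 1, 0, 2, 0, 0, 0, 0, 1],
  [0, 1, 0, 0, 0, 0, 0, 2, 1],
  [1, 2, 0, 0, 1, 0, 1],
  [2, 1, 2, 0, 0, 1, 0, 1],
  [0, 1, 0, 2, 0, 1, 0, 1, 0, 1],
  [1, 0, 1, 0, 1, 2, 0, 1, 0, 0, 0],
  [0, 0, 1, 0, 0, 0, 0, 2, 1],
  [0, 0, 1, 2, 0, 0, 0, 0, 1],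
  [2, 1, 0, 2, 1, 0, 0, 1, 0, 0, 0],
  [1, 0, 1, 0, 2, 0, 1, 0, 0, 0],
  [0, 0, 0, 0, 2, 1, 0, 1, 0, 0, 0],
  [0, 0, 0, 0, 1, 2, 0, 1, 0, 0, 0],
  [0, 1, 0, 0, 1, 0, 1, 2, 0, 1],
  [0, 1, 0, 0, 1, 2, 0, 1, 0, 1],
  [0, 0, 1, 0, 0, 0, 2, 0, 1],
  [0, 0, 2, 1, 0, 0, 0, 0, 1],
  [1, 0, 2, 1, 0, 0, 1, 0, 0, 0],
  [1, 2, 0, 1, 0, 0, 1, 0, 0, 0],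
  [0, 0, 2, 0, 0, 1, 0, 1, 0, 0, 0],
  [1, 0, 2, 0, 1, 0, 0, 0, 1, 0, 0],
  [1, 2, 0, 1, 0, 1, 0, 0, 1],
  [1, 0, 1, 0, 1, 2, 0, 0, 1],
  [0, 0, 2, 0, 0, 0, 1, 0, 1, 0, 0],
  [0, 0, 0, 0, 2, 0, 1, 0, 1, 0, 0],
  [0, 0, 1, 2, 0],
  [0, 0, 2, 1, 0],
  [0, 2, 0, 2, 0],
  [0, 0, 2, 0],
  [1, 0, 1, 0, 2, 1, 0, 0, 1],
  [1, 0, 2, 1, 0, 1, 0, 0, 1],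
  [0, 0, 0, 0, 0, 2, 1, 0, 1, 0, 0],
  [0, 1, 0, 2, 0, 1, 0, 0, 0, 1, 0],
  [2, 0, 0, 1, 2, 0],
  [2, 0, 0, 2, 1, 0],
  [2, 0, 0, 2, 0],
  [0, 0, 2, 0, 2],
  [1, 0, 1, 0, 0, 0, 0, 0, 0, 1, 0],
  [2, 1, 0, 1, 0, 0, 0, 0, 0, 0, 1, 0],
  [2, 0, 0, 1, 0, 1, 0, 0, 0, 0],
  [0, 0, 1, 0, 1, 0, 0, 0, 0],
  [2, 1, 0, 1],
  [1, 0, 1],
  [0, 0, 0, 0, 1, 0, 0, 1],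
  [2, 0, 0, 0, 0, 1, 0, 0, 1],
  [1, 0, 1, 0, 0, 0, 0, 2, 0, 0, 1, 0],
  [1, 0, 1, 2, 0, 0, 0, 0, 0, 0, 1, 0],
  [0, 2, 0, 1, 0, 1, 0, 0, 0, 0],
  [0, 1, 2, 0, 0, 0, 1, 0, 0, 1],
  [2, 1, 0, 1, 2],
  [1, 0, 1, 2],
  [0, 2, 0, 0, 0, 1, 0, 0, 1],
  [0, 0, 0, 2, 0, 1, 0, 0, 1],
  [1, 0, 0, 0, 1, 0, 1, 0],
  [1, 0, 0, 0, 1, 2, 0, 1, 0],
  [1, 0, 0, 1, 0, 0, 0, 2, 0, 0],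
  [1, 0, 0, 1, 0, 0, 0, 0, 0],
  [1, 0, 1, 0, 0, 0, 1],
  [2, 1, 0, 1, 2, 0, 0, 0, 1],
  [1, 0, 0, 0, 1, 2, 0, 0],
  [1, 0, 0, 0, 1, 0, 0],
  [2, 1, 0, 0, 0, 1, 0, 1, 0],
  [1, 0, 0, 0, 2, 1, 0, 1, 0],
  [2, 1, 0, 0, 1, 0, 0, 0, 0, 0],
  [1, 0, 0, 1, 0, 0, 0, 0, 0, 2],
  [2, 1, 0, 1, 0, 0, 0, 1],
  [1, 0, 1, 2, 0, 0, 0, 1],
  [2, 1, 0, 0, 0, 1, 0, 0],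
  [1, 0, 0, 0, 2, 1, 0, 0],
  [2, 1, 0, 0, 0, 0, 1, 0],
  [0, 2, 0, 0, 1, 0, 0, 0, 0],
  [0, 2, 1, 0, 0],
  [2, 0, 1, 0, 0],
  [2, 0, 1, 0, 1, 0],
  [0, 2, 1, 0, 1, 0],
  [1, 0, 0, 0, 0, 0, 2],
  [2, 1, 0, 0, 0, 0, 0],
  [1, 0, 0, 0, 0, 1, 0],
  [1, 0, 0, 0, 2, 0, 1, 0],
  [0, 1, 0, 0],
  [0, 1, 2, 0, 0],
  [0, 1, 0, 1, 0],
  [0, 1, 2, 0, 1, 0],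
  [1, 0, 0, 0, 0, 0],
  [1, 0, 0, 0, 2, 0, 0],
  [0, 0, 0, 0, 0, 0, 1],
  [2, 0, 0, 0, 0, 0, 0, 1],
  [2, 0, 0, 0, 1, 0, 1, 0, 0, 0, 0, 0],
  [0, 0, 0, 1, 0, 1, 0, 0, 0, 0, 0],
  [2, 0, 1, 0, 0, 0, 0, 0, 1],
  [0, 1, 0, 0, 0, 0, 0, 1],
  [1, 0, 0, 1, 0, 1],
  [2, 1, 0, 0, 1, 0, 1],
  [0, 2, 0, 0, 0, 0, 0, 1],
  [0, 0, 0, 2, 0, 0, 0, 1],
  [0, 2, 0, 0, 1, 0, 1, 0, 0, 0, 0, 0],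
  [0, 0, 0, 2, 1, 0, 1, 0, 0, 0, 0, 0],
  [0, 2, 1, 0, 0, 0, 0, 0, 1],
  [0, 1, 2, 0, 0, 0, 0, 0, 1],
  [1, 0, 0, 1, 0, 1, 2],
  [1, 2, 0, 2, 0, 1, 0, 1],
  [2, 0, 1, 0, 0, 1, 0, 1, 0, 1],
  [0, 2, 1, 0, 0, 1, 0, 1, 0, 1],
  [0, 2, 0, 1, 0, 0, 0, 0, 1],
  [2, 0, 0, 1, 0, 0, 0, 0, 1],
  [2, 1, 0, 1, 0, 0, 1, 0, 0, 0],
  [1, 0, 1, 0, 0, 1, 2, 0, 0, 0],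
  [0, 2, 0, 0, 0, 1, 0, 1, 0, 0, 0],
  [2, 0, 0, 0, 0, 1, 0, 1, 0, 0, 0],
  [0, 1, 0, 0, 1, 0, 1, 0, 1],
  [0, 1, 2, 0, 0, 1, 0, 1, 0, 1],
  [0, 0, 1, 0, 0, 0, 0, 1],
  [0, 0, 0, 2, 0, 0, 1, 0, 0, 0],
  [1, 0, 1, 0, 0, 1, 0, 0, 0],
  [1, 0, 1, 2, 0, 0, 1, 0, 0, 0],
  [0, 0, 0, 0, 1, 0, 1, 0, 0, 0],
  [0, 0, 0, 2, 0, 1, 0, 1, 0, 0, 0],
  [1, 0, 1, 0, 1, 0, 0, 1],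
  [0, 2, 1, 0, 0, 1, 0, 0, 0, 0],
  [0, 2, 0, 0, 0, 0, 1, 0, 1, 0, 0],
  [0, 0, 0, 0, 0, 1, 0, 1, 0, 0],
  [0, 0, 1, 0],
  [0, 2, 0, 1, 0],
  [0, 2, 0, 0],
  [0, 0, 0],
  [2, 1, 0, 1, 0, 1, 0, 0, 1],
  [1, 0, 1, 2, 0, 1, 0, 0, 1],
  [2, 0, 0, 0, 0, 0, 1, 0, 1, 0, 0],
  [0, 0, 0, 2, 0, 0, 1, 0, 1, 0, 0],
  [2, 0, 0, 1, 0],
  [2, 0, 2, 0, 1, 0],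
  [2, 0, 0, 0],
  [0, 0, 0, 2],
  [0, 1, 0, 2, 0, 0, 0, 0, 0, 1, 0],
  [2, 0, 1, 0, 0, 0, 0, 0, 0, 1, 0],
  [2, 0, 0, 1, 0, 0, 1, 0, 1],
  [0, 0, 1, 0, 0, 1, 2, 0, 1],
  [2, 1, 0, 0, 0, 0, 1, 0, 0, 1],
  [1, 0, 0, 0, 0, 1, 2, 0, 0, 1],
  [2, 1, 2, 1, 0, 1],
  [2, 0, 1],
  [0, 2, 1, 0, 0, 0, 0, 0, 0, 1, 0],
  [0, 1, 0, 0, 0, 2, 0, 0, 0, 1, 0],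
  [0, 2, 0, 1, 0, 0, 1, 0, 1],
  [0, 0, 1, 2, 0, 0, 1, 0, 1],
  [1, 0, 0, 0, 0, 2, 1, 0, 0, 1],
  [0, 2, 1, 0, 0, 1, 0, 1, 0, 1, 0],
  [1, 2, 1, 0, 2, 1],
  [0, 2, 1],
  [0, 0, 0, 1, 0, 1, 2, 0],
  [0, 2, 0, 0, 1, 0, 1, 0],
  [0, 2, 0, 1, 0, 0, 0, 0, 0],
  [0, 0, 1, 0, 0, 0, 0, 2, 0],
  [2, 0, 0, 2, 0, 1, 0, 0],
  [0, 2, 0, 0, 1, 0, 0],
  [0, 2, 1, 0, 0, 0, 1],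
  [0, 1, 0, 2, 0, 0, 1],
  [2, 0, 0, 0, 1, 0, 1, 0],
  [0, 2, 0, 2, 0, 1, 0, 1, 0],
  [2, 0, 0, 1, 0, 0, 0, 0, 0],
  [0, 0, 1, 2, 0, 0, 0, 0, 0],
  [0, 2, 0, 2, 0, 1, 0, 0],
  [2, 0, 0, 0, 1, 0, 0],
  [0, 1, 0, 0, 0, 2, 1],
  [2, 0, 1, 0, 0, 0, 1],
  [2, 0, 0, 0, 0, 1, 0],
  [0, 2, 0, 0, 0, 1, 0],
  [2, 1, 0, 1, 2, 0, 0],
  [2, 1, 0, 1, 0, 0],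
  [2, 0, 0, 0, 0, 0],
  [0, 2, 0, 0, 0, 0],
  [2, 1, 0, 1, 2, 0, 1, 0],
  [2, 1, 0, 1, 0, 1, 0],
  [0, 0, 0, 0, 1, 2, 0],
  [0, 0, 0, 0, 2, 1, 0],
  [1, 0, 1, 0, 2, 0],
  [2, 1, 0, 2, 1, 0, 0],
  [0, 0, 0, 0, 2, 0],
  [2, 0, 0, 2, 0, 0, 0],
  [1, 0, 1, 0, 1, 2, 0],
  [1, 0, 1, 0, 2, 1, 0],
  [2, 0, 1, 0, 1, 0, 0, 1],
  [0, 1, 0, 1, 2, 0, 0, 1],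
  [2, 1, 0, 0, 0, 0, 0, 1, 0, 1, 0, 0],
  [1, 0, 0, 0, 0, 2, 0, 1, 0, 1, 0, 0],
  [2, 1, 0, 2, 0, 0],
  [2, 1, 0, 0, 0],
  [1, 0, 0, 1, 2, 0],
  [2, 1, 0, 0, 1, 0],
  [0, 1, 0, 2, 1, 0, 0, 1],
  [0, 2, 1, 0, 1, 0, 0, 1],
  [1, 0, 0, 0, 0, 0, 2, 1, 0, 1, 0, 0],
  [1, 0, 1, 0, 2, 0, 1, 0, 0, 0, 1, 0],
  [2, 1, 2, 0, 0, 0],
  [2, 1, 0, 0, 0, 2],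
  [1, 2, 0, 0, 1, 2, 0],
  [2, 1, 2, 0, 0, 1, 0],
  [0, 1, 0, 2, 1, 0, 1, 0, 0, 0],
  [0, 1, 0, 1, 2, 0, 1, 0, 0, 0],
  [1, 0, 0, 1, 0, 0, 0, 0, 2, 1],
  [1, 0, 0, 1, 2, 0, 0, 0, 0, 1],
  [0, 0, 1, 2, 0, 0, 0, 1, 0, 0],
  [0, 1, 0, 2, 0, 1, 0, 0, 1, 0],
  [0, 1, 2, 0, 2, 0, 1, 0, 0, 0],
  [0, 1, 0, 2, 0, 1, 0, 0, 0],
  [2, 0, 1, 0, 1, 0, 1, 0, 0, 0],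
  [0, 2, 1, 0, 1, 0, 1, 0, 0, 0],
  [1, 0, 0, 1, 0, 0, 0, 2, 0, 1],
  [2, 1, 0, 0, 1, 0, 0, 0, 0, 1],
  [2, 0, 0, 1, 0, 0, 0, 1, 0, 0],
  [0, 2, 0, 1, 0, 0, 0, 1, 0, 0],
  [0, 2, 1, 0, 0, 1, 0, 0, 0],
  [2, 0, 1, 0, 0, 1, 0, 0, 0],
  [1, 0, 0, 0, 0, 0, 2, 0, 1],
  [1, 0, 0, 0, 0, 2, 0, 0, 1],
  [0, 2, 1, 0, 1, 0, 1, 0, 1, 0, 0],
  [0, 1, 0, 1, 2, 0, 1, 0, 1, 0, 0],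
  [0, 0, 1, 2, 0, 1],
  [0, 2, 0, 1, 0, 1],
  [1, 0, 1, 0, 0, 0, 2, 0, 0, 1],
  [1, 0, 1, 0, 0, 0, 0, 2, 0, 1],
  [1, 0, 0, 0, 0, 0, 0, 2, 1],
  [2, 1, 0, 0, 0, 0, 0, 0, 1],
  [2, 0, 1, 0, 1, 0, 1, 0, 1, 0, 0],
  [0, 1, 0, 2, 1, 0, 1, 0, 1, 0, 0],
  [2, 0, 0, 1, 0, 1],
  [2, 0, 0, 2, 1, 0, 1],
  [1, 0, 1, 0, 2, 0, 0, 0, 0, 1],
  [2, 1, 0, 1, 0, 0, 0, 0, 0, 1],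
  [0, 1, 0, 0, 0, 0, 0, 0, 1, 0],
  [0, 1, 0, 0, 0, 0, 0, 2, 0, 1, 0],
  [0, 0, 2, 1, 0, 0, 1, 0, 1],
  [0, 0, 1, 0, 0, 1, 0, 1],
  [1, 0, 0, 0, 0, 1, 0, 0, 1],
  [1, 2, 0, 0, 0, 0, 1, 0, 0, 1],
  [1, 2, 1, 0, 1],
  [0, 1],
  [0, 1, 0, 0, 0, 0, 2, 0, 0, 1, 0],
  [0, 1, 2, 0, 0, 0, 0, 0, 0, 1, 0],
  [0, 1, 0, 0, 1, 2, 0, 1, 0, 0],
  [0, 0, 1, 0, 0, 1, 0, 1, 2],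
  [1, 0, 2, 0, 0, 0, 1, 0, 0, 1],
  [1, 0, 0, 0, 2, 0, 1, 0, 0, 1],
  [1, 2, 1, 0, 1, 2],
  [0, 1, 2],
  [0, 0, 0, 1, 0, 1, 0],
  [0, 0, 0, 1, 2, 0, 1, 0],
  [0, 0, 1, 0, 0, 0, 2, 0, 0],
  [0, 0, 1, 0, 0, 0, 0, 0],
  [0, 0, 0, 1, 2, 0, 0],
  [0, 0, 0, 1, 0, 0],
  [0, 1, 0, 0, 0, 1],
  [0, 2, 1, 0, 2, 0, 0, 1],
  [0, 0, 2, 0, 1, 0, 1, 0],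
  [0, 0, 0, 2, 1, 0, 1, 0],
  [0, 0, 2, 1, 0, 0, 0, 0, 0],
  [0, 0, 1, 0, 0, 0, 0, 0, 2],
  [0, 0, 2, 0, 1, 0, 0],
  [0, 0, 0, 2, 1, 0, 0],
  [0, 1, 0, 0, 0, 1, 2],
  [0, 1, 2, 0, 0, 0, 1],
  [0, 0, 2, 0, 0, 1, 0],
  [0, 0, 2, 0, 2, 0, 1, 0],
  [1, 0, 2, 1, 0, 0],
  [1, 2, 0, 1, 0, 0],
  [0, 0, 0, 0, 0, 2],
  [0, 0, 2, 0, 0, 0],
  [1, 2, 0, 1, 0, 1, 0],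
  [1, 0, 2, 1, 0, 1, 0],
  [0, 0, 0, 0, 1, 0],
  [0, 0, 0, 2, 0, 1, 0],
  [1, 0, 1, 0, 0],
  [1, 0, 1, 2, 0, 0],
  [0, 0, 0, 0, 0],
  [0, 0, 0, 2, 0, 0],
  [1, 0, 1, 0, 1, 0],
  [1, 0, 1, 2, 0, 1, 0],
  [0, 1, 0, 1, 0, 0, 1],
  [0, 2, 1, 0, 2, 1, 0, 0, 1],
  [1, 0, 2, 0, 0, 0, 0, 1, 0, 1, 0, 0],
  [1, 0, 0, 0, 0, 0, 1, 0, 1, 0, 0],
  [1, 0, 2, 0, 0],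
  [1, 0, 0, 0],
  [1, 0, 0, 1, 0],
  [1, 0, 2, 0, 1, 0],
  [0, 1, 0, 1, 0, 0, 1, 2],
  [0, 1, 2, 0, 1, 0, 0, 1],
  [1, 2, 0, 0, 0, 0, 0, 1, 0, 1, 0, 0],
  [1, 0, 0, 0, 2, 0, 0, 1, 0, 1, 0, 0],
  [1, 2, 0, 0, 0],
  [1, 0, 0, 0, 2],
  [1, 2, 0, 0, 1, 0],
  [1, 2, 0, 2, 0, 1, 0],
  [0, 0, 2, 1, 0, 1, 0, 0, 0, 1],
  [0, 1, 0, 1, 0, 1, 2, 0, 0, 0],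
  [1, 0, 2, 0, 1, 0, 0, 0, 0, 1],
  [1, 2, 0, 0, 1, 0, 0, 0, 0, 1],
  [0, 0, 1, 0, 0, 0, 2, 1, 0, 0],
  [0, 0, 2, 1, 0, 0, 0, 1, 0, 0],
  [0, 1, 0, 0, 1, 0, 0, 0, 2],
  [0, 1, 0, 0, 1, 2, 0, 0, 0],
  [0, 1, 0, 1, 0, 1, 0, 0, 0],
  [0, 1, 2, 0, 1, 0, 1, 0, 0, 0],
  [1, 0, 0, 1, 0, 0, 0, 0, 1],
  [1, 0, 0, 0, 2, 0, 0, 1, 0, 0, 0],
  [0, 0, 1, 0, 0, 0, 1, 0, 0],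
  [0, 0, 1, 0, 0, 0, 1, 2, 0, 0],
  [0, 1, 0, 0, 1, 0, 0, 0],
  [0, 1, 2, 0, 0, 1, 0, 0, 0],
  [1, 0, 0, 0, 0, 0, 0, 1],
  [1, 2, 0, 0, 0, 0, 0, 0, 1],
  [0, 1, 0, 1, 0, 1, 0, 1, 2, 0, 0],
  [0, 1, 0, 1, 0, 1, 0, 1, 0, 0],
  [0, 0, 1, 0, 1],
  [0, 0, 2, 1, 0, 1],
  [1, 2, 0, 1, 0, 0, 0, 0, 0, 1],
  [1, 0, 1, 0, 0, 0, 0, 0, 1],
  [1, 0, 2, 0, 0, 0, 0, 0, 1],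
  [1, 0, 0, 0, 2, 0, 0, 0, 1],
  [0, 1, 0, 1, 0, 1, 2, 0, 1, 0, 0],
  [0, 1, 2, 0, 1, 0, 1, 0, 1, 0, 0],
  [0, 0, 1, 0, 1, 2],
  [2, 0, 2, 0, 1, 0, 1],
  [1, 0, 2, 1, 0, 0, 0, 0, 0, 1],
  [1, 0, 1, 2, 0, 0, 0, 0, 0, 1],
  [1, 0, 1, 0, 1, 0, 0, 0],
  [1, 2, 0, 1, 0, 1, 0, 0, 0],
  [0, 1, 0, 0, 0, 1, 2, 0, 0],
  [0, 1, 0, 0, 0, 1, 0, 0],
  [1, 0, 1, 0, 1, 0, 0, 1, 0],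
  [1, 2, 0, 1, 0, 1, 0, 0, 1, 0],
  [1, 2, 0, 0, 1, 0, 0, 0],
  [1, 0, 0, 1, 0, 0, 0],
  [0, 2, 1, 0, 1, 0, 0, 0, 1],
  [1, 0, 1, 0, 1, 2, 0, 0, 0],
  [0, 2, 1, 0, 0, 0, 1, 0, 0],
  [0, 1, 0, 0, 0, 2, 1, 0, 0],
  [1, 0, 1, 0, 1, 2, 0, 0, 1, 0],
  [0, 2, 1, 0, 0, 1, 0, 0, 0, 0, 0],
  [1, 0, 0, 1, 2, 0, 0, 0],
  [1, 0, 0, 1, 0, 0, 0, 2],
  [1],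
  [1, 0, 0, 0, 0, 0, 2, 0, 0],
  [1, 0, 0, 1, 0, 1, 2, 0, 1, 0],
  [1, 0, 0, 1, 0, 1, 0, 1, 0],
  [1, 0, 0, 0, 0, 0, 0, 1, 0],
  [1, 0, 0, 0, 0, 0, 2, 0, 1, 0],
  [0, 2, 1, 0, 0, 1, 0, 1],
  [0, 1, 0, 0, 1, 0, 1],
  [1, 2],
  [1, 0, 0, 0, 0, 2, 0, 0, 0],
  [1, 2, 0, 0, 1, 0, 1, 0, 1, 0],
  [1, 0, 0, 1, 2, 0, 1, 0, 1, 0],
  [1, 0, 0, 0, 0, 2, 0, 0, 1, 0],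
  [1, 2, 0, 0, 0, 0, 0, 0, 1, 0],
  [1, 0, 0, 1, 2, 0, 1, 0, 0],
  [0, 1, 0, 0, 1, 0, 1, 2],
  [1, 2, 0, 0, 0, 0, 1, 0, 1],
  [0, 2, 0, 0, 1, 0, 0, 0, 0, 1],
  [1, 0, 1, 0, 0, 1, 2],
  [1, 2, 0, 1, 0, 0, 1],
  [0, 0, 2, 1, 0, 0, 1, 0, 1, 0, 1],
  [0, 2, 0, 1, 0, 0, 1, 0, 1, 0, 1],
  [0, 2, 0, 0, 0, 0, 1, 0, 1, 0, 0, 0],
  [0, 0, 2, 0, 0, 0, 1, 0, 1, 0, 0, 0],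
  [1, 0, 0, 0, 0, 1, 0, 1],
  [1, 0, 0, 0, 0, 2, 1, 0, 1],
  [1, 0, 1, 0, 0, 1],
  [2, 1, 0, 2, 1, 0, 0, 1],
  [0, 0, 1, 2, 0, 0, 1, 0, 1, 0, 1],
  [0, 0, 1, 0, 0, 1, 0, 1, 0, 1],
  [0, 0, 0, 0, 2, 0, 1, 0, 1, 0, 0, 0],
  [0, 0, 0, 0, 0, 1, 0, 1, 0, 0, 0],
  [0, 0, 1, 0, 0],
  [0, 0, 1, 2, 0, 0],
  [0, 0, 1, 0, 1, 0],
  [0, 0, 1, 2, 0, 1, 0],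
  [2, 1, 0, 2, 0, 0, 1],
  [1, 0, 0, 0, 1],
  [0, 1, 0, 0, 0, 2, 0, 0],
  [0, 1, 0, 0, 0, 0, 0],
  [0, 0, 2, 1, 0, 0],
  [0, 2, 0, 1, 0, 0],
  [0, 2, 0, 1, 0, 1, 0],
  [0, 0, 2, 1, 0, 1, 0],
  [1, 2, 0, 0, 0, 1],
  [1, 0, 0, 0, 1, 2],
  [0, 2, 1, 0, 0, 0, 0, 0],
  [0, 1, 0, 0, 0, 0, 0, 2],
  [1, 2, 0, 1, 0, 0, 0, 0, 0, 0],
  [1, 0, 1, 0, 0, 0, 2, 0, 0, 0],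
  [2, 0, 1, 0, 2, 1],
  [0, 1, 0, 1, 2],
  [1, 0, 1, 0, 1, 2, 0, 1, 0, 1, 0],
  [0, 0, 2, 0, 1, 0, 1, 0, 0, 0, 0],
  [1, 0, 1, 0, 1, 2, 0, 1, 0, 0],
  [1, 2, 0, 1, 0, 1, 0, 1, 0, 0],
  [1, 0, 1, 0, 0, 0, 0, 0, 0],
  [1, 0, 1, 0, 0, 0, 0, 2, 0, 0],
  [0, 2, 1, 0, 1],
  [0, 1, 0, 1],
  [0, 0, 0, 1, 0, 1, 0, 0, 0, 0],
  [0, 2, 0, 0, 1, 0, 1, 0, 0, 0, 0],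
  [1, 0, 1, 0, 1, 0, 1, 2, 0, 0],
  [1, 0, 1, 0, 1, 0, 1, 0, 0],
  [0, 2, 0, 0, 1, 0],
  [0, 2, 0, 2, 0, 1, 0],
  [0, 2, 0, 0, 0],
  [0, 0, 0, 0, 2],
  [1, 0, 0, 0, 0, 2, 0, 1, 0, 1, 0],
  [1, 0, 0, 0, 0, 0, 2, 1, 0, 1, 0],
  [1, 0, 0, 0, 0, 2, 0, 1, 0, 0],
  [1, 0, 0, 0, 0, 0, 2, 1, 0, 0],
  [0, 0, 0, 1, 0],
  [0, 0, 2, 0, 1, 0],
  [0, 0, 2, 0, 0],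
  [0, 0, 0, 0],
  [1, 0, 0, 0, 0, 0, 1, 0, 1, 0],
  [1, 2, 0, 0, 0, 0, 0, 1, 0, 1, 0],
  [1, 2, 0, 0, 0, 0, 0, 1, 0, 0],
  [1, 0, 0, 0, 0, 0, 1, 0, 0],
  [1, 0, 1, 0, 2, 1, 0, 0, 0],
  [2, 1, 0, 1, 0, 1, 0, 0, 0],
  [2, 0, 1, 0, 0, 0, 1, 0, 0],
  [0, 1, 0, 2, 0, 0, 1, 0, 0],
  [2, 1, 0, 1, 0, 1, 0, 0, 1, 0],
  [1, 0, 1, 0, 2, 1, 0, 0, 1, 0],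
  [2, 1, 2, 0, 0, 1, 0, 0, 0],
  [2, 1, 0, 0, 1, 0, 0, 0],
  [1, 0, 2, 1, 0, 1, 0, 0, 0],
  [1, 0, 1, 2, 0, 1, 0, 0, 0],
  [1, 0, 2, 0, 1, 0, 0, 1, 0],
  [0, 1, 2, 0, 0, 0, 1, 0, 0],
  [1, 0, 2, 1, 0, 1, 0, 0, 1, 0],
  [1, 0, 1, 2, 0, 1, 0, 0, 1, 0],
  [1, 0, 2, 0, 1, 0, 0, 0],
  [1, 2, 0, 2, 0, 1, 0, 0, 0],
  [2, 1, 2],
  [1, 0, 2, 0, 0, 0, 0, 0, 0],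
  [1, 0, 2, 0, 1, 0, 1, 0, 1, 0],
  [1, 0, 0, 1, 0, 1, 0, 1, 2, 0],
  [1, 0, 2, 0, 0, 0, 0, 0, 1, 0],
  [1, 0, 0, 0, 0, 0, 0, 2, 1, 0],
  [0, 1, 0, 2, 0, 1, 0, 1],
  [0, 1, 0, 0, 1, 2, 0, 1],
  [2, 1],
  [1, 0, 0, 0, 2, 0, 0, 0, 0],
  [2, 1, 0, 0, 1, 0, 1, 0, 1, 0],
  [0, 0, 1, 0, 0, 0, 0, 0, 2, 1],
  [2, 1, 0, 0, 0, 0, 0, 0, 1, 0],
  [1, 0, 0, 0, 2, 0, 0, 0, 1, 0],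
  [2, 0, 1, 0, 0, 1, 0, 1],
  [0, 1, 2, 0, 0, 1, 0, 1],
  [2, 1, 0, 0, 0, 0, 1, 0, 1],
  [1, 0, 2, 0, 0, 0, 1, 0, 1],
  [1, 0, 2, 1, 0, 0, 1],
  [2, 1, 0, 1, 0, 0, 1],
  [0, 1, 0, 1, 0, 1, 2, 0, 1, 0, 0, 0],
  [2, 0, 0, 1, 0, 0, 1, 0, 1, 0, 1],
  [2, 0, 0, 0, 0, 0, 1, 0, 1, 0, 0, 0],
  [0, 0, 0, 0, 0, 2, 1, 0, 1, 0, 0, 0],
  [1, 0, 0, 0, 0, 1, 2, 0, 1],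
  [1, 0, 0, 0, 2, 0, 1, 0, 1],
  [1, 0, 1, 0, 2, 0, 1],
  [1, 0, 1, 2, 0, 0, 1],
  [0, 0, 1, 0, 0, 1, 2, 0, 1, 0, 1],
  [0, 0, 1, 0, 0, 1, 0, 1, 2, 0, 1],
  [0, 1, 0, 2, 0, 1, 0, 0, 0, 1, 0, 0],
  [0, 0, 0, 2, 0, 0, 1, 0, 1, 0, 0, 0],
  [2, 0, 0, 1, 0, 0],
  [2, 0, 0, 1, 2, 0, 0],
  [0, 0, 1, 0, 1, 2, 0],
  [2, 0, 0, 1, 0, 1, 0],
  [1, 0, 2, 0, 0, 1],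
  [2, 1, 0, 0, 0, 1],
  [2, 0, 1, 0, 0, 0, 0, 0],
  [0, 1, 0, 0, 0, 0, 2, 0],
  [2, 0, 0, 2, 1, 0, 0],
  [2, 0, 2, 0, 1, 0, 0],
  [2, 0, 0, 2, 1, 0, 1, 0],
  [2, 0, 2, 0, 1, 0, 1, 0],
  [2, 1, 2, 0, 0, 0, 1],
  [1, 0, 0, 0, 2, 1],
  [0, 1, 0, 2, 0, 0, 0, 0],
  [0, 1, 2, 0, 0, 0, 0, 0],
  [1, 0, 1, 0, 2, 0, 0, 0, 0, 0],
  [1, 0, 2, 1, 0, 0, 0, 0, 0, 0],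
  [0, 2, 1, 0, 2, 1],
  [0, 1, 0, 2, 1],
  [0, 0, 0, 1, 2, 0, 1, 0, 0, 0, 0],
  [0, 0, 0, 1, 0, 1, 2, 0, 0, 0, 0],
  [1, 0, 1, 0, 2, 1, 0, 1, 0, 0],
  [1, 0, 2, 1, 0, 1, 0, 1, 0, 0],
  [2, 1, 0, 1, 0, 0, 0, 0, 0, 0],
  [1, 0, 1, 2, 0, 0, 0, 0, 0, 0],
  [2, 0, 1, 0, 1],
  [0, 1, 2, 0, 1],
  [2, 0, 0, 0, 1, 0, 1, 0, 0, 0, 0],
  [0, 0, 0, 2, 1, 0, 1, 0, 0, 0, 0],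
  [2, 1, 0, 1, 0, 1, 0, 1, 0, 0],
  [1, 0, 1, 2, 0, 1, 0, 1, 0, 0],
  [2, 0, 0, 2, 0, 1, 0],
  [2, 0, 0, 0, 1, 0],
  [2, 0, 0, 0, 0],
  [2, 0, 0, 2, 0, 0],
  [2, 1, 0, 0, 0, 0, 0, 1, 0, 1, 0],
  [1, 0, 1, 0, 2, 0, 1, 0, 0, 0, 1],
  [0, 1, 0, 2, 1, 0, 1, 0, 0, 1],
  [2, 1, 0, 0, 0, 0, 0, 1, 0, 0],
  [0, 0, 0, 1, 2, 0],
  [0, 0, 0, 2, 1, 0],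
  [0, 0, 2, 0, 2, 0],
  [0, 0, 0, 2, 0],
  [1, 0, 2, 0, 0, 0, 0, 1, 0, 1, 0],
  [1, 0, 0, 0, 2, 0, 0, 1, 0, 1, 0],
  [1, 0, 2, 0, 0, 0, 0, 1, 0, 0],
  [1, 0, 0, 0, 2, 0, 0, 1, 0, 0]]

/-- an orbit of the complement on pairs of cosets -/
def T2L : List (Nat × Nat) := [(5, 645), (6, 1252), (8, 1236), (9, 1102), (10, 775), (11, 1377), (12, 1847), (13, 1678), (14, 1829), (15, 428), (16, 827), (17, 536), (18, 441), (19, 1044), (20, 1522), (21, 420), (22, 1477), (23, 1517), (25, 1492), (26, 1302), (27, 1467), (28, 1813), (30, 694), (31, 1975), (32, 329), (33, 288), (34, 1237), (35, 1250), (36, 418), (37, 942), (38, 469), (39, 419), (41, 1161), (43, 1030), (48, 1083), (51, 1849),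 (53, 1025), (58, 1706), (61, 537), (62, 836), (63, 1277), (64, 1663), (65, 451), (66, 274), (67, 1865), (68, 774), (69, 1521), (71, 1452), (91, 776), (108, 532), (109, 873), (110, 1251), (111, 1009), (113, 1705), (114, 450), (115, 1001), (136, 1614), (155, 201), (168, 1147), (174, 1908), (176, 697), (177, 1573), (179, 652), (202, 1956), (212, 1141), (214, 1633), (215, 1937), (216, 790), (222, 745), (225, 849), (226, 1551), (232, 974), (240, 2004), (241, 199), (242, 250), (244, 246), (251, 752), (257, 455), (277, 153), (297, 1600), (313, 1759), (314, 1648), (315, 705), (331, 1924), (332, 1132), (333, 874), (334, 1602), (335, 1946), (336, 821), (337, 803), (341, 761), (342,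 1146), (343, 1229), (348, 1315), (351, 1041), (352, 1466), (358, 746), (361, 56), (362, 1917), (363, 1785), (365, 158), (366, 248), (372, 1783), (373, 197), (381, 875), (425, 1795), (429, 236), (430, 121), (437, 1778), (442, 1321), (445, 976), (452, 279), (453, 649), (464, 1622), (465, 620), (481, 1309), (500, 1878), (502, 2010), (503, 432), (504, 1085), (505, 388), (539, 1940), (540, 1730), (541, 1306), (542, 1927), (546, 789), (547, 538), (551, 193), (552, 1408), (553, 1288), (557, 1406), (567, 477), (571, 82), (572, 99), (573, 46), (576, 1388), (580, 1057), (582, 1960), (583, 125), (595, 81), (597, 1786), (608, 1316), (638, 1379), (642, 894), (648, 606), (675, 1311), (678,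 1168), (685, 2020), (688, 1798), (689, 1836), (690, 2027), (696, 2026), (699, 191), (703, 677), (710, 876), (711, 1931), (712, 1543), (714, 194), (717, 760), (719, 828), (720, 1223), (725, 1462), (726, 613), (734, 1581), (735, 266), (736, 433), (737, 630), (738, 1904), (739, 528), (740, 1681), (748, 1103), (765, 1610), (767, 987), (792, 757), (795, 997), (796, 1326), (797, 1313), (798, 895), (802, 375), (806, 378), (830, 1839), (832, 1880), (838, 698), (840, 623), (846, 589), (858, 822), (860, 1454), (862, 1981), (870, 1472), (871, 1042), (881, 237), (883, 1700), (904, 1262), (912, 101), (915, 79), (917, 1533), (924, 1753), (948, 100), (963, 1910), (965, 1413), (966, 891),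 (967, 1566), (996, 1322), (1005, 1491), (1006, 1928), (1007, 1877), (1010, 1155), (1012, 497), (1013, 1644), (1019, 826), (1020, 1608), (1021, 376), (1027, 380), (1032, 763), (1051, 463), (1053, 931), (1054, 1651), (1059, 908), (1060, 768), (1067, 2021), (1070, 1943), (1071, 1991), (1074, 2019), (1078, 1119), (1084, 1958), (1097, 1301), (1098, 1627), (1100, 238), (1105, 622), (1110, 2040), (1111, 1897), (1112, 1827), (1120, 1169), (1122, 659), (1123, 175), (1124, 327), (1125, 1570), (1126, 1850), (1127, 413), (1135, 1381), (1138, 1430), (1139, 1003), (1140, 1055), (1144, 1434), (1148, 1015), (1175, 1824), (1176, 1942), (1193, 491), (1195, 816), (1196, 818), (1197, 1226),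 (1200, 1014), (1201, 1011), (1202, 643), (1204, 889), (1205, 1325), (1206, 563), (1207, 905), (1212, 604), (1214, 368), (1215, 1447), (1216, 247), (1269, 599), (1270, 588), (1281, 1231), (1283, 2050), (1298, 271), (1337, 1652), (1339, 842), (1340, 1684), (1349, 980), (1352, 1118), (1386, 565), (1392, 1772), (1393, 1797), (1394, 1577), (1397, 977), (1426, 1058), (1427, 1351), (1432, 1062), (1433, 1208), (1438, 1979), (1439, 1219), (1441, 970), (1442, 1256), (1443, 1263), (1449, 249), (1456, 823), (1483, 511), (1484, 989), (1485, 1613), (1488, 2012), (1500, 1599), (1504, 733), (1509, 1835), (1526, 1409), (1527, 1911), (1536, 410), (1537, 999), (1538, 779), (1545, 934), (1547,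 1365), (1548, 962), (1552, 1431), (1553, 721), (1554, 1024), (1559, 1091), (1560, 1435), (1589, 1181), (1618, 1225), (1619, 817), (1621, 1080), (1637, 607), (1697, 668), (1710, 1556), (1733, 1685), (1744, 1828), (1745, 1961), (1746, 972), (1756, 988), (1801, 400), (1806, 529), (1812, 1189), (1816, 1658), (1817, 610), (1818, 959), (1868, 180), (1869, 267), (1870, 278), (1881, 1367), (1882, 964), (1884, 956), (1914, 414), (1985, 270), (2007, 531), (2046, 409)]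

end Cfsg.Agent.Lib.Helper70.HeC
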