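import Cfsg.Agent.Lib.Helper39.HeOrd

/-! Signatures of the conjugates of the involution `f` of the presented Held group (helper70, for
S2134): the images of three cosets of `H1`, and a linear check that a list of naturals is strictly
increasing between two bounds. -/

set_option autoImplicit false

namespace Cfsg.Agent.Lib.Helper70.HeC

open Cfsg.Agent.Lib.Helper39.HeOrd Cfsg.Agent.Lib.Helper38 Cfsg.Agent.Lib.Helper39.Ord

/-- the word of the conjugate `g f g⁻¹` -/
def cjY (g : List ℕ) : List ℕ := g ++ 5 :: g.reverse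

/-- the signature of a conjugate: its images of the cosets 1, 92, 2 -/
noncomputable def sig3 (g : List ℕ) : ℕ :=
  (ev He2058.cert (cjY g) 1 * 4096 + ev He2058.cert (cjY g) 92) * 4096 + ev He2058.cert (cjY g) 2

/-- `lo < a₁ < a₂ < … < aₖ ≤ hi` -/
def chkS (hi : ℕ) : ℕ → List ℕ → Bool
  | lo, [] => Nat.ble lo hi
  | lo, a :: l => Nat.blt lo a && chkS hi a l

theorem chkS_spec (hi : ℕ) : ∀ (l : List ℕ) (lo : ℕ), chkS hi lo l = true →
    lo ≤ hi ∧ l.Pairwise (· < ·) ∧ ∀ x ∈ l, lo < x ∧ x ≤ hi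
  | [], lo, h => by
    refine ⟨Nat.le_of_ble_eq_true h, List.Pairwise.nil, ?_⟩
    intro x hx
    cases hx
  | a :: l, lo, h => by
    simp only [chkS, Bool.and_eq_true] at h
    obtain ⟨h1, h2⟩ := h
    have h1' : lo < a := by rwa [Nat.blt_eq] at h1
    obtain ⟨i1, i2, i3⟩ := chkS_spec hi l a h2
    refine ⟨le_trans (le_of_lt h1') i1, List.pairwise_cons.mpr ⟨fun x hx => (i3 x hx).1, i2⟩, ?_⟩
    intro x hx
    rcases List.mem_cons.mp hx with rfl | hx
    · exact ⟨h1', i1⟩
    · exact ⟨lt_trans h1' (i3 x hx).1, (i3 x hx).2⟩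

theorem chkS_mono (hi : ℕ) {lo m : ℕ} (hlm : lo ≤ m) : ∀ l : List ℕ, chkS hi m l = true →
    chkS hi lo l = true
  | [], h => Nat.ble_eq_true_of_le (le_trans hlm (Nat.le_of_ble_eq_true h))
  | a :: l, h => by
    simp only [chkS, Bool.and_eq_true] at h ⊢
    have h1 : m < a := by have := h.1; rwa [Nat.blt_eq] at this
    exact ⟨by rw [Nat.blt_eq]; exact lt_of_le_of_lt hlm h1, h.2⟩

theorem chkS_append (hi m : ℕ) : ∀ (l1 : List ℕ) (lo : ℕ) (l2 : List ℕ), chkS m lo l1 = true →
    chkS hi m l2 = true → chkS hi lo (l1 ++ l2) = true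
  | [], lo, l2, h1, h2 => chkS_mono hi (Nat.le_of_ble_eq_true h1) l2 h2
  | a :: l1, lo, l2, h1, h2 => by
    simp only [chkS, Bool.and_eq_true, List.cons_append] at h1 ⊢
    exact ⟨h1.1, chkS_append hi m l1 a l2 h1.2 h2⟩

/-- a conjugator lies in `H1` and its letters are generators -/
noncomputable def chkH (g : List ℕ) : Bool :=
  Nat.beq (ev He2058.cert g 0) 0 && g.all (fun s => Nat.blt s 7)

end Cfsg.Agent.Lib.Helper70.HeC
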