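import Cfsg.Agent.Lib.Helper70.HeMChk
import Cfsg.Agent.Lib.Helper70.HeCData
import Cfsg.Agent.Lib.Helper70.HeCSig

/-! Kernel checks for the S2134 data (helper70): the normal subgroup `W = 2^4` of the centraliser of
the involution `f` of the presented Held group, the generators `x, t, u` of a complement with their
action on `W`, an orbit of the complement on pairs of cosets of `H1`, and the fixed cosets of `f`. -/

set_option autoImplicit false
set_option maxRecDepth 1000000

namespace Cfsg.Agent.Lib.Helper70.HeC

open Cfsg.Agent.Lib.Helper39.HeOrd Cfsg.Agent.Lib.Helper38 Cfsg.Agent.Lib.Helper39.Ord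
open Cfsg.Agent.Lib.Helper70.HeM (tabF basisF neB)

/-- the word of the `k`-th basis element of `W` -/
def wW (k : ℕ) : List ℕ := wWL.getD k []

/-- the word of the element of `W` with coordinates the bits of `i` -/
def fW (i : ℕ) : List ℕ :=
  (if i.testBit 0 then wW 0 else []) ++ (if i.testBit 1 then wW 1 else []) ++
    (if i.testBit 2 then wW 2 else []) ++ (if i.testBit 3 then wW 3 else []) ++
    (if i.testBit 4 then wW 4 else []) ++ (if i.testBit 5 then wW 5 else [])

/-- the words of `x, t, u, x⁻¹, t⁻¹, u⁻¹` -/
def hGW (j : ℕ) : List ℕ := hGWL.getD j []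

/-- their tables -/
def hT (j : ℕ) : List ℕ := hTabL.getD j []

/-- the word `n` acts on the basis of `W` as the table `T` says -/
noncomputable def cjW (n : List ℕ) (T : List ℕ) : Bool :=
  basisF.all (fun i => chkB (n ++ fW i.val ++ n.reverse ++ (fW (tabF T i).val).reverse))

/-- the image of a pair of cosets -/
noncomputable def mvP (w : List ℕ) (pr : ℕ × ℕ) : ℕ × ℕ :=
  (ev He2058.cert w pr.1, ev He2058.cert w pr.2)

/-- the generator of a letter -/
def hIdx (c : ℕ) : Fin 6 := if c = 0 then 0 else if c = 1 then 1 else 2

/-- a word in `x, t, u` as a word in the generators -/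
def hWd : List ℕ → List ℕ
  | [] => []
  | c :: L => hGW (hIdx c).val ++ hWd L

/-- the table of a word in `x, t, u` -/
def tabC : List ℕ → Fin 64 → Fin 64
  | [], i => i
  | c :: L, i => tabF (hT (hIdx c).val) (tabC L i)

/-- the code of the table of a word in `x, t, u` -/
def codeN (L : List ℕ) : ℕ :=
  (tabC L 1).val + 64 * ((tabC L 2).val + 64 * ((tabC L 4).val + 64 * (tabC L 8).val))

/-- the cosets fixed by `f` -/
noncomputable def fixL : List ℕ :=
  (List.range 2058).filter (fun c => Nat.beq (ev He2058.cert [5] c) c)

/-! ### The subgroup `W` -/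

theorem chk_w2 : (List.range 6).all (fun k => chkB (wW k ++ wW k)) = true := by decide +kernel

theorem chk_wc : (List.range 6).all (fun k => (List.range 6).all (fun l =>
    chkB (wW k ++ wW l ++ (wW l ++ wW k).reverse))) = true := by decide +kernel

theorem chk_w1 : (List.range 16).all (fun i => Nat.beq i 0 || neB (fW i ++ uW) uW) = true := by
  decide +kernel

theorem chk_wl : (List.range 16).all (fun i => (fW i).all (fun s => Nat.blt s 7)) = true := by
  decide +kernel

/-! ### The complement -/

theorem chk_hb : (List.range 6).all (fun j => cjW (hGW j) (hT j)) = true := by decide +kernel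

theorem chk_codes : chkS 16777216 0 (HLL.map codeN) = true := by decide +kernel

theorem chk_t2 : (List.range 6).all (fun j =>
    T2L.all (fun pr => T2L.contains (mvP (hGW j) pr))) = true := by decide +kernel

theorem chk_t2w : (List.range 16).all (fun i => Nat.beq i 0 ||
    T2L.any (fun pr => !(T2L.contains (mvP (fW i) pr)))) = true := by decide +kernel

theorem chk_t2lt : T2L.all (fun pr => Nat.blt pr.1 2058 && Nat.blt pr.2 2058) = true := by
  decide +kernel

/-! ### The fixed cosets -/

theorem chk_fix : fixL.length = 42 := by decide +kernel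

end Cfsg.Agent.Lib.Helper70.HeC
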