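import Cfsg.Agent.Lib.Helper70.HeCSig

/-! Data for S2134 (helper70): conjugators `g` in `H1` (chunk 2 of 8) with pairwise different
conjugates `g f g⁻¹`, sorted by the signature of the conjugate; checked by the kernel. -/

set_option autoImplicit false
set_option maxRecDepth 1000000
set_option maxHeartbeats 0

namespace Cfsg.Agent.Lib.Helper70.HeC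

open Cfsg.Agent.Lib.Helper39.HeOrd Cfsg.Agent.Lib.Helper38 Cfsg.Agent.Lib.Helper39.Ord

def cjWL2 : List (List ℕ) := [
  [1, 0, 1, 2, 5, 3, 2, 5, 3, 1, 2, 3, 6, 3, 2, 1, 2, 3, 2, 5, 3],
  [4, 2, 5, 3, 1, 2, 3, 6, 3, 2, 1, 4, 2, 3],
  [3, 2, 5, 3, 1, 2, 3, 6, 3, 2, 1, 2, 3],
  [2, 5, 3, 1, 2, 3, 6, 3, 2, 1, 3, 2, 3],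
  [3, 4, 2, 5, 3, 1, 2, 3, 6, 3, 2, 1, 3, 4, 2, 3],
  [3, 4, 3, 2, 3, 1, 2, 3, 6, 3, 2, 1, 3],
  [2, 3, 1, 2, 3, 6, 3, 2, 1, 4, 2, 3],
  [5, 3, 4, 3, 2, 5, 3, 1, 2, 3, 6, 3, 2, 1, 3, 4, 2, 3],
  [4, 2, 3, 1, 2, 3, 6, 3, 2, 1, 3, 2, 3],
  [5, 3, 4, 2, 3, 1, 2, 3, 6, 3, 2, 1, 3],
  [4, 5, 3, 2, 5, 3, 1, 2, 3, 6, 3, 2, 1, 2, 3],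
  [3, 4, 5, 3, 1, 2, 3, 6, 3, 2, 1, 3, 2, 3],
  [5, 3, 2, 3, 2, 5, 3, 1, 2, 3, 6, 3, 2, 1, 4, 2, 3],
  [3, 2, 5, 3, 1, 2, 3, 6, 3, 2, 1, 2, 5, 3, 4, 2, 5, 3],
  [3, 4, 5, 3, 2, 0, 3, 1, 2, 3, 6, 3, 2, 1, 3, 4, 2, 5, 3],
  [1, 0, 1, 2, 3, 1, 2, 3, 6, 3, 2, 1, 3, 2, 3, 2, 5, 3],
  [5, 3, 2, 0, 3, 1, 2, 3, 6, 3, 2, 1, 3, 4, 2, 5, 3],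
  [2, 3, 1, 2, 3, 6, 3, 2, 1, 2, 5, 3, 4, 2, 5, 3],
  [4, 3, 2, 0, 3, 1, 2, 3, 6, 3, 2, 1, 3, 4, 2, 5, 3],
  [5, 3, 4, 5, 3, 2, 3, 1, 2, 3, 6, 3, 2, 1, 4, 2, 3],
  [4, 3, 2, 3, 1, 2, 3, 6, 3, 2, 1, 3, 4, 2, 3],
  [4, 5, 3, 2, 5, 3, 1, 2, 3, 6, 3, 2, 1, 3],
  [3, 4, 3, 2, 3, 1, 2, 3, 6, 3, 2, 1, 2, 3],
  [3, 4, 5, 3, 2, 3, 1, 2, 3, 6, 3, 2, 1, 3, 2, 3],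
  [2, 3, 1, 2, 3, 6, 3, 2, 1, 3, 4, 2, 3],
  [4, 5, 3, 2, 5, 3, 1, 2, 3, 6, 3, 2, 1, 3, 2, 3],
  [5, 3, 4, 3, 2, 5, 3, 1, 2, 3, 6, 3, 2, 1, 4, 2, 3],
  [4, 2, 3, 1, 2, 3, 6, 3, 2, 1, 2, 3],
  [5, 3, 2, 3, 1, 2, 3, 6, 3, 2, 1, 3],
  [5, 3, 4, 3, 2, 5, 3, 1, 2, 3, 6, 3, 2, 1, 3],
  [3, 4, 5, 3, 2, 3, 1, 2, 3, 6, 3, 2, 1, 2, 3],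
  [4, 3, 2, 3, 1, 2, 3, 6, 3, 2, 1, 4, 2, 3],
  [5, 3, 4, 5, 3, 2, 3, 1, 2, 3, 6, 3, 2, 1, 3, 4, 2, 3],
  [3, 4, 3, 2, 3, 1, 2, 3, 6, 3, 2, 1, 3, 2, 3],
  [4, 2, 5, 3, 2, 5, 3, 1, 2, 3, 6, 3, 2, 1, 2, 3, 2, 5, 3],
  [1, 2, 3, 6, 3, 2, 1, 2, 3, 2, 5, 3],
  [2, 5, 3, 1, 2, 3, 6, 3, 2, 1, 2, 3],
  [4, 2, 5, 3, 1, 2, 3, 6, 3, 2, 1, 3, 4, 2, 3],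
  [4, 3, 2, 3, 1, 2, 3, 6, 3, 2, 1, 3],
  [3, 4, 2, 5, 3, 1, 2, 3, 6, 3, 2, 1, 4, 2, 3],
  [3, 2, 5, 3, 1, 2, 3, 6, 3, 2, 1, 3, 2, 3],
  [4, 1, 2, 3, 6, 3, 2, 1, 3, 2, 3, 2, 5, 3, 2, 3, 1, 2, 3, 6, 3, 2, 1],
  [3, 1, 2, 3, 6, 3, 2, 1, 2, 3, 4, 2, 5, 3, 1, 2, 3, 6, 3, 2, 1, 3],
  [3, 4, 2, 3, 1, 2, 3, 6, 3, 2, 1, 4, 3],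
  [3, 2, 3, 1, 2, 3, 6, 3, 2, 1, 2, 5, 3, 4, 2, 3],
  [3, 2, 3, 2, 5, 3, 2, 3, 1, 2, 3, 6, 3, 2, 1],
  [3, 2, 3, 1, 2, 3, 6, 3, 2, 1, 4, 3],
  [1, 2, 3, 6, 3, 2, 1, 4, 3, 2, 3, 1, 2, 3, 6, 3, 2, 1, 2, 5, 3, 4, 2, 3],
  [3, 1, 2, 3, 6, 3, 2, 1, 2, 3, 2, 0, 5, 3, 1, 2, 3, 6, 3, 2, 1, 3],
  [4, 5, 1, 2, 3, 6, 3, 2, 1, 2, 3, 2, 5, 3],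
  [2, 3, 2, 5, 3, 1, 2, 3, 6, 3, 2, 1, 2, 3, 2, 5, 3],
  [2, 5, 3, 4, 2, 3, 1, 2, 3, 6, 3, 2, 1, 4, 2, 3, 2, 3],
  [4, 5, 3, 2, 5, 3, 2, 3, 1, 2, 3, 6, 3, 2, 1, 3, 4, 2, 3],
  [3, 4, 1, 2, 3, 6, 3, 2, 1, 2, 3],
  [1, 2, 3, 6, 3, 2, 1, 3, 2, 3, 1, 2, 3, 6, 3, 2, 1, 3, 4, 2, 5, 3],
  [2, 3, 2, 3, 1, 2, 3, 6, 3, 2, 1, 5, 3, 2, 5, 3],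
  [5, 3, 2, 3, 4, 3, 2, 3, 1, 2, 3, 6, 3, 2, 1, 3, 2, 3],
  [4, 3, 1, 2, 3, 6, 3, 2, 1, 4, 2, 3],
  [3, 2, 5, 3, 2, 3, 1, 2, 3, 6, 3, 2, 1, 2, 3, 4, 2, 3],
  [2, 3, 2, 3, 4, 3, 1, 2, 3, 6, 3, 2, 1, 2, 3, 2, 3],
  [4, 3, 2, 5, 3, 2, 0, 3, 1, 2, 3, 6, 3, 2, 1, 3, 4, 2, 3],
  [5, 3, 1, 2, 3, 6, 3, 2, 1, 4, 2, 3],
  [4, 2, 5, 3, 2, 3, 1, 2, 3, 6, 3, 2, 1, 2, 3, 4, 2, 3],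
  [3, 2, 5, 3, 2, 5, 3, 1, 2, 3, 6, 3, 2, 1, 3, 2, 3],
  [0, 3, 1, 2, 3, 6, 3, 2, 1, 2, 3],
  [3, 4, 3, 2, 5, 3, 2, 5, 3, 1, 2, 3, 6, 3, 2, 1, 5, 3],
  [2, 3, 4, 2, 3, 2, 5, 3, 1, 2, 3, 6, 3, 2, 1],
  [2, 3, 2, 3, 4, 5, 3, 2, 0, 3, 1, 2, 3, 6, 3, 2, 1, 2, 3],
  [3, 2, 3, 4, 2, 5, 3, 2, 5, 3, 1, 2, 3, 6, 3, 2, 1, 3],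
  [4, 5, 3, 2, 0, 3, 1, 2, 3, 6, 3, 2, 1, 3, 2, 5, 3],
  [0, 1, 2, 3, 6, 3, 2, 1, 3, 2, 5, 3],
  [5, 3, 2, 3, 4, 2, 3, 1, 2, 3, 6, 3, 2, 1, 4, 2, 3],
  [2, 5, 3, 4, 5, 3, 2, 3, 1, 2, 3, 6, 3, 2, 1, 3, 2, 5, 3],
  [4, 5, 3, 2, 0, 5, 3, 1, 2, 3, 6, 3, 2, 1, 2, 3, 4, 2, 3],
  [3, 4, 5, 3, 2, 3, 4, 1, 2, 3, 6, 3, 2, 1, 3, 4, 2, 3],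
  [4, 5, 3, 2, 3, 4, 3, 1, 2, 3, 6, 3, 2, 1, 3, 2, 3],
  [4, 3, 1, 2, 3, 6, 3, 2, 1, 4, 2, 5, 3],
  [5, 3, 4, 5, 3, 2, 3, 1, 2, 3, 6, 3, 2, 1, 3, 4, 3, 2, 5, 3],
  [5, 3, 1, 2, 3, 6, 3, 2, 1, 4, 2, 5, 3],
  [3, 2, 3, 4, 3, 1, 2, 3, 6, 3, 2, 1, 3, 2, 3],
  [3, 2, 0, 5, 3, 1, 2, 3, 6, 3, 2, 1, 2, 3, 4, 2, 3],
  [3, 4, 5, 3, 2, 3, 4, 1, 2, 3, 6, 3, 2, 1, 2, 3, 2, 3],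
  [3, 2, 3, 4, 1, 2, 3, 6, 3, 2, 1, 3, 4, 2, 3, 1, 2, 3, 6, 3, 2, 1, 3, 4, 2, 3],
  [3, 2, 3, 2, 3, 4, 5, 3, 1, 2, 3, 6, 3, 2, 1, 3, 2, 3],
  [2, 3, 1, 2, 3, 6, 3, 2, 1, 2, 3, 2, 3, 4, 1, 2, 3, 6, 3, 2, 1, 2, 3],
  [4, 2, 3, 2, 3, 1, 2, 3, 6, 3, 2, 1, 2, 5, 3, 4, 2, 5, 3],
  [3, 2, 5, 3, 2, 5, 3, 1, 2, 3, 6, 3, 2, 1, 3, 4, 2, 5, 3],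
  [2, 0, 3, 1, 2, 3, 6, 3, 2, 1, 2, 3, 4, 2, 3],
  [3, 4, 3, 2, 3, 1, 2, 3, 6, 3, 2, 1, 3, 4, 3, 2, 5, 3],
  [3, 2, 0, 3, 1, 2, 3, 6, 3, 2, 1],
  [4, 3, 2, 3, 4, 1, 2, 3, 6, 3, 2, 1, 2, 3, 2, 3],
  [4, 2, 3, 1, 2, 3, 6, 3, 2, 1, 4, 3, 2, 5, 3],
  [3, 4, 5, 3, 2, 3, 4, 1, 2, 3, 6, 3, 2, 1, 3, 2, 3],
  [4, 3, 2, 3, 4, 1, 2, 3, 6, 3, 2, 1, 3, 4, 2, 3],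
  [3, 4, 3, 2, 3, 1, 2, 3, 6, 3, 2, 1, 3, 2, 5, 3, 2, 3],
  [4, 0, 5, 3, 1, 2, 3, 6, 3, 2, 1, 2, 5, 3],
  [2, 5, 3, 4, 5, 3, 2, 3, 1, 2, 3, 6, 3, 2, 1, 3, 4, 5, 3, 2, 3],
  [4, 5, 1, 2, 3, 6, 3, 2, 1, 3, 2, 5, 3, 1, 2, 3, 6, 3, 2, 1, 2, 3, 2, 5, 3],
  [2, 3, 4, 1, 2, 3, 6, 3, 2, 1, 3, 4, 2, 3, 1, 2, 3, 6, 3, 2, 1, 2, 3],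
  [5, 3, 2, 3, 4, 2, 3, 1, 2, 3, 6, 3, 2, 1, 3, 4, 2, 5, 3],
  [3, 2, 3, 4, 3, 2, 3, 1, 2, 3, 6, 3, 2, 1, 5, 3, 2, 5, 3],
  [3, 2, 5, 3, 2, 3, 1, 2, 3, 6, 3, 2, 1, 2, 3, 2, 5, 3],
  [4, 5, 3, 2, 3, 1, 2, 3, 6, 3, 2, 1, 4, 3, 2, 5, 3],
  [5, 3, 4, 3, 2, 0, 3, 1, 2, 3, 6, 3, 2, 1, 2, 3, 4, 2, 3],
  [4, 2, 3, 1, 2, 3, 6, 3, 2, 1, 3, 2, 5, 3, 2, 3],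
  [1, 2, 3, 6, 3, 2, 1, 5, 3, 4, 3, 2, 3],
  [2, 3, 4, 1, 2, 3, 6, 3, 2, 1, 3, 4, 2, 3],
  [4, 1, 2, 3, 6, 3, 2, 1, 3, 2, 5, 3, 1, 2, 3, 6, 3, 2, 1, 2, 3, 2, 5, 3],
  [3, 2, 5, 3, 2, 0, 3, 1, 2, 3, 6, 3, 2, 1, 3, 2, 5, 3],
  [3, 2, 3, 4, 2, 3, 1, 2, 3, 6, 3, 2, 1, 3, 4, 2, 5, 3],
  [3, 2, 3, 4, 2, 3, 2, 5, 3, 2, 3, 1, 2, 3, 6, 3, 2, 1, 3],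
  [2, 3, 1, 2, 3, 6, 3, 2, 1, 3, 4, 3, 2, 5, 3, 1, 2, 3, 6, 3, 2, 1, 2, 3],
  [4, 2, 3, 2, 5, 3, 1, 2, 3, 6, 3, 2, 1, 3, 4, 2, 5, 3],
  [2, 3, 5, 1, 2, 3, 6, 3, 2, 1, 3, 2, 5, 3, 1, 2, 3, 6, 3, 2, 1, 3, 2, 3],
  [4, 3, 2, 3, 4, 2, 3, 1, 2, 3, 6, 3, 2, 1, 5, 3, 2, 5, 3],
  [4, 3, 2, 3, 1, 2, 3, 6, 3, 2, 1, 2, 3, 2, 0, 5, 3, 1, 2, 3, 6, 3, 2, 1, 3],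
  [4, 2, 5, 3, 2, 3, 4, 5, 3, 1, 2, 3, 6, 3, 2, 1, 3, 2, 3],
  [1, 2, 3, 6, 3, 2, 1, 3, 2, 5, 3, 1, 2, 3, 6, 3, 2, 1, 2, 3, 2, 5, 3],
  [3, 2, 3, 2, 3, 4, 5, 3, 2, 5, 3, 1, 2, 3, 6, 3, 2, 1, 3],
  [4, 3, 2, 5, 3, 2, 0, 3, 1, 2, 3, 6, 3, 2, 1, 3, 2, 5, 3],
  [0, 1, 2, 3, 6, 3, 2, 1, 2, 3, 4, 5, 3, 2, 3, 1, 2, 3, 6, 3, 2, 1, 2, 3],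
  [4, 3, 2, 3, 4, 2, 3, 1, 2, 3, 6, 3, 2, 1, 3, 4, 2, 5, 3],
  [2, 3, 4, 1, 2, 3, 6, 3, 2, 1, 2, 3, 2, 3],
  [3, 2, 3, 1, 2, 3, 6, 3, 2, 1, 4, 3, 2, 5, 3],
  [3, 5, 1, 2, 3, 6, 3, 2, 1, 5, 3, 2, 3],
  [3, 4, 2, 0, 3, 1, 2, 3, 6, 3, 2, 1, 2, 3, 4, 2, 3],
  [4, 2, 3, 1, 2, 3, 6, 3, 2, 1, 3, 4, 3, 2, 5, 3],
  [3, 4, 3, 5, 1, 2, 3, 6, 3, 2, 1, 2, 3],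
  [5, 3, 2, 3, 4, 2, 0, 3, 1, 2, 3, 6, 3, 2, 1, 3, 2, 3],
  [2, 3, 4, 2, 3, 1, 2, 3, 6, 3, 2, 1, 2, 3, 4, 5, 3, 2, 3],
  [1, 2, 3, 6, 3, 2, 1, 4, 5, 3, 2, 5, 3],
  [3, 4, 3, 2, 5, 3, 2, 3, 1, 2, 3, 6, 3, 2, 1, 3, 4, 2, 3],
  [3, 2, 3, 4, 2, 3, 1, 2, 3, 6, 3, 2, 1, 4, 2, 3, 2, 3],
  [5, 3, 2, 3, 2, 3, 1, 2, 3, 6, 3, 2, 1, 3, 4, 2, 5, 3],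
  [4, 5, 3, 2, 5, 3, 2, 3, 1, 2, 3, 6, 3, 2, 1, 3, 2, 3],
  [2, 3, 1, 2, 3, 6, 3, 2, 1, 3, 2, 5, 3],
  [4, 3, 2, 3, 4, 1, 2, 3, 6, 3, 2, 1, 2, 5, 3, 2, 5, 3],
  [4, 2, 0, 3, 1, 2, 3, 6, 3, 2, 1, 3, 2, 5, 3],
  [3, 2, 3, 1, 2, 3, 6, 3, 2, 1, 4, 2, 5, 3, 2, 5, 3],
  [2, 0, 5, 3, 1, 2, 3, 6, 3, 2, 1, 3, 2, 5, 3],
  [2, 3, 2, 5, 3, 4, 2, 3, 1, 2, 3, 6, 3, 2, 1, 4, 2, 3],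
  [5, 3, 4, 5, 3, 2, 3, 2, 3, 1, 2, 3, 6, 3, 2, 1, 3],
  [3, 1, 2, 3, 6, 3, 2, 1, 3, 4, 2, 5, 3],
  [3, 4, 3, 2, 3, 2, 3, 1, 2, 3, 6, 3, 2, 1, 3],
  [5, 1, 2, 3, 6, 3, 2, 1, 3, 4, 2, 5, 3],
  [4, 2, 3, 2, 3, 1, 2, 3, 6, 3, 2, 1, 3],
  [5, 1, 2, 3, 6, 3, 2, 1, 3, 4, 3, 2, 3],
  [5, 3, 2, 3, 4, 2, 3, 1, 2, 3, 6, 3, 2, 1, 3],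
  [4, 1, 2, 3, 6, 3, 2, 1, 3, 2, 5, 3],
  [4, 5, 3, 2, 5, 3, 1, 2, 3, 6, 3, 2, 1],
  [5, 3, 4, 5, 3, 2, 3, 1, 2, 3, 6, 3, 2, 1, 3, 4, 3, 2, 3],
  [3, 4, 5, 3, 2, 5, 3, 1, 2, 3, 6, 3, 2, 1, 4, 2, 3, 2, 3],
  [4, 3, 2, 5, 3, 1, 2, 3, 6, 3, 2, 1, 2, 3, 4, 2, 3],
  [3, 4, 3, 2, 3, 1, 2, 3, 6, 3, 2, 1, 4, 3, 2, 3],
  [2, 3, 1, 2, 3, 6, 3, 2, 1, 4, 2, 3, 2, 5, 3, 1, 2, 3, 6, 3, 2, 1, 2, 3, 4, 2, 3],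
  [3, 2, 3, 2, 3, 1, 2, 3, 6, 3, 2, 1, 5, 3, 4, 2, 5, 3],
  [4, 3, 2, 5, 3, 2, 3, 1, 2, 3, 6, 3, 2, 1, 3, 4, 5, 3, 2, 3],
  [5, 3, 4, 2, 3, 2, 3, 1, 2, 3, 6, 3, 2, 1, 3, 2, 5, 3],
  [4, 2, 3, 1, 2, 3, 6, 3, 2, 1, 4, 3, 2, 3, 1, 2, 3, 6, 3, 2, 1, 4, 2, 3],
  [5, 3, 4, 3, 2, 5, 3, 1, 2, 3, 6, 3, 2, 1, 2, 3, 4, 2, 3],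
  [4, 3, 1, 2, 3, 6, 3, 2, 1, 5, 3, 4, 2, 3],
  [3, 4, 3, 2, 3, 1, 2, 3, 6, 3, 2, 1, 3, 4, 3, 2, 3],
  [4, 5, 3, 2, 3, 1, 2, 3, 6, 3, 2, 1, 4, 3, 2, 3],
  [4, 3, 2, 5, 3, 1, 2, 3, 6, 3, 2, 1, 4, 2, 3, 2, 3],
  [5, 3, 2, 3, 2, 3, 1, 2, 3, 6, 3, 2, 1, 3, 2, 5, 3],
  [4, 3, 2, 3, 2, 3, 1, 2, 3, 6, 3, 2, 1, 3, 4, 5, 3, 2, 3],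
  [4, 2, 3, 1, 2, 3, 6, 3, 2, 1, 4, 2, 3, 2, 5, 3, 1, 2, 3, 6, 3, 2, 1, 3],
  [4, 2, 3, 2, 5, 3, 4, 5, 3, 1, 2, 3, 6, 3, 2, 1, 2, 3],
  [4, 5, 1, 2, 3, 6, 3, 2, 1, 3, 2, 0, 3, 1, 2, 3, 6, 3, 2, 1, 2, 3, 2, 5, 3],
  [5, 3, 2, 3, 4, 1, 2, 3, 6, 3, 2, 1, 3, 2, 5, 3],
  [4, 2, 3, 1, 2, 3, 6, 3, 2, 1, 3, 4, 3, 2, 3],
  [5, 3, 4, 2, 3, 1, 2, 3, 6, 3, 2, 1, 2, 3, 4, 2, 3],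
  [1, 2, 3, 6, 3, 2, 1, 5, 3, 4, 2, 3],
  [2, 5, 3, 1, 2, 3, 6, 3, 2, 1, 4, 2, 3, 2, 3],
  [5, 3, 2, 3, 1, 2, 3, 6, 3, 2, 1, 4, 2, 3, 2, 3],
  [4, 2, 5, 3, 1, 2, 3, 6, 3, 2, 1, 2, 3, 4, 2, 3],
  [2, 3, 1, 2, 3, 6, 3, 2, 1, 4, 3, 2, 3],
  [0, 1, 2, 3, 6, 3, 2, 1, 5, 3, 2, 3],
  [5, 3, 2, 3, 4, 3, 1, 2, 3, 6, 3, 2, 1, 3, 4, 2, 5, 3],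
  [2, 1, 0, 1, 3, 2, 3, 1, 2, 3, 6, 3, 2, 1, 3, 2, 5, 3],
  [2, 3, 4, 2, 3, 2, 5, 3, 2, 0, 3, 1, 2, 3, 6, 3, 2, 1, 3],
  [2, 5, 3, 2, 3, 1, 2, 3, 6, 3, 2, 1, 3, 2, 5, 3],
  [3, 4, 1, 2, 3, 6, 3, 2, 1, 2, 3, 4, 5, 3, 2, 3, 1, 2, 3, 6, 3, 2, 1, 2, 3],
  [0, 1, 2, 3, 6, 3, 2, 1, 3, 2, 5, 3, 1, 2, 3, 6, 3, 2, 1, 2, 3, 4, 5, 3, 2, 3],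
  [2, 3, 4, 2, 3, 1, 2, 3, 6, 3, 2, 1, 3, 2, 5, 3],
  [4, 2, 5, 3, 2, 3, 1, 2, 3, 6, 3, 2, 1, 3, 4, 2, 5, 3],
  [3, 2, 3, 1, 2, 3, 6, 3, 2, 1, 4, 2, 3, 2, 5, 3, 1, 2, 3, 6, 3, 2, 1, 3],
  [2, 3, 2, 3, 4, 2, 5, 3, 1, 2, 3, 6, 3, 2, 1, 4, 2, 3],
  [2, 3, 2, 3, 1, 2, 3, 6, 3, 2, 1, 3, 4, 5, 3, 2, 3],
  [2, 3, 1, 2, 3, 6, 3, 2, 1, 4, 3, 2, 3, 1, 2, 3, 6, 3, 2, 1, 3, 2, 3],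
  [2, 5, 3, 4, 2, 5, 3, 1, 2, 3, 6, 3, 2, 1, 3, 2, 5, 3],
  [1, 2, 3, 6, 3, 2, 1, 2, 5, 3, 2, 3, 2, 5, 3, 2, 3, 1, 2, 3, 6, 3, 2, 1, 3],
  [2, 3, 4, 3, 1, 2, 3, 6, 3, 2, 1, 3, 2, 5, 3, 1, 2, 3, 6, 3, 2, 1, 3, 2, 3],
  [2, 3, 4, 3, 2, 5, 3, 1, 2, 3, 6, 3, 2, 1, 3, 2, 5, 3],
  [4, 2, 5, 3, 2, 3, 1, 2, 3, 6, 3, 2, 1, 3, 4, 5, 3, 2, 3],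
  [2, 3, 4, 3, 2, 3, 2, 5, 3, 1, 2, 3, 6, 3, 2, 1, 2, 3],
  [0, 3, 1, 2, 3, 6, 3, 2, 1, 3, 2, 5, 3, 1, 2, 3, 6, 3, 2, 1, 2, 3, 2, 5, 3],
  [3, 4, 3, 2, 5, 3, 2, 3, 1, 2, 3, 6, 3, 2, 1, 3, 2, 5, 3],
  [2, 3, 4, 2, 3, 1, 2, 3, 6, 3, 2, 1, 2, 3, 4, 3, 2, 5, 3],
  [3, 1, 2, 3, 6, 3, 2, 1, 2, 3, 4, 5, 3, 2, 3, 1, 2, 3, 6, 3, 2, 1, 2, 3],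
  [4, 2, 5, 3, 2, 3, 1, 2, 3, 6, 3, 2, 1, 5, 3, 4, 2, 5, 3],
  [3, 2, 3, 4, 1, 2, 3, 6, 3, 2, 1, 2, 5, 3, 2, 5, 3],
  [4, 2, 3, 1, 2, 3, 6, 3, 2, 1, 3, 2, 5, 3],
  [3, 1, 2, 3, 6, 3, 2, 1, 3, 2, 5, 3],
  [4, 3, 2, 3, 2, 5, 3, 4, 1, 2, 3, 6, 3, 2, 1, 2, 3],
  [5, 1, 2, 3, 6, 3, 2, 1, 3, 2, 5, 3],
  [4, 3, 2, 3, 4, 2, 3, 1, 2, 3, 6, 3, 2, 1, 3],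
  [4, 5, 3, 2, 3, 4, 3, 1, 2, 3, 6, 3, 2, 1, 3, 4, 2, 5, 3],
  [4, 2, 3, 1, 2, 3, 6, 3, 2, 1, 4, 3, 2, 3],
  [2, 5, 3, 1, 2, 3, 6, 3, 2, 1, 2, 3, 4, 2, 3],
  [5, 3, 2, 3, 1, 2, 3, 6, 3, 2, 1],
  [4, 5, 3, 2, 3, 1, 2, 3, 6, 3, 2, 1, 4, 2, 3, 2, 3],
  [1, 0, 1, 3, 2, 5, 3, 2, 0, 3, 1, 2, 3, 6, 3, 2, 1, 3, 2, 5, 3],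
  [5, 3, 2, 3, 2, 3, 1, 2, 3, 6, 3, 2, 1, 5, 3, 4, 2, 5, 3],
  [3, 4, 2, 3, 2, 3, 1, 2, 3, 6, 3, 2, 1, 3, 2, 5, 3],
  [4, 3, 1, 2, 3, 6, 3, 2, 1, 4, 2, 3, 2, 5, 3, 2, 5, 3, 1, 2, 3, 6, 3, 2, 1, 3],
  [0, 1, 2, 3, 6, 3, 2, 1, 2, 3, 2, 5, 3, 2, 3, 4, 1, 2, 3, 6, 3, 2, 1, 3],
  [2, 3, 4, 1, 2, 3, 6, 3, 2, 1, 3, 2, 5, 3, 1, 2, 3, 6, 3, 2, 1, 3, 2, 3],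
  [2, 3, 4, 2, 3, 2, 5, 3, 1, 2, 3, 6, 3, 2, 1, 2, 3],
  [2, 3, 4, 2, 5, 3, 1, 2, 3, 6, 3, 2, 1, 3, 2, 5, 3],
  [2, 3, 5, 1, 2, 3, 6, 3, 2, 1, 3, 4, 2, 3, 1, 2, 3, 6, 3, 2, 1, 3, 4, 2, 3],
  [2, 5, 3, 2, 3, 1, 2, 3, 6, 3, 2, 1, 3, 4, 5, 3, 2, 3],
  [3, 1, 2, 3, 6, 3, 2, 1, 4, 2, 3, 2, 5, 3, 2, 5, 3, 1, 2, 3, 6, 3, 2, 1, 3],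
  [1, 2, 3, 6, 3, 2, 1, 4, 2, 3, 2, 5, 3, 2, 3, 1, 2, 3, 6, 3, 2, 1, 4, 3],
  [3, 4, 3, 2, 3, 2, 3, 1, 2, 3, 6, 3, 2, 1, 3, 2, 5, 3],
  [5, 3, 2, 5, 3, 2, 3, 1, 2, 3, 6, 3, 2, 1, 3, 4, 5, 3, 2, 3],
  [5, 3, 2, 3, 4, 2, 3, 2, 5, 3, 1, 2, 3, 6, 3, 2, 1, 2, 3],
  [4, 3, 2, 3, 1, 2, 3, 6, 3, 2, 1],
  [3, 2, 3, 1, 2, 3, 6, 3, 2, 1, 4, 2, 3, 2, 3],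
  [3, 2, 3, 4, 3, 1, 2, 3, 6, 3, 2, 1, 3, 4, 2, 5, 3],
  [4, 2, 3, 1, 2, 3, 6, 3, 2, 1, 2, 3, 4, 2, 3],
  [2, 3, 4, 1, 2, 3, 6, 3, 2, 1, 3, 2, 5, 3],
  [3, 2, 3, 4, 5, 3, 2, 0, 3, 1, 2, 3, 6, 3, 2, 1, 3],
  [3, 4, 2, 3, 1, 2, 3, 6, 3, 2, 1, 5, 3, 4, 2, 3],
  [3, 2, 3, 1, 2, 3, 6, 3, 2, 1, 5, 3, 2, 5, 3],
  [4, 0, 3, 5, 1, 2, 3, 6, 3, 2, 1, 2, 3],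
  [4, 3, 2, 3, 2, 5, 3, 1, 2, 3, 6, 3, 2, 1, 3, 2, 3],
  [5, 3, 4, 2, 3, 2, 0, 3, 1, 2, 3, 6, 3, 2, 1, 3, 4, 2, 3],
  [1, 2, 3, 6, 3, 2, 1, 5, 3, 2, 5, 3],
  [3, 2, 3, 4, 2, 3, 1, 2, 3, 6, 3, 2, 1, 3, 2, 3],
  [3, 4, 2, 5, 3, 2, 0, 3, 1, 2, 3, 6, 3, 2, 1, 3, 4, 2, 3],
  [4, 2, 5, 3, 2, 3, 1, 2, 3, 6, 3, 2, 1, 2, 3, 4, 2, 5, 3],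
  [3, 2, 5, 3, 2, 3, 1, 2, 3, 6, 3, 2, 1, 2, 3, 2, 3],
  [4, 2, 3, 2, 3, 1, 2, 3, 6, 3, 2, 1, 2, 3, 4, 2, 5, 3],
  [3, 2, 5, 3, 2, 0, 3, 1, 2, 3, 6, 3, 2, 1, 3, 2, 3],
  [3, 2, 5, 3, 2, 3, 1, 2, 3, 6, 3, 2, 1, 2, 3, 4, 2, 5, 3],
  [3, 4, 3, 2, 5, 3, 2, 3, 1, 2, 3, 6, 3, 2, 1, 2, 3, 2, 3],
  [2, 3, 2, 3, 1, 2, 3, 6, 3, 2, 1, 2, 3, 4, 2, 5, 3],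
  [4, 3, 2, 5, 3, 2, 0, 3, 1, 2, 3, 6, 3, 2, 1, 3, 2, 3],
  [4, 3, 5, 1, 2, 3, 6, 3, 2, 1, 2, 3],
  [5, 3, 4, 2, 3, 2, 3, 1, 2, 3, 6, 3, 2, 1, 3, 4, 2, 3],
  [4, 3, 2, 3, 2, 0, 5, 3, 1, 2, 3, 6, 3, 2, 1, 3, 2, 3],
  [3, 4, 2, 3, 2, 3, 1, 2, 3, 6, 3, 2, 1, 2, 3, 4, 2, 3],
  [0, 3, 5, 3, 1, 2, 3, 6, 3, 2, 1, 2, 3],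
  [5, 3, 2, 3, 2, 5, 3, 1, 2, 3, 6, 3, 2, 1, 3, 2, 3],
  [5, 3, 2, 3, 4, 3, 2, 3, 1, 2, 3, 6, 3, 2, 1, 3, 2, 5, 3],
  [5, 3, 2, 5, 3, 2, 3, 1, 2, 3, 6, 3, 2, 1, 3, 4, 2, 5, 3],
  [5, 3, 2, 3, 2, 0, 5, 3, 1, 2, 3, 6, 3, 2, 1, 3, 2, 3],
  [3, 5, 3, 1, 2, 3, 6, 3, 2, 1, 2, 3],
  [3, 4, 3, 2, 3, 2, 3, 1, 2, 3, 6, 3, 2, 1, 3, 4, 2, 3],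
  [3, 2, 5, 3, 4, 2, 3, 1, 2, 3, 6, 3, 2, 1, 2, 3],
  [0, 1, 2, 3, 6, 3, 2, 1, 3, 2, 5, 3, 2, 3, 1, 2, 3, 6, 3, 2, 1, 2, 3],
  [4, 1, 2, 3, 6, 3, 2, 1, 3, 2, 3, 1, 2, 3, 6, 3, 2, 1, 3, 4, 2, 5, 3],
  [4, 2, 3, 2, 3, 1, 2, 3, 6, 3, 2, 1, 5, 3, 2, 5, 3],
  [3, 2, 3, 1, 2, 3, 6, 3, 2, 1, 3, 2, 5, 3],
  [4, 3, 2, 3, 4, 3, 1, 2, 3, 6, 3, 2, 1, 2, 5, 3, 2, 5, 3],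
  [4, 3, 2, 0, 3, 1, 2, 3, 6, 3, 2, 1, 3, 2, 5, 3],
  [3, 4, 2, 3, 1, 2, 3, 6, 3, 2, 1, 4, 2, 5, 3, 2, 5, 3],
  [5, 3, 2, 0, 3, 1, 2, 3, 6, 3, 2, 1, 3, 2, 5, 3],
  [4, 3, 2, 3, 4, 2, 5, 3, 2, 5, 3, 1, 2, 3, 6, 3, 2, 1, 3],
  [3, 2, 3, 4, 3, 2, 0, 5, 3, 1, 2, 3, 6, 3, 2, 1, 2, 3],
  [4, 3, 1, 2, 3, 6, 3, 2, 1, 3, 4, 2, 5, 3],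
  [3, 4, 3, 2, 5, 3, 2, 3, 1, 2, 3, 6, 3, 2, 1, 3],
  [4, 3, 1, 2, 3, 6, 3, 2, 1, 3, 4, 3, 2, 3],
  [2, 3, 2, 0, 3, 1, 2, 3, 6, 3, 2, 1, 3, 2, 3, 2, 5, 3],
  [2, 3, 2, 5, 3, 1, 2, 3, 6, 3, 2, 1, 4, 2, 5, 3],
  [3, 2, 3, 2, 5, 3, 2, 5, 3, 1, 2, 3, 6, 3, 2, 1],
  [1, 2, 3, 6, 3, 2, 1, 3, 4, 3, 2, 3],
  [4, 2, 5, 3, 2, 3, 1, 2, 3, 6, 3, 2, 1, 3],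
  [3, 4, 2, 5, 3, 2, 5, 3, 1, 2, 3, 6, 3, 2, 1, 5, 3],
  [2, 5, 3, 2, 0, 3, 1, 2, 3, 6, 3, 2, 1, 3, 2, 3, 2, 5, 3],
  [3, 4, 2, 3, 2, 3, 1, 2, 3, 6, 3, 2, 1, 5, 3],
  [2, 5, 3, 2, 3, 1, 2, 3, 6, 3, 2, 1, 5, 3, 4, 2, 3],
  [3, 4, 2, 3, 2, 0, 3, 1, 2, 3, 6, 3, 2, 1, 3, 2, 3, 2, 5, 3],
  [2, 3, 4, 2, 0, 3, 1, 2, 3, 6, 3, 2, 1, 5, 3, 2, 3],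
  [4, 2, 3, 2, 5, 3, 4, 1, 2, 3, 6, 3, 2, 1, 2, 3],
  [3, 4, 1, 2, 3, 6, 3, 2, 1, 3, 2, 5, 3],
  [1, 2, 3, 6, 3, 2, 1, 3, 2, 5, 3, 2, 3, 1, 2, 3, 6, 3, 2, 1, 2, 5, 3],
  [3, 2, 5, 3, 4, 3, 2, 3, 1, 2, 3, 6, 3, 2, 1, 2, 3],
  [2, 5, 3, 2, 3, 4, 1, 2, 3, 6, 3, 2, 1, 2, 3],
  [1, 2, 3, 6, 3, 2, 1, 2, 3, 2, 3, 4, 1, 2, 3, 6, 3, 2, 1, 3, 4, 2, 5, 3],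
  [2, 5, 3, 2, 3, 1, 2, 3, 6, 3, 2, 1, 4, 3],
  [5, 1, 2, 3, 6, 3, 2, 1, 5, 3, 2, 5, 3, 2, 3, 1, 2, 3, 6, 3, 2, 1, 5, 3],
  [3, 2, 5, 3, 4, 3, 2, 0, 3, 1, 2, 3, 6, 3, 2, 1, 3, 2, 3],
  [4, 5, 3, 1, 2, 3, 6, 3, 2, 1, 2, 3],
  [3, 2, 3, 2, 3, 1, 2, 3, 6, 3, 2, 1, 3, 4, 2, 3],
  [3, 4, 2, 5, 3, 2, 3, 4, 1, 2, 3, 6, 3, 2, 1, 2, 3],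
  [2, 3, 1, 2, 3, 6, 3, 2, 1, 3, 2, 0, 3, 1, 2, 3, 6, 3, 2, 1, 3, 2, 3],
  [4, 2, 3, 2, 3, 4, 0, 5, 3, 1, 2, 3, 6, 3, 2, 1, 2, 3],
  [1, 2, 3, 6, 3, 2, 1, 2, 3, 2, 5, 3, 1, 2, 3, 6, 3, 2, 1, 3, 2, 3],
  [1, 2, 3, 6, 3, 2, 1, 2, 3, 4, 2, 0, 3, 1, 2, 3, 6, 3, 2, 1, 3],
  [3, 4, 3, 2, 5, 3, 2, 3, 1, 2, 3, 6, 3, 2, 1, 4, 3],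
  [3, 2, 3, 4, 3, 1, 2, 3, 6, 3, 2, 1, 2, 5, 3, 2, 5, 3],
  [4, 3, 2, 3, 1, 2, 3, 6, 3, 2, 1, 3, 2, 5, 3],
  [4, 3, 1, 2, 3, 6, 3, 2, 1, 3, 2, 5, 3],
  [3, 2, 3, 2, 5, 3, 4, 1, 2, 3, 6, 3, 2, 1, 2, 3],
  [2, 5, 3, 2, 5, 3, 4, 1, 2, 3, 6, 3, 2, 1, 2, 3],
  [4, 3, 1, 2, 3, 6, 3, 2, 1, 4, 3, 2, 3],
  [5, 3, 2, 3, 2, 3, 1, 2, 3, 6, 3, 2, 1, 5, 3],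
  [2, 3, 2, 5, 3, 2, 5, 3, 4, 2, 5, 3, 1, 2, 3, 6, 3, 2, 1, 3],
  [3, 2, 5, 3, 2, 3, 1, 2, 3, 6, 3, 2, 1, 2, 5, 3],
  [3, 4, 2, 5, 3, 2, 3, 4, 3, 1, 2, 3, 6, 3, 2, 1, 3],
  [3, 4, 3, 1, 2, 3, 6, 3, 2, 1, 2, 3, 2, 3, 1, 2, 3, 6, 3, 2, 1, 3],
  [3, 4, 1, 2, 3, 6, 3, 2, 1, 2, 3, 2, 3, 1, 2, 3, 6, 3, 2, 1, 3],
  [3, 4, 3, 2, 5, 3, 2, 3, 4, 3, 1, 2, 3, 6, 3, 2, 1, 3],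
  [2, 3, 2, 3, 4, 0, 5, 3, 1, 2, 3, 6, 3, 2, 1, 2, 3],
  [1, 2, 3, 6, 3, 2, 1, 3, 4, 3, 2, 3, 1, 2, 3, 6, 3, 2, 1, 3, 2, 5, 3],
  [0, 5, 3, 1, 2, 3, 6, 3, 2, 1, 2, 3],
  [5, 3, 2, 5, 3, 2, 5, 3, 1, 2, 3, 6, 3, 2, 1, 3, 2, 3],
  [4, 2, 3, 2, 3, 1, 2, 3, 6, 3, 2, 1, 2, 3, 4, 2, 3],
  [3, 4, 0, 5, 3, 1, 2, 3, 6, 3, 2, 1, 2, 3],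
  [2, 5, 3, 4, 3, 2, 3, 1, 2, 3, 6, 3, 2, 1, 3, 2, 3],
  [2, 3, 2, 0, 3, 1, 2, 3, 6, 3, 2, 1, 3, 4, 2, 3],
  [4, 3, 2, 5, 3, 2, 5, 3, 1, 2, 3, 6, 3, 2, 1, 3, 2, 3],
  [4, 0, 3, 1, 2, 3, 6, 3, 2, 1, 2, 3],
  [2, 5, 3, 2, 3, 1, 2, 3, 6, 3, 2, 1, 2, 3, 4, 2, 3],
  [1, 2, 3, 6, 3, 2, 1, 3, 2, 5, 3, 2, 3, 1, 2, 3, 6, 3, 2, 1, 2, 3],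
  [3, 2, 5, 3, 4, 2, 0, 3, 1, 2, 3, 6, 3, 2, 1, 2, 3],
  [1, 2, 3, 6, 3, 2, 1, 4, 2, 3, 2, 3, 1, 2, 3, 6, 3, 2, 1, 3, 4, 3, 2, 5, 3],
  [4, 2, 5, 3, 2, 3, 1, 2, 3, 6, 3, 2, 1, 4, 2, 3],
  [2, 0, 3, 1, 2, 3, 6, 3, 2, 1, 3, 2, 3, 4, 1, 2, 3, 6, 3, 2, 1, 2, 3],
  [2, 5, 3, 4, 2, 3, 2, 3, 1, 2, 3, 6, 3, 2, 1, 3],
  [3, 4, 2, 3, 2, 3, 4, 5, 3, 1, 2, 3, 6, 3, 2, 1, 2, 3],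
  [1, 2, 3, 6, 3, 2, 1, 2, 3, 2, 5, 3, 1, 2, 3, 6, 3, 2, 1, 5, 3],
  [4, 3, 2, 5, 3, 2, 3, 1, 2, 3, 6, 3, 2, 1, 3, 4, 2, 3],
  [5, 3, 4, 1, 2, 3, 6, 3, 2, 1, 2, 3],
  [2, 3, 4, 2, 3, 1, 2, 3, 6, 3, 2, 1, 4, 2, 3, 2, 3],
  [4, 2, 3, 2, 0, 3, 1, 2, 3, 6, 3, 2, 1, 5, 3, 2, 5, 3],
  [5, 1, 2, 3, 6, 3, 2, 1, 3, 2, 5, 3, 2, 3, 1, 2, 3, 6, 3, 2, 1, 2, 3],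
  [2, 3, 2, 0, 3, 1, 2, 3, 6, 3, 2, 1, 5, 3, 2, 5, 3],
  [3, 4, 1, 2, 3, 6, 3, 2, 1, 2, 3, 2, 3, 1, 2, 3, 6, 3, 2, 1, 5, 3],
  [1, 0, 1, 2, 3, 1, 2, 3, 6, 3, 2, 1, 3, 2, 5, 3],
  [2, 3, 2, 3, 4, 3, 2, 5, 3, 1, 2, 3, 6, 3, 2, 1, 2, 3],
  [3, 2, 3, 4, 5, 3, 2, 3, 1, 2, 3, 6, 3, 2, 1, 4, 2, 3],
  [1, 0, 1, 5, 3, 2, 3, 1, 2, 3, 6, 3, 2, 1, 3, 2, 5, 3],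
  [3, 4, 2, 3, 1, 2, 3, 6, 3, 2, 1, 2, 5, 3, 4, 2, 5, 3],
  [2, 0, 3, 1, 2, 3, 6, 3, 2, 1, 3, 4, 2, 5, 3],
  [2, 5, 3, 4, 5, 3, 2, 3, 2, 3, 1, 2, 3, 6, 3, 2, 1, 3],
  [2, 3, 1, 2, 3, 6, 3, 2, 1, 3, 4, 2, 5, 3],
  [2, 3, 4, 5, 3, 2, 5, 3, 2, 3, 1, 2, 3, 6, 3, 2, 1, 3],
  [4, 2, 5, 3, 1, 2, 3, 6, 3, 2, 1, 3, 4, 2, 5, 3],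
  [2, 0, 3, 1, 2, 3, 6, 3, 2, 1, 2, 5, 3, 4, 2, 5, 3],
  [4, 3, 2, 3, 1, 2, 3, 6, 3, 2, 1, 3, 4, 2, 5, 3],
  [5, 3, 2, 0, 3, 1, 2, 3, 6, 3, 2, 1, 2, 5, 3, 4, 2, 5, 3],
  [5, 3, 4, 3, 2, 3, 1, 2, 3, 6, 3, 2, 1, 3, 4, 2, 5, 3],
  [2, 3, 4, 5, 3, 2, 3, 4, 1, 2, 3, 6, 3, 2, 1, 2, 3],
  [5, 3, 4, 2, 5, 3, 1, 2, 3, 6, 3, 2, 1, 3, 4, 2, 5, 3],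
  [0, 3, 1, 2, 3, 6, 3, 2, 1, 3, 4, 2, 5, 3],
  [5, 3, 4, 2, 5, 3, 2, 3, 1, 2, 3, 6, 3, 2, 1, 2, 3],
  [0, 5, 1, 2, 3, 6, 3, 2, 1, 3, 4, 2, 5, 3],
  [3, 4, 2, 3, 2, 3, 1, 2, 3, 6, 3, 2, 1, 2, 3],
  [4, 2, 3, 2, 0, 3, 1, 2, 3, 6, 3, 2, 1, 3],
  [4, 5, 1, 2, 3, 6, 3, 2, 1, 3, 4, 2, 3],
  [4, 3, 1, 2, 3, 6, 3, 2, 1, 3, 4, 5, 3, 2, 3],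
  [3, 4, 3, 2, 5, 3, 2, 3, 1, 2, 3, 6, 3, 2, 1, 2, 3],
  [4, 3, 2, 5, 3, 2, 0, 3, 1, 2, 3, 6, 3, 2, 1, 3],
  [4, 3, 1, 2, 3, 6, 3, 2, 1, 3, 4, 2, 3],
  [3, 4, 3, 2, 3, 2, 3, 1, 2, 3, 6, 3, 2, 1, 3, 4, 2, 5, 3],
  [2, 5, 3, 2, 3, 1, 2, 3, 6, 3, 2, 1, 3, 2, 3],
  [1, 2, 3, 6, 3, 2, 1, 3, 4, 2, 3],
  [2, 5, 3, 2, 0, 3, 1, 2, 3, 6, 3, 2, 1, 3],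
  [4, 2, 3, 2, 5, 3, 1, 2, 3, 6, 3, 2, 1, 5, 3],
  [4, 2, 5, 3, 2, 3, 1, 2, 3, 6, 3, 2, 1, 5, 3],
  [3, 2, 5, 3, 2, 3, 1, 2, 3, 6, 3, 2, 1, 3, 2, 3, 2, 5, 3],
  [3, 4, 2, 3, 2, 0, 5, 3, 1, 2, 3, 6, 3, 2, 1, 3],
  [5, 3, 2, 3, 4, 2, 0, 5, 3, 1, 2, 3, 6, 3, 2, 1, 3],
  [4, 2, 3, 2, 3, 1, 2, 3, 6, 3, 2, 1, 5, 3, 4, 2, 3],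
  [2, 3, 2, 5, 3, 1, 2, 3, 6, 3, 2, 1, 5, 3, 2, 3],
  [5, 3, 4, 2, 3, 2, 3, 1, 2, 3, 6, 3, 2, 1, 3, 2, 3, 2, 5, 3],
  [4, 3, 2, 5, 3, 2, 3, 1, 2, 3, 6, 3, 2, 1, 5, 3],
  [3, 2, 3, 2, 3, 4, 5, 3, 2, 3, 1, 2, 3, 6, 3, 2, 1, 2, 3],
  [4, 2, 3, 2, 3, 1, 2, 3, 6, 3, 2, 1, 2, 5, 3],
  [5, 3, 2, 3, 4, 2, 0, 3, 1, 2, 3, 6, 3, 2, 1, 3],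
  [1, 2, 3, 6, 3, 2, 1, 4, 3, 2, 5, 3],
  [3, 2, 5, 3, 4, 2, 0, 3, 1, 2, 3, 6, 3, 2, 1, 3],
  [3, 4, 1, 2, 3, 6, 3, 2, 1, 3, 2, 3],
  [2, 3, 4, 2, 3, 1, 2, 3, 6, 3, 2, 1, 3, 2, 3, 4, 3, 2, 5, 3],
  [2, 3, 2, 3, 1, 2, 3, 6, 3, 2, 1, 2, 5, 3, 4, 2, 3],
  [4, 2, 5, 3, 2, 3, 1, 2, 3, 6, 3, 2, 1, 2, 5, 3],
  [5, 1, 2, 3, 6, 3, 2, 1, 3, 2, 3, 1, 2, 3, 6, 3, 2, 1, 3, 4, 5, 3, 2, 3],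
  [2, 5, 3, 4, 3, 2, 0, 3, 1, 2, 3, 6, 3, 2, 1, 2, 3],
  [5, 3, 4, 2, 3, 2, 0, 5, 3, 1, 2, 3, 6, 3, 2, 1, 3],
  [3, 2, 3, 4, 2, 0, 5, 3, 1, 2, 3, 6, 3, 2, 1, 3],
  [4, 0, 5, 3, 1, 2, 3, 6, 3, 2, 1, 3, 2, 3],
  [5, 3, 2, 5, 3, 2, 5, 3, 4, 1, 2, 3, 6, 3, 2, 1, 2, 3],
  [2, 3, 2, 3, 1, 2, 3, 6, 3, 2, 1, 4, 2, 3],
  [0, 1, 2, 3, 6, 3, 2, 1, 3, 4, 2, 5, 3, 1, 2, 3, 6, 3, 2, 1, 3, 2, 5, 3],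
  [3, 1, 2, 3, 6, 3, 2, 1, 2, 3, 4, 3, 2, 3, 1, 2, 3, 6, 3, 2, 1, 3],
  [4, 2, 5, 3, 2, 3, 4, 1, 2, 3, 6, 3, 2, 1, 3],
  [2, 3, 2, 3, 4, 1, 2, 3, 6, 3, 2, 1, 3],
  [0, 1, 2, 3, 6, 3, 2, 1, 5, 3, 2, 5, 3, 2, 3, 1, 2, 3, 6, 3, 2, 1, 5, 3],
  [1, 2, 3, 6, 3, 2, 1, 2, 3, 4, 3, 2, 3, 1, 2, 3, 6, 3, 2, 1, 3],
  [3, 4, 2, 5, 3, 2, 3, 4, 1, 2, 3, 6, 3, 2, 1, 3],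
  [2, 3, 4, 2, 0, 5, 3, 1, 2, 3, 6, 3, 2, 1, 3],
  [2, 3, 4, 2, 3, 1, 2, 3, 6, 3, 2, 1, 3, 2, 3, 2, 5, 3],
  [1, 0, 1, 4, 5, 3, 2, 3, 1, 2, 3, 6, 3, 2, 1, 3, 2, 5, 3],
  [5, 3, 2, 3, 1, 2, 3, 6, 3, 2, 1, 2, 5, 3, 4, 2, 5, 3],
  [4, 3, 2, 3, 2, 5, 3, 1, 2, 3, 6, 3, 2, 1, 4, 2, 3],
  [0, 3, 1, 2, 3, 6, 3, 2, 1, 3, 2, 5, 3],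
  [4, 3, 1, 2, 3, 6, 3, 2, 1, 3, 2, 3],
  [3, 2, 5, 3, 2, 5, 3, 1, 2, 3, 6, 3, 2, 1, 4, 2, 3],
  [3, 2, 5, 3, 2, 3, 1, 2, 3, 6, 3, 2, 1, 5, 3],
  [2, 3, 2, 3, 1, 2, 3, 6, 3, 2, 1, 2, 5, 3],
  [4, 3, 2, 3, 2, 3, 4, 5, 3, 2, 3, 1, 2, 3, 6, 3, 2, 1, 2, 3],
  [4, 0, 3, 1, 2, 3, 6, 3, 2, 1, 2, 3, 2, 3, 1, 2, 3, 6, 3, 2, 1, 3],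
  [2, 5, 3, 4, 3, 2, 3, 1, 2, 3, 6, 3, 2, 1, 4, 3],
  [1, 2, 3, 6, 3, 2, 1, 4, 2, 3, 2, 0, 3, 1, 2, 3, 6, 3, 2, 1, 3],
  [4, 3, 2, 5, 3, 4, 2, 3, 1, 2, 3, 6, 3, 2, 1, 4, 3],
  [3, 2, 3, 2, 3, 5, 3, 1, 2, 3, 6, 3, 2, 1, 3, 2, 5, 3],
  [2, 5, 3, 1, 2, 3, 6, 3, 2, 1, 2, 3, 1, 2, 3, 6, 3, 2, 1, 2, 3],
  [3, 4, 3, 2, 3, 2, 5, 3, 2, 3, 4, 1, 2, 3, 6, 3, 2, 1, 3, 4, 2, 3],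
  [4, 2, 3, 1, 2, 3, 6, 3, 2, 1, 2, 3, 4, 5, 3, 2, 5, 3],
  [5, 3, 2, 3, 1, 2, 3, 6, 3, 2, 1, 2, 3, 4, 3, 2, 3],
  [4, 2, 3, 1, 2, 3, 6, 3, 2, 1, 2, 3, 2, 3],
  [2, 3, 2, 5, 3, 2, 3, 1, 2, 3, 6, 3, 2, 1, 3, 2, 5, 3, 2, 3],
  [2, 0, 3, 1, 2, 3, 6, 3, 2, 1, 2, 3, 1, 2, 3, 6, 3, 2, 1, 2, 3],
  [5, 3, 2, 3, 1, 2, 3, 6, 3, 2, 1, 2, 5, 3, 4, 5, 3, 2, 3],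
  [3, 2, 3, 4, 1, 2, 3, 6, 3, 2, 1, 2, 3, 4, 2, 3],
  [2, 3, 1, 2, 3, 6, 3, 2, 1, 2, 3, 4, 3, 2, 3],
  [3, 2, 3, 4, 3, 1, 2, 3, 6, 3, 2, 1, 2, 3, 4, 5, 3, 2, 3],
  [2, 3, 1, 2, 3, 6, 3, 2, 1, 2, 5, 3, 4, 5, 3, 2, 3],
  [5, 3, 4, 2, 3, 1, 2, 3, 6, 3, 2, 1, 2, 3, 2, 3],
  [4, 5, 3, 2, 3, 2, 5, 3, 2, 3, 4, 1, 2, 3, 6, 3, 2, 1, 3, 4, 2, 3],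
  [3, 4, 2, 5, 3, 1, 2, 3, 6, 3, 2, 1, 2, 3, 2, 3],
  [5, 3, 4, 2, 3, 1, 2, 3, 6, 3, 2, 1, 2, 3, 4, 5, 3, 2, 5, 3],
  [4, 3, 2, 3, 2, 5, 3, 2, 3, 1, 2, 3, 6, 3, 2, 1, 3, 4, 3, 2, 3],
  [3, 2, 3, 1, 2, 3, 6, 3, 2, 1, 2, 5, 3, 4, 5, 3, 2, 3],
  [3, 2, 3, 2, 5, 3, 2, 3, 1, 2, 3, 6, 3, 2, 1, 3, 2, 5, 3, 2, 3],
  [2, 3, 4, 1, 2, 3, 6, 3, 2, 1, 2, 3, 4, 2, 3],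
  [3, 2, 3, 1, 2, 3, 6, 3, 2, 1, 2, 3, 4, 3, 2, 3],
  [5, 3, 2, 3, 4, 1, 2, 3, 6, 3, 2, 1, 2, 3, 4, 2, 3],
  [5, 3, 4, 2, 5, 3, 1, 2, 3, 6, 3, 2, 1, 2, 3, 2, 3],
  [2, 3, 2, 3, 5, 3, 1, 2, 3, 6, 3, 2, 1, 3, 2, 5, 3],
  [2, 3, 2, 5, 3, 2, 5, 3, 1, 2, 3, 6, 3, 2, 1, 4, 2, 3, 2, 3],
  [3, 4, 2, 3, 1, 2, 3, 6, 3, 2, 1, 2, 3, 2, 3],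
  [4, 2, 5, 3, 1, 2, 3, 6, 3, 2, 1, 2, 3, 2, 3],
  [2, 3, 1, 2, 3, 6, 3, 2, 1, 2, 3, 1, 2, 3, 6, 3, 2, 1, 2, 3],
  [4, 5, 3, 2, 3, 2, 5, 3, 2, 3, 1, 2, 3, 6, 3, 2, 1, 3, 4, 3, 2, 3],
  [2, 3, 2, 5, 3, 2, 5, 3, 1, 2, 3, 6, 3, 2, 1, 2, 3, 4, 5, 3, 2, 3],
  [4, 3, 2, 3, 2, 5, 3, 2, 3, 4, 1, 2, 3, 6, 3, 2, 1, 3, 4, 2, 3],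
  [5, 3, 2, 3, 2, 3, 5, 3, 1, 2, 3, 6, 3, 2, 1, 3, 2, 5, 3],
  [5, 3, 2, 3, 4, 3, 1, 2, 3, 6, 3, 2, 1, 2, 3, 4, 5, 3, 2, 3],
  [2, 3, 4, 3, 1, 2, 3, 6, 3, 2, 1, 2, 3, 4, 5, 3, 2, 3],
  [3, 4, 2, 3, 1, 2, 3, 6, 3, 2, 1, 2, 3, 4, 5, 3, 2, 5, 3],
  [2, 0, 3, 1, 2, 3, 6, 3, 2, 1, 3, 2, 3, 2, 5, 3],
  [5, 3, 4, 2, 0, 3, 1, 2, 3, 6, 3, 2, 1, 3, 2, 5, 3],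
  [3, 4, 5, 3, 2, 0, 3, 1, 2, 3, 6, 3, 2, 1, 3, 4, 2, 3],
  [5, 3, 4, 5, 3, 2, 0, 3, 1, 2, 3, 6, 3, 2, 1, 2, 3],
  [4, 5, 3, 2, 3, 4, 1, 2, 3, 6, 3, 2, 1, 2, 3],
  [3, 4, 3, 2, 0, 5, 3, 1, 2, 3, 6, 3, 2, 1, 3],
  [5, 3, 4, 3, 2, 0, 3, 1, 2, 3, 6, 3, 2, 1, 3, 2, 3],
  [5, 3, 4, 2, 0, 5, 3, 1, 2, 3, 6, 3, 2, 1, 3],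
  [3, 2, 3, 4, 1, 2, 3, 6, 3, 2, 1, 2, 3],
  [1, 0, 1, 3, 4, 5, 3, 2, 5, 3, 1, 2, 3, 6, 3, 2, 1, 3, 2, 3],
  [3, 4, 2, 0, 3, 1, 2, 3, 6, 3, 2, 1, 3, 2, 3],
  [3, 4, 5, 3, 2, 0, 5, 3, 1, 2, 3, 6, 3, 2, 1, 2, 3],
  [4, 2, 0, 3, 1, 2, 3, 6, 3, 2, 1, 2, 3, 4, 5, 3, 2, 3],
  [1, 2, 3, 6, 3, 2, 1, 3, 2, 0, 3, 1, 2, 3, 6, 3, 2, 1, 3, 2, 3],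
  [2, 5, 3, 1, 2, 3, 6, 3, 2, 1, 2, 3, 4, 5, 3, 2, 3],
  [2, 3, 2, 5, 3, 4, 5, 3, 2, 3, 1, 2, 3, 6, 3, 2, 1, 3, 4, 2, 3],
  [1, 2, 3, 6, 3, 2, 1, 2, 3, 4, 2, 5, 3],
  [3, 4, 3, 2, 0, 3, 1, 2, 3, 6, 3, 2, 1, 3],
  [2, 5, 3, 4, 3, 1, 2, 3, 6, 3, 2, 1, 2, 3],
  [1, 0, 1, 3, 2, 5, 3, 1, 2, 3, 6, 3, 2, 1, 3, 2, 3],
  [2, 0, 5, 3, 1, 2, 3, 6, 3, 2, 1, 3, 2, 3],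
  [3, 2, 0, 5, 3, 1, 2, 3, 6, 3, 2, 1, 2, 3],
  [2, 3, 4, 1, 2, 3, 6, 3, 2, 1, 2, 3],
  [4, 5, 3, 2, 0, 5, 3, 1, 2, 3, 6, 3, 2, 1, 2, 3],
  [1, 0, 1, 4, 5, 3, 2, 5, 3, 1, 2, 3, 6, 3, 2, 1, 3, 2, 3]]

theorem chk_cs2 : chkS 12684141814 8177807483 (cjWL2.map sig3) = true := by decide +kernel

theorem chk_ch2 : cjWL2.all chkH = true := by decide +kernel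

end Cfsg.Agent.Lib.Helper70.HeC
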