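import Cfsg.Agent.Lib.Helper70.HeMFin
import Cfsg.Agent.Lib.Helper70.HeCChk
import Cfsg.Agent.Lib.Helper70.HeCConj0
import Cfsg.Agent.Lib.Helper70.HeCConj1
import Cfsg.Agent.Lib.Helper70.HeCConj2
import Cfsg.Agent.Lib.Helper70.HeCConj3
import Cfsg.Agent.Lib.Helper70.HeCConj4
import Cfsg.Agent.Lib.Helper70.HeCConj5
import Cfsg.Agent.Lib.Helper70.HeCConj6
import Cfsg.Agent.Lib.Helper70.HeCConj7
import Cfsg.Agent.Lib.Helper12.HeCFIX
import Cfsg.Agent.Lib.Helper82.HeCCNT
import Cfsg.Agent.Lib.Helper86.HeCASM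

/-! The centraliser of the involution `f` of the presented Held group is isomorphic to the centraliser
of a transvection of `SL(5, 2)` (helper70, for S2134).

* upper bound `|C(f)| ≤ 21504`: `f` fixes 42 cosets of `H1` and has 3825 conjugates in `H1`
  (piece FIX by helper12, CNT by helper82);
* `W = 2^4` normal in `C(f)` and a complement `H₀ = ⟨x, t, u⟩` with 1344 different actions on `W`;
  `W ∩ H₀ = 1` since `H₀` preserves a set of pairs of cosets which no element of `W` preserves;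
* the assembly (piece ASM by helper86, on helper44's `Cfsg.Agent.S2133.abstract_iso`). -/

set_option autoImplicit false
set_option maxRecDepth 100000

namespace Cfsg.Agent.Lib.Helper70.HeC

open Cfsg.Agent.Lib.Helper39.HeOrd Cfsg.Agent.Lib.Helper38 Cfsg.Agent.Lib.Helper39.Ord
open Cfsg.Agent.Lib.Helper70.HeM (Wd Wd_nil Wd_append Wd_reverse Wd_one Wd_eq Wd_conj Wd_ne Wd_ite
  tabF)
open Cfsg.Agent.Lib.Helper6.HeMXOR (eOf eOf_xor)

/-! ### Generalities -/

theorem cn : He2058.cert.n = 2058 := by decide +kernel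
theorem cg : He2058.cert.g = 7 := by decide +kernel

theorem ev_lt : ∀ (w : List ℕ), (∀ s ∈ w, s < 7) → ∀ c, c < He2058.cert.n →
    ev He2058.cert w c < He2058.cert.n
  | [], _, c, hc => hc
  | s :: w, hw, c, hc => by
    rw [ev_cons]
    have h1 := ev_lt w (fun s hs => hw s (List.mem_cons_of_mem _ hs)) c hc
    have hs : s < He2058.cert.g := by rw [cg]; exact hw s List.mem_cons_self
    have h2 : He2058.cert.pstep (ev He2058.cert w c) s =
        He2058.cert.tn (ev He2058.cert w c) s := by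
      unfold Cert.pstep
      rw [sel_eq_ite, if_pos]
      rw [band_iff, blt_iff, blt_iff]
      exact ⟨h1, hs⟩
    rw [h2]
    exact hA1.lt _ h1 _ hs

theorem Wd_act (w : List ℕ) (hw : ∀ s ∈ w, s < 7) (c : ℕ) (hc : c < 2058) :
    Wd w • F1 c = F1 (ev He2058.cert w c) :=
  ev_smul hA1 w c (by rw [cn]; exact hc) (ev_lt w hw c (by rw [cn]; exact hc))

theorem ev_lt' (w : List ℕ) (hw : ∀ s ∈ w, s < 7) (c : ℕ) (hc : c < 2058) :
    ev He2058.cert w c < 2058 := by
  have h := ev_lt w hw c (by rw [cn]; exact hc)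
  rwa [cn] at h

theorem F1_inj {c1 c2 : ℕ} (h1 : c1 < 2058) (h2 : c2 < 2058) (h : F1 c1 = F1 c2) : c1 = c2 :=
  hA1.inj c1 (by rw [cn]; exact h1) c2 (by rw [cn]; exact h2) h

theorem all7 {w : List ℕ} (h : w.all (fun s => Nat.blt s 7) = true) : ∀ s ∈ w, s < 7 := by
  intro s hs
  have := List.all_eq_true.mp h s hs
  rwa [Nat.blt_eq] at this

theorem mem_H1_of_fix (w : List ℕ) (hw : ∀ s ∈ w, s < 7) (h0 : ev He2058.cert w 0 = 0) :
    Wd w ∈ H1 := by
  have h := Wd_act w hw 0 (by norm_num)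
  rw [h0] at h
  have hz : F1 0 = ((1 : G) : G ⧸ H1) := Cert.F_zero hC1
  rw [hz] at h
  have h2 : ((Wd w * 1 : G) : G ⧸ H1) = ((1 : G) : G ⧸ H1) := h
  rw [mul_one] at h2
  have h3 := QuotientGroup.eq.mp h2
  rw [mul_one] at h3
  exact (Subgroup.inv_mem_iff H1).mp h3

/-! ### The subgroup `W` -/

/-- the basis of `W` (padded by two trivial elements) -/
noncomputable def w (k : Fin 6) : G := Wd (wW k.val)

/-- the elements of `W` -/
noncomputable def ew : Fin 64 → G := eOf w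

theorem ew_eq (i : Fin 64) : ew i = Wd (fW i.val) := by
  unfold ew eOf fW
  simp only [Wd_append, Wd_ite]
  rfl

theorem hw2 : ∀ k : Fin 6, w k * w k = 1 := by
  intro k
  have h := List.all_eq_true.mp chk_w2 k.val (List.mem_range.mpr k.isLt)
  have h1 := Wd_one h
  rwa [Wd_append] at h1

theorem hwc : ∀ k l : Fin 6, w k * w l = w l * w k := by
  intro k l
  have h := List.all_eq_true.mp (List.all_eq_true.mp chk_wc k.val (List.mem_range.mpr k.isLt))
    l.val (List.mem_range.mpr l.isLt)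
  have h1 := Wd_eq h
  rwa [Wd_append, Wd_append] at h1

theorem hmulw : ∀ i j, ew i * ew j = ew (i ^^^ j) := fun i j => eOf_xor w hw2 hwc i j

theorem xor_self64 : ∀ i : Fin 64, i ^^^ i = 0 := by decide

theorem ew_zero : ew 0 = 1 := by
  have h := hmulw 0 0
  rw [xor_self64] at h
  exact mul_left_cancel (a := ew 0) (by rw [h, mul_one])

theorem ew_sq (i : Fin 64) : ew i * ew i = 1 := by rw [hmulw, xor_self64, ew_zero]

theorem ew1 : ∀ i : Fin 64, i.val < 16 → ew i = 1 → i = 0 := by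
  intro i hlt hi
  have h := List.all_eq_true.mp chk_w1 i.val (List.mem_range.mpr hlt)
  rw [Bool.or_eq_true] at h
  rcases h with h | h
  · exact Fin.ext (Nat.eq_of_beq_eq_true h)
  · exfalso
    apply Wd_ne h
    rw [Wd_append, ← ew_eq, hi, one_mul]

theorem xor_lt16 : ∀ i j : Fin 64, i.val < 16 → j.val < 16 → (i ^^^ j).val < 16 := by decide
theorem xor_eq_zero64 : ∀ i j : Fin 64, i ^^^ j = 0 → i = j := by decide

theorem ew_inj (i j : Fin 64) (hi : i.val < 16) (hj : j.val < 16) (h : ew i = ew j) : i = j := by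
  apply xor_eq_zero64
  apply ew1 _ (xor_lt16 i j hi hj)
  rw [← hmulw, h, ew_sq]

theorem fW_lt (i : Fin 64) (hi : i.val < 16) : ∀ s ∈ fW i.val, s < 7 :=
  all7 (List.all_eq_true.mp chk_wl i.val (List.mem_range.mpr hi))

/-- the involution -/
noncomputable def zE : G := Wd [5]

theorem fW_one : fW 1 = [5] := by decide

theorem ew_one : ew 1 = zE := by
  rw [ew_eq]
  show Wd (fW 1) = zE
  rw [fW_one]
  rfl

/-! ### Coordinates -/

def iota4 (x0 x1 x2 x3 : ZMod 2) : Fin 64 :=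
  Fin.ofNat 64 (x0.val + 2 * x1.val + 4 * x2.val + 8 * x3.val)

def iota (a : Fin 4 → ZMod 2) : Fin 64 := iota4 (a 0) (a 1) (a 2) (a 3)

theorem iota4_add : ∀ x0 x1 x2 x3 y0 y1 y2 y3 : ZMod 2,
    iota4 (x0 + y0) (x1 + y1) (x2 + y2) (x3 + y3) = iota4 x0 x1 x2 x3 ^^^ iota4 y0 y1 y2 y3 := by
  decide

theorem iota4_lt : ∀ x0 x1 x2 x3 : ZMod 2, (iota4 x0 x1 x2 x3).val < 16 := by decide

theorem iota4_zero : ∀ x0 x1 x2 x3 : ZMod 2, iota4 x0 x1 x2 x3 = 0 →
    x0 = 0 ∧ x1 = 0 ∧ x2 = 0 ∧ x3 = 0 := by decide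

theorem iota4_surj : ∀ j : Fin 64, j.val < 16 →
    ∃ x0 x1 x2 x3 : ZMod 2, iota4 x0 x1 x2 x3 = j := by decide

/-- the elements of `W` by coordinates -/
noncomputable def wOf (a : Fin 4 → ZMod 2) : G := ew (iota a)

theorem hadd (a b : Fin 4 → ZMod 2) : wOf (a + b) = wOf a * wOf b := by
  unfold wOf
  rw [hmulw]
  congr 1
  exact iota4_add _ _ _ _ _ _ _ _

theorem iota_single : iota (Pi.single 0 1) = 1 := by decide

theorem hw0 : wOf (Pi.single 0 1) = zE := by
  unfold wOf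
  rw [iota_single, ew_one]

theorem iota_lt (a : Fin 4 → ZMod 2) : (iota a).val < 16 := iota4_lt _ _ _ _

theorem iota_zero (a : Fin 4 → ZMod 2) (h : iota a = 0) : a = 0 := by
  obtain ⟨h0, h1, h2, h3⟩ := iota4_zero _ _ _ _ h
  funext i
  fin_cases i
  · exact h0
  · exact h1
  · exact h2
  · exact h3

theorem iota_surj (j : Fin 64) (hj : j.val < 16) : ∃ a : Fin 4 → ZMod 2, iota a = j := by
  obtain ⟨x0, x1, x2, x3, h⟩ := iota4_surj j hj
  exact ⟨![x0, x1, x2, x3], h⟩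

/-! ### The complement -/

/-- the complement -/
noncomputable def H0 : Subgroup G := Subgroup.closure {Wd (hGW 0), Wd (hGW 1), Wd (hGW 2)}

theorem hGW_rev : hGW 3 = (hGW 0).reverse ∧ hGW 4 = (hGW 1).reverse ∧ hGW 5 = (hGW 2).reverse := by
  decide

theorem H0_ind (p : G → Prop) (h1 : p 1) (hg : ∀ j : Fin 6, p (Wd (hGW j.val)))
    (hmul : ∀ x y, p x → p y → p (x * y)) : ∀ h ∈ H0, p h := by
  intro h hh
  refine Subgroup.closure_induction'' (p := fun x _ => p x) ?_ ?_ h1 (fun x y _ _ hx hy => hmul x y hx hy) hh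
  · intro x hx
    rcases hx with rfl | rfl | rfl
    · exact hg 0
    · exact hg 1
    · exact hg 2
  · intro x hx
    rcases hx with rfl | rfl | rfl
    · rw [← Wd_reverse, ← hGW_rev.1]; exact hg 3
    · rw [← Wd_reverse, ← hGW_rev.2.1]; exact hg 4
    · rw [← Wd_reverse, ← hGW_rev.2.2]; exact hg 5

theorem hbW {n T : List ℕ} (h : cjW n T = true) :
    ∀ i ∈ ([1, 2, 4, 8, 16, 32] : List (Fin 64)), Wd n * ew i * (Wd n)⁻¹ = ew (tabF T i) := by
  intro i hi
  have h1 := List.all_eq_true.mp h i hi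
  rw [ew_eq, ew_eq]
  exact Wd_conj h1

theorem lin_h : ∀ j : Fin 6, ∀ i k : Fin 64,
    tabF (hT j.val) (i ^^^ k) = tabF (hT j.val) i ^^^ tabF (hT j.val) k := by decide +kernel

theorem hT_lt : ∀ j : Fin 6, ∀ i : Fin 64, (tabF (hT j.val) i).val < 16 := by decide +kernel

theorem hT_one : ∀ j : Fin 6, tabF (hT j.val) 1 = 1 := by decide +kernel

theorem hact : ∀ (j : Fin 6) (i : Fin 64),
    Wd (hGW j.val) * ew i * (Wd (hGW j.val))⁻¹ = ew (tabF (hT j.val) i) := by
  intro j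
  exact Cfsg.Agent.Lib.Helper85.HeMLIN.conj_table_of_basis ew hmulw (Wd (hGW j.val))
    (tabF (hT j.val)) (lin_h j)
    (hbW (List.all_eq_true.mp chk_hb j.val (List.mem_range.mpr j.isLt)))

theorem hcz : ∀ h ∈ H0, h * zE = zE * h := by
  refine H0_ind (fun h => h * zE = zE * h) (by rw [one_mul, mul_one]) ?_ ?_
  · intro j
    have h := hact j 1
    rw [hT_one, ew_one] at h
    exact mul_inv_eq_iff_eq_mul.mp h
  · intro x y hx hy
    rw [mul_assoc, hy, ← mul_assoc, hx, mul_assoc]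

theorem hnorm' : ∀ h ∈ H0, ∀ i : Fin 64, i.val < 16 →
    ∃ j : Fin 64, j.val < 16 ∧ h * ew i * h⁻¹ = ew j := by
  refine H0_ind (fun h => ∀ i : Fin 64, i.val < 16 →
    ∃ j : Fin 64, j.val < 16 ∧ h * ew i * h⁻¹ = ew j) ?_ ?_ ?_
  · intro i hi
    exact ⟨i, hi, by rw [one_mul, inv_one, mul_one]⟩
  · intro j i _
    exact ⟨_, hT_lt j i, hact j i⟩
  · intro x y hx hy i hi
    obtain ⟨j, hj, e1⟩ := hy i hi
    obtain ⟨k, hk, e2⟩ := hx j hj
    refine ⟨k, hk, ?_⟩
    rw [← e2, ← e1]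
    group

theorem hnorm : ∀ h ∈ H0, ∀ a, ∃ b, h * wOf a * h⁻¹ = wOf b := by
  intro h hh a
  obtain ⟨j, hj, e1⟩ := hnorm' h hh (iota a) (iota_lt a)
  obtain ⟨b, hb⟩ := iota_surj j hj
  exact ⟨b, by unfold wOf; rw [hb]; exact e1⟩

/-! ### `W ∩ H₀ = 1` -/

/-- preserving the set of pairs -/
def InvT (h : G) : Prop :=
  ∀ pr ∈ T2L, ∃ pr' ∈ T2L, h • F1 pr.1 = F1 pr'.1 ∧ h • F1 pr.2 = F1 pr'.2

theorem T2_lt {pr : ℕ × ℕ} (h : pr ∈ T2L) : pr.1 < 2058 ∧ pr.2 < 2058 := by
  have := List.all_eq_true.mp chk_t2lt pr h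
  rw [Bool.and_eq_true, Nat.blt_eq, Nat.blt_eq] at this
  exact this

theorem hGW_lt : ∀ j : Fin 6, ∀ s ∈ hGW j.val, s < 7 := by decide

theorem invT_H0 : ∀ h ∈ H0, InvT h := by
  refine H0_ind InvT ?_ ?_ ?_
  · intro pr hpr
    exact ⟨pr, hpr, one_smul _ _, one_smul _ _⟩
  · intro j pr hpr
    have h := List.all_eq_true.mp (List.all_eq_true.mp chk_t2 j.val (List.mem_range.mpr j.isLt))
      pr hpr
    have hm : mvP (hGW j.val) pr ∈ T2L := List.contains_iff_mem.mp h
    refine ⟨_, hm, ?_, ?_⟩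
    · exact Wd_act _ (hGW_lt j) _ (T2_lt hpr).1
    · exact Wd_act _ (hGW_lt j) _ (T2_lt hpr).2
  · intro x y hx hy pr hpr
    obtain ⟨p1, hp1, e1, e2⟩ := hy pr hpr
    obtain ⟨p2, hp2, e3, e4⟩ := hx p1 hp1
    exact ⟨p2, hp2, by rw [mul_smul, e1, e3], by rw [mul_smul, e2, e4]⟩

theorem hWH : ∀ a, wOf a ∈ H0 → a = 0 := by
  intro a ha
  apply iota_zero
  by_contra hne
  have hinv := invT_H0 _ ha
  have h := List.all_eq_true.mp chk_t2w (iota a).val (List.mem_range.mpr (iota_lt a))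
  rw [Bool.or_eq_true] at h
  rcases h with h | h
  · exact hne (Fin.ext (Nat.eq_of_beq_eq_true h))
  · obtain ⟨pr, hpr, hc⟩ := List.any_eq_true.mp h
    obtain ⟨pr', hpr', e1, e2⟩ := hinv pr hpr
    unfold wOf at e1 e2
    rw [ew_eq, Wd_act _ (fW_lt _ (iota_lt a)) _ (T2_lt hpr).1] at e1
    rw [ew_eq, Wd_act _ (fW_lt _ (iota_lt a)) _ (T2_lt hpr).2] at e2
    have f1 := F1_inj (ev_lt' _ (fW_lt _ (iota_lt a)) _ (T2_lt hpr).1) (T2_lt hpr').1 e1
    have f2 := F1_inj (ev_lt' _ (fW_lt _ (iota_lt a)) _ (T2_lt hpr).2) (T2_lt hpr').2 e2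
    have hm : mvP (fW (iota a).val) pr = pr' := Prod.ext f1 f2
    rw [hm] at hc
    have hc2 : T2L.contains pr' = true := List.contains_iff_mem.mpr hpr'
    rw [hc2] at hc
    exact Bool.noConfusion hc

/-! ### 1344 elements of the complement -/

theorem act_word : ∀ (L : List ℕ) (i : Fin 64),
    Wd (hWd L) * ew i * (Wd (hWd L))⁻¹ = ew (tabC L i)
  | [], i => by
    show Wd [] * ew i * (Wd [])⁻¹ = ew i
    rw [Wd_nil, one_mul, inv_one, mul_one]
  | c :: L, i => by
    show Wd (hGW (hIdx c).val ++ hWd L) * ew i * (Wd (hGW (hIdx c).val ++ hWd L))⁻¹ =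
      ew (tabF (hT (hIdx c).val) (tabC L i))
    rw [Wd_append, ← hact (hIdx c) (tabC L i), ← act_word L i]
    group

theorem mem_gen (j : Fin 6) : Wd (hGW j.val) ∈ H0 := by
  have h0 : Wd (hGW 0) ∈ H0 := Subgroup.subset_closure (by simp)
  have h1 : Wd (hGW 1) ∈ H0 := Subgroup.subset_closure (by simp)
  have h2 : Wd (hGW 2) ∈ H0 := Subgroup.subset_closure (by simp)
  fin_cases j
  · exact h0
  · exact h1
  · exact h2
  · show Wd (hGW 3) ∈ H0
    rw [hGW_rev.1, Wd_reverse]; exact H0.inv_mem h0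
  · show Wd (hGW 4) ∈ H0
    rw [hGW_rev.2.1, Wd_reverse]; exact H0.inv_mem h1
  · show Wd (hGW 5) ∈ H0
    rw [hGW_rev.2.2, Wd_reverse]; exact H0.inv_mem h2

theorem mem_word : ∀ L : List ℕ, Wd (hWd L) ∈ H0
  | [] => by
    show Wd [] ∈ H0
    rw [Wd_nil]; exact H0.one_mem
  | c :: L => by
    show Wd (hGW (hIdx c).val ++ hWd L) ∈ H0
    rw [Wd_append]
    exact H0.mul_mem (mem_gen _) (mem_word L)

theorem tabC_lt : ∀ (L : List ℕ) (i : Fin 64), i.val < 16 → (tabC L i).val < 16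
  | [], _, hi => hi
  | c :: L, i, _ => hT_lt (hIdx c) (tabC L i)

theorem lenH : HLL.length = 1344 := by decide

theorem codes_pw : (HLL.map codeN).Pairwise (· < ·) := (chkS_spec _ _ _ chk_codes).2.1

/-- 1344 elements of the complement -/
noncomputable def fH (i : Fin 1344) : G := Wd (hWd (HLL.get (Fin.cast lenH.symm i)))

theorem mem_fH (i : Fin 1344) : fH i ∈ H0 := mem_word _

theorem hdist : ∀ i j : Fin 1344,
    (∀ a, fH i * wOf a * (fH i)⁻¹ = fH j * wOf a * (fH j)⁻¹) → i = j := by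
  intro i j h
  have key : ∀ b : Fin 64, b.val < 16 → tabC (HLL.get (Fin.cast lenH.symm i)) b =
      tabC (HLL.get (Fin.cast lenH.symm j)) b := by
    intro b hb
    obtain ⟨a, ha⟩ := iota_surj b hb
    have h1 := h a
    unfold wOf fH at h1
    rw [ha, act_word, act_word] at h1
    exact ew_inj _ _ (tabC_lt _ _ hb) (tabC_lt _ _ hb) h1
  have hc : codeN (HLL.get (Fin.cast lenH.symm i)) = codeN (HLL.get (Fin.cast lenH.symm j)) := by
    unfold codeN
    rw [key 1 (by decide), key 2 (by decide), key 4 (by decide), key 8 (by decide)]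
  have hnd : (HLL.map codeN).Nodup := codes_pw.imp (fun h => ne_of_lt h)
  have h2 : HLL.get (Fin.cast lenH.symm i) = HLL.get (Fin.cast lenH.symm j) :=
    List.inj_on_of_nodup_map hnd (List.get_mem _ _) (List.get_mem _ _) hc
  have h3 := (List.Nodup.get_inj_iff (List.Nodup.of_map _ hnd)).mp h2
  exact Fin.cast_injective _ h3

/-! ### The upper bound -/

/-- the conjugators -/
def cjWL : List (List ℕ) :=
  cjWL0 ++ (cjWL1 ++ (cjWL2 ++ (cjWL3 ++ (cjWL4 ++ (cjWL5 ++ (cjWL6 ++ cjWL7))))))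

theorem cj_len : cjWL.length = 3825 := by decide

theorem chk_cs : chkS 34515140990 0 (cjWL.map sig3) = true := by
  unfold cjWL
  simp only [List.map_append]
  exact chkS_append _ _ _ _ _ chk_cs0 (chkS_append _ _ _ _ _ chk_cs1 (chkS_append _ _ _ _ _ chk_cs2
    (chkS_append _ _ _ _ _ chk_cs3 (chkS_append _ _ _ _ _ chk_cs4 (chkS_append _ _ _ _ _ chk_cs5
    (chkS_append _ _ _ _ _ chk_cs6 chk_cs7))))))

theorem chk_ch : cjWL.all chkH = true := by
  unfold cjWL
  simp only [List.all_append, chk_ch0, chk_ch1, chk_ch2, chk_ch3, chk_ch4, chk_ch5, chk_ch6,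
    chk_ch7, Bool.and_self]

theorem cj_spec {g : List ℕ} (hg : g ∈ cjWL) : ev He2058.cert g 0 = 0 ∧ ∀ s ∈ g, s < 7 := by
  have h := List.all_eq_true.mp chk_ch g hg
  unfold chkH at h
  rw [Bool.and_eq_true] at h
  exact ⟨Nat.eq_of_beq_eq_true h.1, all7 h.2⟩

theorem z_lt : ∀ s ∈ ([5] : List ℕ), s < 7 := by decide

theorem z_mem : zE ∈ H1 := mem_H1_of_fix [5] z_lt (by decide +kernel)

theorem cjY_lt {g : List ℕ} (hg : ∀ s ∈ g, s < 7) : ∀ s ∈ cjY g, s < 7 := by
  intro s hs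
  unfold cjY at hs
  rcases List.mem_append.mp hs with h | h
  · exact hg s h
  · rcases List.mem_cons.mp h with rfl | h
    · norm_num
    · exact hg s (List.mem_reverse.mp h)

theorem cjY_eq (g : List ℕ) : Wd (cjY g) = Wd g * zE * (Wd g)⁻¹ := by
  unfold cjY
  have h : g ++ 5 :: g.reverse = g ++ [5] ++ g.reverse := by simp
  rw [h, Wd_append, Wd_append, Wd_reverse]
  rfl

theorem sigs_nd : (cjWL.map sig3).Nodup :=
  ((chkS_spec _ _ _ chk_cs).2.1).imp (fun h => ne_of_lt h)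

theorem hub : Nat.card (Subgroup.centralizer ({zE} : Set G)) ≤ 21504 := by
  have hg : ∀ i : Fin cjWL.length, Wd (cjWL.get i) * zE * (Wd (cjWL.get i))⁻¹ ∈ H1 := by
    intro i
    have h := cj_spec (List.get_mem cjWL i)
    have hm := mem_H1_of_fix _ h.2 h.1
    exact H1.mul_mem (H1.mul_mem hm z_mem) (H1.inv_mem hm)
  have hinj : ∀ i j : Fin cjWL.length, Wd (cjWL.get i) * zE * (Wd (cjWL.get i))⁻¹ =
      Wd (cjWL.get j) * zE * (Wd (cjWL.get j))⁻¹ → i = j := by
    intro i j h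
    rw [← cjY_eq, ← cjY_eq] at h
    have hi := cjY_lt (cj_spec (List.get_mem cjWL i)).2
    have hj := cjY_lt (cj_spec (List.get_mem cjWL j)).2
    have key : ∀ c, c < 2058 → ev He2058.cert (cjY (cjWL.get i)) c =
        ev He2058.cert (cjY (cjWL.get j)) c := by
      intro c hc
      apply F1_inj (ev_lt' _ hi c hc) (ev_lt' _ hj c hc)
      rw [← Wd_act _ hi c hc, ← Wd_act _ hj c hc, h]
    have hs : sig3 (cjWL.get i) = sig3 (cjWL.get j) := by
      unfold sig3
      rw [key 1 (by norm_num), key 92 (by norm_num), key 2 (by norm_num)]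
    have h2 : cjWL.get i = cjWL.get j :=
      List.inj_on_of_nodup_map sigs_nd (List.get_mem _ _) (List.get_mem _ _) hs
    exact (List.Nodup.get_inj_iff (List.Nodup.of_map _ sigs_nd)).mp h2
  have hfix : Nat.card {x : G ⧸ H1 // zE • x = x} ≤ 42 := by
    have h := Cfsg.Agent.Lib.Helper82.HeCCNT.card_subtype_le_length F1 He2058.cert.n hA1.surj
      (fun x => zE • x = x) fixL (by
        intro c hc h
        rw [cn] at hc
        have e1 : zE • F1 c = F1 (ev He2058.cert [5] c) := Wd_act [5] z_lt c hc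
        rw [e1] at h
        have e2 := F1_inj (ev_lt' [5] z_lt c hc) hc h
        unfold fixL
        rw [List.mem_filter]
        exact ⟨List.mem_range.mpr hc, by rw [e2]; exact Nat.beq_refl c⟩)
    rwa [chk_fix] at h
  have hcard : Nat.card H1 = 1958400 := by
    have h1 := Subgroup.card_mul_index H1
    rw [Cert.index_eq hP1 hC1, he_card, cn] at h1
    omega
  have h := Cfsg.Agent.Lib.Helper12.HeCFIX.card_centralizer_mul_le H1 zE cjWL.length 42
    (fun i => Wd (cjWL.get i)) hg hinj hfix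
  rw [cj_len, hcard] at h
  omega

/-! ### The result -/

theorem z_ne : zE ≠ 1 := by
  intro h
  have h1 := ew1 1 (by decide) (by rw [ew_one]; exact h)
  exact absurd h1 (by decide)

theorem z_order : orderOf zE = 2 := by
  apply orderOf_eq_prime
  · have h := ew_sq 1
    rw [ew_one] at h
    rw [pow_two]; exact h
  · exact z_ne

/-- **The centraliser of the involution `f`.** -/
theorem he_cent (s : Matrix.SpecialLinearGroup (Fin 5) (ZMod 2))
    (hs : (s : Matrix (Fin 5) (Fin 5) (ZMod 2)) = Matrix.transvection 0 1 1) :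
    ∃ z : G, orderOf z = 2 ∧ Nonempty (↥(Subgroup.centralizer ({z} : Set G)) ≃*
      ↥(Subgroup.centralizer ({s} : Set (Matrix.SpecialLinearGroup (Fin 5) (ZMod 2))))) :=
  ⟨zE, z_order, Cfsg.Agent.Lib.Helper86.HeCASM.cent_iso_of_data zE wOf hadd hw0 H0 hWH hnorm hcz hub
    fH mem_fH hdist s hs⟩

end Cfsg.Agent.Lib.Helper70.HeC
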