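/-! Generated data for S2049 (helper70): words in the generators `a, …, g` (numbered `0, …, 6`) of the
presented Held group for a basis of an elementary abelian subgroup `V` of order `2^6`, elements of its
normaliser `2^6:3·S6` with their action tables on `V`, and Sylow data for the primes 3, 5, 7. -/

set_option autoImplicit false

namespace Cfsg.Agent.Lib.Helper70.HeM

def vWL : List (List Nat) := [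
  [2],
  [5],
  [6, 5, 6],
  [3, 2, 3, 2, 3, 2, 3, 2, 3],
  [3, 6, 5, 6, 3, 2, 3, 6, 5, 6, 3],
  [3, 2, 3, 5, 2, 3, 2, 3, 5, 2, 3, 2, 3]]

def yW : List Nat := [1, 2, 3, 4, 5, 3, 2, 1, 3, 2, 4, 3, 2, 3, 1, 2, 3, 4, 5, 3, 2, 1, 3, 2, 4, 3, 2, 3]

def sW : List Nat := [2, 5, 6, 5, 6, 3, 2, 3, 2, 3, 2, 3, 2, 3, 6]

def tW : List Nat := [5, 6, 5, 6, 3, 2, 5, 3, 2, 3, 6, 1, 2, 3, 4, 5, 3, 2, 1, 6, 3, 2, 3, 5, 2, 3]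

def rW : List Nat := [1, 0, 1, 6]

def yT : List Nat := [0, 14, 51, 61, 17, 31, 34, 44, 45, 35, 30, 16, 60, 50, 15, 1, 27, 21, 40, 38, 10, 4, 57, 55, 54, 56, 5, 11, 39, 41, 20, 26, 23, 25, 36, 42, 6, 8, 53, 59, 58, 52, 9, 7, 43, 37, 24, 22, 12, 2, 63, 49, 29, 19, 46, 32, 33, 47, 18, 28, 48, 62, 3, 13]

def sT : List Nat := [0, 1, 4, 5, 2, 3, 6, 7, 8, 9, 12, 13, 10, 11, 14, 15, 50, 51, 54, 55, 48, 49, 52, 53, 58, 59, 62, 63, 56, 57, 60, 61, 38, 39, 34, 35, 36, 37, 32, 33, 46, 47, 42, 43, 44, 45, 40, 41, 20, 21, 16, 17, 22, 23, 18, 19, 28, 29, 24, 25, 30, 31, 26, 27]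

def tT : List Nat := [0, 53, 43, 30, 45, 24, 6, 51, 21, 32, 62, 11, 56, 13, 19, 38, 16, 37, 59, 14, 61, 8, 22, 35, 5, 48, 46, 27, 40, 29, 3, 54, 9, 60, 34, 23, 36, 17, 15, 58, 28, 41, 55, 2, 49, 4, 26, 47, 25, 44, 50, 7, 52, 1, 31, 42, 12, 57, 39, 18, 33, 20, 10, 63]

def rT : List Nat := [0, 14, 4, 10, 2, 12, 6, 8, 7, 9, 3, 13, 5, 11, 1, 15, 63, 49, 59, 53, 61, 51, 57, 55, 56, 54, 60, 50, 58, 52, 62, 48, 32, 46, 36, 42, 34, 44, 38, 40, 39, 41, 35, 45, 37, 43, 33, 47, 31, 17, 27, 21, 29, 19, 25, 23, 24, 22, 28, 18, 26, 20, 30, 16]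

def nWL : List (List Nat) := [
  [6],
  [1, 0, 1],
  [3, 4, 5, 3],
  [3, 2, 3, 2, 4, 3],
  [1, 2, 3, 4, 5, 3, 2, 1]]

def nTL : List (List Nat) := [
  [0, 1, 4, 5, 2, 3, 6, 7, 8, 9, 12, 13, 10, 11, 14, 15, 50, 51, 54, 55, 48, 49, 52, 53, 58, 59, 62, 63, 56, 57, 60, 61, 38, 39, 34, 35, 36, 37, 32, 33, 46, 47, 42, 43, 44, 45, 40, 41, 20, 21, 16, 17, 22, 23, 18, 19, 28, 29, 24, 25, 30, 31, 26, 27],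
  [0, 14, 2, 12, 4, 10, 6, 8, 7, 9, 5, 11, 3, 13, 1, 15, 27, 21, 25, 23, 31, 17, 29, 19, 28, 18, 30, 16, 24, 22, 26, 20, 38, 40, 36, 42, 34, 44, 32, 46, 33, 47, 35, 45, 37, 43, 39, 41, 61, 51, 63, 49, 57, 55, 59, 53, 58, 52, 56, 54, 62, 48, 60, 50],
  [0, 16, 6, 22, 4, 20, 2, 18, 25, 9, 31, 15, 29, 13, 27, 11, 1, 17, 7, 23, 5, 21, 3, 19, 24, 8, 30, 14, 28, 12, 26, 10, 53, 37, 51, 35, 49, 33, 55, 39, 44, 60, 42, 58, 40, 56, 46, 62, 52, 36, 50, 34, 48, 32, 54, 38, 45, 61, 43, 59, 41, 57, 47, 63],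
  [0, 14, 62, 48, 54, 56, 8, 6, 7, 9, 57, 55, 49, 63, 15, 1, 32, 46, 30, 16, 22, 24, 40, 38, 39, 41, 25, 23, 17, 31, 47, 33, 19, 29, 45, 35, 37, 43, 27, 21, 20, 26, 42, 36, 34, 44, 28, 18, 51, 61, 13, 3, 5, 11, 59, 53, 52, 58, 10, 4, 2, 12, 60, 50],
  [0, 1, 6, 7, 4, 5, 2, 3, 12, 13, 10, 11, 8, 9, 14, 15, 16, 17, 22, 23, 20, 21, 18, 19, 28, 29, 26, 27, 24, 25, 30, 31, 53, 52, 51, 50, 49, 48, 55, 54, 57, 56, 63, 62, 61, 60, 59, 58, 37, 36, 35, 34, 33, 32, 39, 38, 41, 40, 47, 46, 45, 44, 43, 42]]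

def cAL : List Bool := [false, false, true, true, true, true, true, true, true, false, true, false, true, false, false, false, false, true, true, false, true, true, true, false, true, true, true, false, true, true, true, true, false, true, true, false, true, true, false, true, true, true, false, true, true, true, true, true, true, true, false, true, true, false, true, false, true, true, true, true, true, true, true, false]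

def parAL : List Nat := [0, 0, 0, 7, 2, 3, 2, 8, 6, 0, 12, 0, 8, 0, 0, 0, 0, 21, 54, 0, 40, 39, 18, 0, 58, 8, 62, 0, 46, 25, 26, 29, 0, 39, 36, 0, 43, 36, 0, 54, 22, 60, 0, 62, 45, 60, 59, 62, 3, 12, 0, 49, 22, 0, 4, 0, 41, 29, 47, 54, 62, 49, 2, 0]

def genAL : List Nat := [0, 0, 0, 4, 0, 0, 2, 1, 3, 0, 0, 0, 4, 0, 0, 0, 0, 1, 0, 0, 3, 3, 4, 0, 0, 2, 0, 0, 3, 4, 1, 3, 0, 0, 1, 0, 3, 3, 0, 4, 3, 2, 0, 4, 3, 4, 4, 2, 3, 3, 0, 1, 0, 0, 3, 0, 4, 0, 4, 1, 1, 3, 3, 0]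

def rkAL : List Nat := [0, 0, 0, 4, 1, 5, 1, 3, 2, 0, 4, 0, 3, 0, 0, 0, 0, 5, 3, 0, 6, 4, 4, 0, 4, 3, 2, 0, 5, 4, 3, 5, 0, 4, 4, 0, 3, 4, 0, 3, 5, 3, 0, 2, 4, 3, 4, 2, 5, 4, 0, 5, 5, 0, 2, 0, 4, 5, 3, 3, 2, 5, 1, 0]

def cBL : List Bool := [false, true, false, false, false, false, false, false, false, true, false, true, false, true, true, true, true, false, false, true, false, false, false, true, false, false, false, true, false, false, false, false, true, false, false, true, false, false, true, false, false, false, true, false, false, false, false, false, false, false, true, false, false, true, false, true, false, false, false, false, false, false, false, true]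

def parBL : List Nat := [0, 0, 0, 0, 0, 0, 0, 0, 0, 13, 0, 15, 0, 50, 1, 14, 1, 0, 0, 32, 0, 0, 0, 27, 0, 0, 0, 14, 0, 0, 0, 0, 16, 0, 0, 50, 0, 0, 32, 0, 0, 0, 63, 0, 0, 0, 0, 0, 0, 0, 16, 0, 0, 32, 0, 11, 0, 0, 0, 0, 0, 0, 0, 27]

def genBL : List Nat := [0, 0, 0, 0, 0, 0, 0, 0, 0, 4, 0, 2, 0, 3, 1, 3, 2, 0, 0, 3, 0, 0, 0, 3, 0, 0, 0, 2, 0, 0, 0, 0, 3, 0, 0, 4, 0, 0, 0, 0, 0, 0, 4, 0, 0, 0, 0, 0, 0, 0, 0, 0, 0, 2, 0, 3, 0, 0, 0, 0, 0, 0, 0, 0]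

def rkBL : List Nat := [0, 0, 0, 0, 0, 0, 0, 0, 0, 4, 0, 3, 0, 3, 1, 2, 1, 0, 0, 3, 0, 0, 0, 3, 0, 0, 0, 2, 0, 0, 0, 0, 2, 0, 0, 3, 0, 0, 3, 0, 0, 0, 4, 0, 0, 0, 0, 0, 0, 0, 2, 0, 0, 3, 0, 4, 0, 0, 0, 0, 0, 0, 0, 3]

def dcKL : List (List Nat) := [
  [2, 5, 6, 5, 6, 3, 2, 3, 2, 3, 2, 3, 2, 3, 6, 3, 2, 5, 3, 2, 3, 2, 3, 2, 3, 2, 3, 3, 2, 5, 6, 5, 6, 3, 2, 3, 2, 3, 2, 3, 2, 3, 6, 3, 2, 5, 3, 2, 3, 2, 3, 2, 3, 2, 3, 3, 3],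
  [5, 6, 5, 6, 3, 2, 5, 3, 2, 3, 6, 1, 2, 3, 4, 5, 3, 2, 1, 6, 3, 2, 3, 5, 2, 3, 2, 1, 2, 1, 2, 5, 6, 5, 6, 3, 2, 5, 3, 2, 3, 6, 1, 2, 3, 4, 5, 3, 2, 1, 6, 3, 2, 3, 5, 2, 3, 2, 1, 2, 1, 2, 2, 1],
  [1, 0, 1, 6, 1, 3, 2, 3, 1, 1, 0, 1, 6, 1, 3, 2, 3, 1, 1, 0, 1, 6, 1, 3, 2, 3, 1, 1, 3],
  [2, 5, 6, 5, 6, 3, 2, 3, 2, 3, 2, 3, 2, 3, 6, 5, 6, 5, 6, 3, 2, 5, 3, 2, 3, 6, 1, 2, 3, 4, 5, 3, 2, 1, 6, 3, 2, 3, 5, 2, 3, 2, 5, 6, 5, 6, 3, 2, 3, 2, 3, 2, 3, 2, 3, 6, 5, 6, 5, 6, 3, 2, 5, 3, 2, 3, 6, 1, 2, 3, 4, 5, 3, 2, 1, 6, 3, 2, 3, 5, 2, 3, 3, 6, 2, 5, 3, 2, 3, 2, 3, 2, 3, 2, 3, 6, 3, 2, 5, 6, 5, 6, 3, 2, 3, 2, 3, 2, 3, 2, 3, 6, 5, 6, 5, 6, 3, 2, 5, 3, 2, 3, 6, 1, 2, 3, 4, 5, 3, 2, 1, 6, 3, 2, 3, 5, 2, 3, 2, 5, 6, 5, 6, 3, 2, 3, 2, 3, 2, 3, 2, 3, 6, 5, 6, 5, 6, 3, 2, 5, 3, 2,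 3, 6, 1, 2, 3, 4, 5, 3, 2, 1, 6, 3, 2, 3, 5, 2, 3, 3, 6, 2, 5, 3, 2, 3, 2, 3, 2, 3, 2, 3, 6, 3, 3, 6],
  [2, 5, 6, 5, 6, 3, 2, 3, 2, 3, 2, 3, 2, 3, 6, 1, 0, 1, 6, 2, 1, 2, 3, 2, 3, 2, 3, 2, 3, 2, 3, 1, 2, 2, 1],
  [5, 6, 5, 6, 3, 2, 5, 3, 2, 3, 6, 1, 2, 3, 4, 5, 3, 2, 1, 6, 3, 2, 3, 5, 2, 3, 1, 0, 1, 6, 2, 1, 2, 6, 5, 6, 1, 2, 5, 6, 5, 6, 3, 2, 5, 3, 2, 3, 6, 1, 2, 3, 4, 5, 3, 2, 1, 6, 3, 2, 3, 5, 2, 3, 1, 0, 1, 6, 2, 1, 2, 6, 5, 6, 1, 2, 2, 1]]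

def dcIL : List Nat := [11, 1, 1, 11, 9, 5]

def uV : List Nat := [3, 1, 2, 3, 2, 1]

def uD : List Nat := [3, 2, 3, 6]

def DLL : List (List Nat) := [
  [],
  [0],
  [1],
  [0, 1],
  [1, 0],
  [0, 1, 0],
  [1, 0, 1],
  [0, 1, 0, 1],
  [2],
  [0, 2],
  [1, 2],
  [0, 1, 2],
  [1, 0, 2],
  [0, 1, 0, 2],
  [1, 0, 1, 2],
  [0, 1, 0, 1, 2]]

def a3W : List Nat := [2, 1]

def b3W : List Nat := [3, 2, 3, 2, 3, 2, 3, 1, 2, 3, 2, 3, 2, 3, 1, 2, 3, 2, 3, 2, 3, 1]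

def t3W : List Nat := [1]

def u3 : List Nat := [6]

def a5W : List Nat := [2, 3, 2, 3]

def b5W : List Nat := [3, 2, 3, 2, 3, 1, 2, 3, 2, 3, 1, 2, 3, 2, 3, 1, 2, 3, 2, 3, 1, 2, 3, 2, 3, 1, 2, 3, 2, 3, 1, 2, 3, 2, 1, 5, 3, 2, 3, 5, 2, 3, 2, 3, 5, 2, 3, 2, 3, 2, 3, 2, 3, 2, 3, 1, 2, 3, 2, 3, 1, 2, 3, 2, 3, 1, 2, 3, 2, 3, 1, 2, 3, 2, 3, 1, 2, 3, 2, 3, 1, 2, 3, 2, 1]

def t5W : List Nat := [0]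

def ua5 : List Nat := [1]

def ub5 : List Nat := [1]

def a7W : List Nat := [1, 2, 2, 3, 1, 2, 3, 5, 2, 3, 6, 1, 2, 3, 5, 4, 3, 2, 1, 6, 5, 3, 2, 3, 5, 6, 3, 5, 2, 3, 2, 3, 5, 1, 2, 3, 4, 5, 3, 2, 1, 6, 3, 2, 5, 3, 2, 1, 3, 2, 2, 1]

def b7W : List Nat := [3, 1, 1, 2, 2, 3, 1, 2, 3, 5, 2, 3, 6, 1, 2, 3, 5, 4, 3, 2, 1, 6, 5, 3, 2, 3, 5, 6, 3, 5, 2, 3, 2, 3, 5, 1, 2, 3, 4, 5, 3, 2, 1, 6, 3, 2, 5, 3, 2, 1, 3, 2, 2, 1, 1, 3]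

def r7W : List Nat := [3, 2, 3, 2, 3, 1, 2, 3, 2, 3, 1, 2, 3, 2, 3, 1, 2, 3, 2, 3, 1, 2, 3, 2, 3, 1, 2, 3, 2, 3, 1, 2, 3, 2, 1]

def u7 : List Nat := []

end Cfsg.Agent.Lib.Helper70.HeM
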