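import Cfsg.Agent.Lib.Helper39.HeOrd
import Cfsg.Agent.Lib.Helper70.HeMData

/-! Kernel checks for the S2049 data (helper70): every check is `Bool`-valued and evaluated by the
kernel through helper39's base for the presented Held group (`chkB w = true` proves that the word `w`
is trivial in the group; `neB w w' = true` proves that the words `w`, `w'` are different elements). -/

set_option autoImplicit false
set_option maxRecDepth 1000000

namespace Cfsg.Agent.Lib.Helper70.HeM

open Cfsg.Agent.Lib.Helper39.HeOrd Cfsg.Agent.Lib.Helper38 Cfsg.Agent.Lib.Helper39.Ord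

/-- the word of the `k`-th basis element of `V` -/
def vW (k : ℕ) : List ℕ := vWL.getD k []

/-- the word of the element of `V` with coordinates the bits of `i` -/
def eW (i : ℕ) : List ℕ :=
  (if i.testBit 0 then vW 0 else []) ++ (if i.testBit 1 then vW 1 else []) ++
    (if i.testBit 2 then vW 2 else []) ++ (if i.testBit 3 then vW 3 else []) ++
    (if i.testBit 4 then vW 4 else []) ++ (if i.testBit 5 then vW 5 else [])

/-- a table as a map of `Fin 64` -/
def tabF (T : List ℕ) (i : Fin 64) : Fin 64 := Fin.ofNat 64 (T.getD i.val 0)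

/-- the indices of the basis -/
def basisF : List (Fin 64) := [1, 2, 4, 8, 16, 32]

/-- the word `n` acts on the basis of `V` as the table `T` says -/
noncomputable def cjB (n : List ℕ) (T : List ℕ) : Bool :=
  basisF.all (fun i => chkB (n ++ eW i.val ++ n.reverse ++ (eW (tabF T i).val).reverse))

/-- the words `w`, `w'` map the coset `0` to different cosets -/
noncomputable def neB (w w' : List ℕ) : Bool :=
  Nat.blt 0 He2058.cert.n && (Nat.blt (ev He2058.cert w 0) He2058.cert.n &&
    (Nat.blt (ev He2058.cert w' 0) He2058.cert.n &&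
      !(Nat.beq (ev He2058.cert w 0) (ev He2058.cert w' 0))))

/-- the `n`-fold repetition of a word -/
def rep : ℕ → List ℕ → List ℕ
  | 0, _ => []
  | n + 1, w => rep n w ++ w

def nW (j : ℕ) : List ℕ := nWL.getD j []
def nT (j : ℕ) : List ℕ := nTL.getD j []

/-- the six elements `s, t, r, (st)², sr, tr` -/
def dcX (j : ℕ) : List ℕ :=
  ([sW, tW, rW, sW ++ tW ++ (sW ++ tW), sW ++ rW, tW ++ rW] : List (List ℕ)).getD j []
def dcK (j : ℕ) : List ℕ := dcKL.getD j []
def dcIF (j : ℕ) : Fin 64 := Fin.ofNat 64 (dcIL.getD j 0)

/-- the generators `s, t, r` of `D` by number -/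
def dLet (c : ℕ) : List ℕ := if c = 0 then sW else if c = 1 then tW else rW

/-- a word in `s, t, r` as a word in the generators -/
def dWd : List ℕ → List ℕ
  | [] => []
  | c :: L => dLet c ++ dWd L

/-- the images of the coset `uD · 0` under the sixteen elements of `D` -/
noncomputable def dPts : List ℕ := DLL.map (fun L => ev He2058.cert (dWd L ++ uD) 0)

def c3W : List ℕ := a3W ++ b3W ++ a3W.reverse ++ b3W.reverse
def c7W : List ℕ := a7W ++ b7W ++ a7W.reverse ++ b7W.reverse

/-! ### The subgroup `V` -/

theorem chk_v2 : (List.range 6).all (fun k => chkB (vW k ++ vW k)) = true := by decide +kernel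

theorem chk_vc : (List.range 6).all (fun k => (List.range 6).all (fun l =>
    chkB (vW k ++ vW l ++ (vW l ++ vW k).reverse))) = true := by decide +kernel

theorem chk_e1 : (List.range 64).all (fun i => Nat.beq i 0 || neB (eW i ++ uV) uV) = true := by
  decide +kernel

/-! ### `y`, `s`, `t`, `r` -/

theorem chk_y3 : chkB (yW ++ yW ++ yW) = true := by decide +kernel
theorem chk_yb : cjB yW yT = true := by decide +kernel
theorem chk_sb : cjB sW sT = true := by decide +kernel
theorem chk_tb : cjB tW tT = true := by decide +kernel
theorem chk_rb : cjB rW rT = true := by decide +kernel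
theorem chk_sy : chkB (sW ++ yW ++ sW.reverse ++ yW.reverse) = true := by decide +kernel
theorem chk_ty : chkB (tW ++ yW ++ tW.reverse ++ yW.reverse) = true := by decide +kernel
theorem chk_ry : chkB (rW ++ yW ++ rW.reverse ++ yW.reverse.reverse) = true := by decide +kernel

/-! ### Further elements of the normaliser of `V` -/

theorem chk_nb : (List.range 5).all (fun j => cjB (nW j) (nT j)) = true := by decide +kernel

/-! ### Conjugacy of the involutions of `D` into `V` -/

theorem chk_dc : (List.range 6).all (fun j =>
    chkB (dcK j ++ eW (dcIF j).val ++ (dcK j).reverse ++ (dcX j).reverse)) = true := by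
  decide +kernel

/-! ### The order of `D` -/

theorem chk_dnd : dPts.Nodup := by decide +kernel
theorem chk_dlt : ∀ n ∈ dPts, n < He2058.cert.n := by decide +kernel

/-! ### The prime 3 -/

theorem chk_3a : chkB (a3W ++ a3W ++ a3W) = true := by decide +kernel
theorem chk_3b : chkB (b3W ++ b3W ++ b3W) = true := by decide +kernel
theorem chk_3ca : chkB (c3W ++ a3W ++ (a3W ++ c3W).reverse) = true := by decide +kernel
theorem chk_3cb : chkB (c3W ++ b3W ++ (b3W ++ c3W).reverse) = true := by decide +kernel
theorem chk_3c1 : neB (c3W ++ u3) u3 = true := by decide +kernel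
theorem chk_3ta : chkB (t3W ++ a3W ++ t3W.reverse ++ a3W.reverse.reverse) = true := by
  decide +kernel
theorem chk_3tb : chkB (t3W ++ b3W ++ t3W.reverse ++ b3W.reverse.reverse) = true := by
  decide +kernel

/-! ### The prime 5 -/

theorem chk_5a : chkB (rep 5 a5W) = true := by decide +kernel
theorem chk_5b : chkB (rep 5 b5W) = true := by decide +kernel
theorem chk_5a1 : neB (a5W ++ ua5) ua5 = true := by decide +kernel
theorem chk_5b1 : neB (b5W ++ ub5) ub5 = true := by decide +kernel
theorem chk_5ab : chkB (a5W ++ b5W ++ (b5W ++ a5W).reverse) = true := by decide +kernel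
theorem chk_5ta : chkB (t5W ++ a5W ++ t5W.reverse ++ a5W.reverse) = true := by decide +kernel
theorem chk_5tb : chkB (t5W ++ b5W ++ t5W.reverse ++ b5W.reverse.reverse) = true := by
  decide +kernel

/-! ### The prime 7 -/

theorem chk_7a : chkB (rep 7 a7W) = true := by decide +kernel
theorem chk_7b : chkB (rep 7 b7W) = true := by decide +kernel
theorem chk_7ca : chkB (c7W ++ a7W ++ (a7W ++ c7W).reverse) = true := by decide +kernel
theorem chk_7cb : chkB (c7W ++ b7W ++ (b7W ++ c7W).reverse) = true := by decide +kernel
theorem chk_7c1 : neB (c7W ++ u7) u7 = true := by decide +kernel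
theorem chk_7ra : chkB (r7W ++ a7W ++ r7W.reverse ++ (rep 2 a7W).reverse) = true := by
  decide +kernel
theorem chk_7rb : chkB (r7W ++ b7W ++ r7W.reverse ++ (rep 4 b7W).reverse) = true := by
  decide +kernel

end Cfsg.Agent.Lib.Helper70.HeM
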