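import Mathlib
import Cfsg.Agent.Lib.Helper89.TabMathieu
import Cfsg.Agent.Lib.Helper95.TabGroup
import Cfsg.Agent.Lib.Helper70.SchurTwoC

set_option autoImplicit false

/-!
# Local analysis of central extensions of permutation groups on the 24 points, on tables (helper70)

Table versions (helper9 / helper95 / helper89 tables) of the lemmas of `SchurTwoA`, `SchurTwoB`,
`SchurTwoC`: the hypotheses become Boolean checks on lists of tables.
-/

namespace Cfsg.Agent.Lib.Helper70

open Cfsg Cfsg.Agent.Lib.Helper9 Cfsg.Agent.Lib.Helper95 Cfsg.Agent.Lib.Helper89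

/-- The table of the conjugate `k * x * k⁻¹`. -/
def conjT (k x : List ℕ) : List ℕ := compT (compT k x) (invT k)

theorem permOK_conjT {k x : List ℕ} (hk : permOK k = true) (hx : permOK x = true) :
    permOK (conjT k x) = true :=
  permOK_compT (permOK_compT hk hx) (permOK_invT hk)

theorem tperm_conjT {k x : List ℕ} (hk : permOK k = true) (hx : permOK x = true) :
    tperm (conjT k x) = tperm k * tperm x * (tperm k)⁻¹ := by
  unfold conjT
  rw [← tperm_mul (permOK_compT hk hx) (permOK_invT hk), ← tperm_mul hk hx, tperm_inv hk]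

/-- Every table of `L` is the identity or conjugate, by a table of `K` passing `inH`, to a table of `X`. -/
def conjOK (inH : List ℕ → Bool) (X K L : List (List ℕ)) : Bool :=
  L.all (fun a => a == idT || K.any (fun k => inH k && X.any (fun x => conjT k x == a)))

/-- Every table of `L` is conjugate, by a table of `K` passing `inH`, to `x`. -/
def conjAll (inH : List ℕ → Bool) (x : List ℕ) (K L : List (List ℕ)) : Bool :=
  L.all (fun a => K.any (fun k => inH k && conjT k x == a))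

theorem tgGrp_pair (a b : List ℕ) :
    tgGrp [a, b] = Subgroup.closure ({tperm a, tperm b} : Set (Equiv.Perm GolayPt)) := by
  unfold tgGrp
  congr 1
  ext σ
  simp only [List.mem_cons, List.not_mem_nil, or_false, Set.mem_ofPred_eq, Set.mem_insert_iff,
    Set.mem_singleton_iff]
  constructor
  · rintro ⟨g, rfl | rfl, rfl⟩
    · left; rfl
    · right; rfl
  · rintro (rfl | rfl)
    · exact ⟨a, Or.inl rfl, rfl⟩
    · exact ⟨b, Or.inr rfl, rfl⟩

theorem tgGrp_triple (r a b : List ℕ) :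
    tgGrp [r, a, b] =
      Subgroup.closure (insert (tperm r) ({tperm a, tperm b} : Set (Equiv.Perm GolayPt))) := by
  unfold tgGrp
  congr 1
  ext σ
  simp only [List.mem_cons, List.not_mem_nil, or_false, Set.mem_ofPred_eq, Set.mem_insert_iff,
    Set.mem_singleton_iff]
  constructor
  · rintro ⟨g, rfl | rfl | rfl, rfl⟩
    · left; rfl
    · right; left; rfl
    · right; right; rfl
  · rintro (rfl | rfl | rfl)
    · exact ⟨r, Or.inl rfl, rfl⟩
    · exact ⟨a, Or.inr (Or.inl rfl), rfl⟩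
    · exact ⟨b, Or.inr (Or.inr rfl), rfl⟩

theorem tgGrp_append (g₁ g₂ : List (List ℕ)) : tgGrp (g₁ ++ g₂) = tgGrp g₁ ⊔ tgGrp g₂ := by
  unfold tgGrp
  rw [← Subgroup.closure_union]
  congr 1
  ext σ
  simp only [List.mem_append, Set.mem_ofPred_eq, Set.mem_union]
  constructor
  · rintro ⟨g, hg | hg, rfl⟩
    · left; exact ⟨g, hg, rfl⟩
    · right; exact ⟨g, hg, rfl⟩
  · rintro (⟨g, hg, rfl⟩ | ⟨g, hg, rfl⟩)
    · exact ⟨g, Or.inl hg, rfl⟩
    · exact ⟨g, Or.inr hg, rfl⟩

section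

variable {Γ : Type*} [Group Γ]

/-- A central extension onto a group of permutations whose elements are recognised on tables by `inH`. -/
structure TabExt (σ : Γ →* Equiv.Perm GolayPt) (inH : List ℕ → Bool) : Prop where
  central : σ.ker ≤ Subgroup.center Γ
  range : ∀ g, inH g = true → permOK g = true ∧ tperm g ∈ σ.range

variable {σ : Γ →* Equiv.Perm GolayPt} {inH : List ℕ → Bool}

theorem tabExt_of_surjective {H : Subgroup (Equiv.Perm GolayPt)}
    (hin : ∀ g, inH g = true → permOK g = true ∧ tperm g ∈ H) (τ : Γ →* ↥H)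
    (hs : Function.Surjective τ) (hc : τ.ker ≤ Subgroup.center Γ) :
    TabExt (H.subtype.comp τ) inH := by
  refine ⟨?_, ?_⟩
  · intro x hx
    apply hc
    rw [MonoidHom.mem_ker] at hx ⊢
    apply Subtype.ext
    exact hx
  · intro g hg
    obtain ⟨h1, h2⟩ := hin g hg
    refine ⟨h1, ?_⟩
    obtain ⟨γ, hγ⟩ := hs ⟨tperm g, h2⟩
    exact MonoidHom.mem_range.mpr ⟨γ, by
      show ((τ γ : ↥H) : Equiv.Perm GolayPt) = tperm g
      rw [hγ]⟩

theorem tperm_sq {x : List ℕ} (hx : permOK x = true) (h : compT x x = idT) :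
    tperm x * tperm x = 1 := by
  rw [tperm_mul hx hx, h, tperm_idT]

theorem TabExt.qOne_of_ok (C : TabExt σ inH) (h2 : ∀ ζ ∈ σ.ker, ζ * ζ = 1) {X K L : List (List ℕ)}
    (hX : ∀ x ∈ X, inH x = true ∧ compT x x = idT ∧ QOne σ (tperm x))
    (h : conjOK inH X K L = true) : ∀ a ∈ L, QOne σ (tperm a) := by
  intro a ha
  unfold conjOK at h
  have h1 := List.all_eq_true.mp h a ha
  rw [Bool.or_eq_true] at h1
  rcases h1 with h1 | h1
  · rw [beq_iff_eq] at h1
    rw [h1, tperm_idT]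
    exact qOne_one h2
  · obtain ⟨k, -, hk⟩ := List.any_eq_true.mp h1
    rw [Bool.and_eq_true] at hk
    obtain ⟨hk1, hk2⟩ := hk
    obtain ⟨x, hx, hxa⟩ := List.any_eq_true.mp hk2
    rw [beq_iff_eq] at hxa
    obtain ⟨hxin, hxsq, hxq⟩ := hX x hx
    obtain ⟨hkok, hkr⟩ := C.range k hk1
    obtain ⟨hxok, hxr⟩ := C.range x hxin
    rw [← hxa, tperm_conjT hkok hxok]
    exact qOne_conj C.central h2 (tperm_sq hxok hxsq) hxq hxr hkr

theorem TabExt.exists_conj (C : TabExt σ inH) {x : List ℕ} (hx : inH x = true) {K L : List (List ℕ)}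
    (h : conjAll inH x K L = true) {a : List ℕ} (ha : a ∈ L) :
    ∃ k ∈ σ.range, tperm a = k * tperm x * k⁻¹ := by
  unfold conjAll at h
  have h1 := List.all_eq_true.mp h a ha
  obtain ⟨k, -, hk⟩ := List.any_eq_true.mp h1
  rw [Bool.and_eq_true, beq_iff_eq] at hk
  obtain ⟨hk1, hk2⟩ := hk
  obtain ⟨hkok, hkr⟩ := C.range k hk1
  exact ⟨tperm k, hkr, by rw [← hk2, tperm_conjT hkok (C.range x hx).1]⟩

/-- Seven conjugates of `x0` forming, with the identity, a group of order 8: every lift of `x0` squares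
to one. -/
theorem TabExt.qOne_seven (C : TabExt σ inH) (h2 : ∀ ζ ∈ σ.ker, ζ * ζ = 1) {x0 u1 u2 u3 : List ℕ}
    {K : List (List ℕ)} (hx0 : inH x0 = true) (hx0sq : compT x0 x0 = idT)
    (hu1 : permOK u1 = true) (hu2 : permOK u2 = true) (hu3 : permOK u3 = true)
    (c12 : compT u1 u2 = compT u2 u1) (c13 : compT u1 u3 = compT u3 u1)
    (c23 : compT u2 u3 = compT u3 u2)
    (h : conjAll inH x0 K [u1, u2, u3, compT u1 u2, compT u1 u3, compT u2 u3,
      compT (compT u1 u2) u3] = true) : QOne σ (tperm x0) := by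
  obtain ⟨hx0ok, hx0r⟩ := C.range x0 hx0
  have e12 : tperm u1 * tperm u2 = tperm (compT u1 u2) := tperm_mul hu1 hu2
  have e13 : tperm u1 * tperm u3 = tperm (compT u1 u3) := tperm_mul hu1 hu3
  have e23 : tperm u2 * tperm u3 = tperm (compT u2 u3) := tperm_mul hu2 hu3
  have e123 : tperm u1 * tperm u2 * tperm u3 = tperm (compT (compT u1 u2) u3) := by
    rw [e12, tperm_mul (permOK_compT hu1 hu2) hu3]
  apply qOne_of_seven_conj C.central h2 (tperm_sq hx0ok hx0sq) hx0r
    (u₁ := tperm u1) (u₂ := tperm u2) (u₃ := tperm u3)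
  · rw [e12, c12, ← tperm_mul hu2 hu1]
  · rw [e13, c13, ← tperm_mul hu3 hu1]
  · rw [e23, c23, ← tperm_mul hu3 hu2]
  · exact C.exists_conj hx0 h (by simp)
  · exact C.exists_conj hx0 h (by simp)
  · exact C.exists_conj hx0 h (by simp)
  · rw [e12]; exact C.exists_conj hx0 h (by simp)
  · rw [e13]; exact C.exists_conj hx0 h (by simp)
  · rw [e23]; exact C.exists_conj hx0 h (by simp)
  · rw [e123]; exact C.exists_conj hx0 h (by simp)

/-- Six of the seven involutions of a group of order 8 only have lifts squaring to one: so has the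
seventh. -/
theorem TabExt.qOne_six (C : TabExt σ inH) (h2 : ∀ ζ ∈ σ.ker, ζ * ζ = 1) {u1 u2 u3 : List ℕ}
    (hu1 : inH u1 = true) (hu2 : inH u2 = true) (hu3 : inH u3 = true)
    (s1 : compT u1 u1 = idT) (s2 : compT u2 u2 = idT) (s3 : compT u3 u3 = idT)
    (c12 : compT u1 u2 = compT u2 u1) (c13 : compT u1 u3 = compT u3 u1)
    (c23 : compT u2 u3 = compT u3 u2)
    (q1 : QOne σ (tperm u1)) (q2 : QOne σ (tperm u2)) (q3 : QOne σ (tperm u3))
    (q12 : QOne σ (tperm (compT u1 u2))) (q13 : QOne σ (tperm (compT u1 u3)))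
    (q23 : QOne σ (tperm (compT u2 u3))) : QOne σ (tperm (compT (compT u1 u2) u3)) := by
  obtain ⟨o1, r1⟩ := C.range u1 hu1
  obtain ⟨o2, r2⟩ := C.range u2 hu2
  obtain ⟨o3, r3⟩ := C.range u3 hu3
  have e12 : tperm u1 * tperm u2 = tperm (compT u1 u2) := tperm_mul o1 o2
  have e13 : tperm u1 * tperm u3 = tperm (compT u1 u3) := tperm_mul o1 o3
  have e23 : tperm u2 * tperm u3 = tperm (compT u2 u3) := tperm_mul o2 o3
  have e123 : tperm u1 * tperm u2 * tperm u3 = tperm (compT (compT u1 u2) u3) := by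
    rw [e12, tperm_mul (permOK_compT o1 o2) o3]
  rw [← e123]
  apply qOne_of_six C.central h2 r1 r2 r3 (tperm_sq o1 s1) (tperm_sq o2 s2) (tperm_sq o3 s3)
  · rw [e12, c12, ← tperm_mul o2 o1]
  · rw [e13, c13, ← tperm_mul o3 o1]
  · rw [e23, c23, ← tperm_mul o3 o2]
  · exact q1
  · exact q2
  · exact q3
  · rw [e12]; exact q12
  · rw [e13]; exact q13
  · rw [e23]; exact q23

/-- The main theorem at the prime 2, on tables. -/
theorem TabExt.two_local (C : TabExt σ inH) (h2 : ∀ ζ ∈ σ.ker, ζ * ζ = 1)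
    {gV gD LV LD : List (List ℕ)} (DV : TgData gV LV) (DD : TgData gD LD) {yT : List ℕ}
    (hy : inH yT = true) (hy3 : compT yT (compT yT yT) = idT) (hgV : gV.all inH = true)
    (hVQ : ∀ a ∈ LV, QOne σ (tperm a))
    (hyV : LV.all (fun a => LV.contains (conjT yT a)) = true)
    (hfix : LV.all (fun a => a == idT || conjT yT a != a) = true)
    (hDV : LD.all (fun d => LV.all (fun a => LV.contains (conjT d a))) = true)
    (hDy : LD.all (fun d => conjT d yT == yT || conjT d yT == invT yT) = true)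
    (D₁ : Subgroup Γ) (hD₁ : D₁.map σ = tgGrp gD) (hD₁k : ∀ g ∈ D₁, g ∈ σ.ker → g = 1) :
    ∀ a ∈ ⁅(tgGrp (gV ++ gD)).comap σ, (tgGrp (gV ++ gD)).comap σ⁆, a ∈ σ.ker → a = 1 := by
  obtain ⟨hyok, hyr⟩ := C.range yT hy
  rw [tgGrp_append]
  apply Helper70.two_local C.central h2 (tgGrp gV) (tgGrp gD) (tperm yT) ?_ hyr ?_ ?_ ?_ ?_ ?_ ?_ D₁
    hD₁ hD₁k
  · exact tgGrp_le _ (fun g hg => (C.range g (List.all_eq_true.mp hgV g hg)).2)
  · intro v hv
    obtain ⟨a, ha, rfl⟩ := DV.exists_elem hv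
    exact hVQ a ha
  · rw [mul_assoc, tperm_mul hyok hyok, tperm_mul hyok (permOK_compT hyok hyok), hy3, tperm_idT]
  · intro v hv
    obtain ⟨a, ha, rfl⟩ := DV.exists_elem hv
    rw [← tperm_conjT hyok (DV.ok a ha)]
    have h1 := List.all_eq_true.mp hyV a ha
    exact DV.mem_grp (List.contains_iff_mem.mp h1)
  · intro v hv hvy
    obtain ⟨a, ha, rfl⟩ := DV.exists_elem hv
    rw [← tperm_conjT hyok (DV.ok a ha)] at hvy
    have h1 := List.all_eq_true.mp hfix a ha
    rw [Bool.or_eq_true] at h1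
    rcases h1 with h1 | h1
    · rw [beq_iff_eq] at h1
      rw [h1, tperm_idT]
    · exfalso
      have h3 := tg_tperm_inj (permOK_conjT hyok (DV.ok a ha)) (DV.ok a ha) hvy
      rw [bne_iff_ne] at h1
      exact h1 h3
  · intro d hd v hv
    obtain ⟨b, hb, rfl⟩ := DD.exists_elem hd
    obtain ⟨a, ha, rfl⟩ := DV.exists_elem hv
    rw [← tperm_conjT (DD.ok b hb) (DV.ok a ha)]
    have h1 := List.all_eq_true.mp (List.all_eq_true.mp hDV b hb) a ha
    exact DV.mem_grp (List.contains_iff_mem.mp h1)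
  · intro d hd
    obtain ⟨b, hb, rfl⟩ := DD.exists_elem hd
    rw [← tperm_conjT (DD.ok b hb) hyok]
    have h1 := List.all_eq_true.mp hDy b hb
    rw [Bool.or_eq_true, beq_iff_eq, beq_iff_eq] at h1
    rcases h1 with h1 | h1
    · left; rw [h1]
    · right; rw [h1, tperm_inv hyok]

/-- Lift of a dihedral group of order 8, on tables. -/
theorem TabExt.lift_dihedral (C : TabExt σ inH) {sT tT : List ℕ} {LD : List (List ℕ)}
    (DD : TgData [sT, tT] LD) (hnd : LD.Nodup) (hlen : 8 ≤ LD.length) (hs : inH sT = true)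
    (ht : inH tT = true) (qs : QOne σ (tperm sT)) (qt : QOne σ (tperm tT))
    (qst : QOne σ (tperm (compT (compT sT tT) (compT sT tT)))) :
    ∃ D₁ : Subgroup Γ, D₁.map σ = tgGrp [sT, tT] ∧ ∀ g ∈ D₁, g ∈ σ.ker → g = 1 := by
  obtain ⟨hsok, hsr⟩ := C.range sT hs
  obtain ⟨htok, htr⟩ := C.range tT ht
  have hst := permOK_compT hsok htok
  have hcard := DD.card hnd
  rw [tgGrp_pair] at hcard ⊢
  apply exists_lift_dihedral hsr htr qs qt
  · rw [tperm_mul hsok htok, tperm_mul hst hst]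
    exact qst
  · rw [hcard]; exact hlen

/-- Lift of a group `⟨s, t⟩ × ⟨r⟩` of order 16, on tables. -/
theorem TabExt.lift_dihedral_two (C : TabExt σ inH) {rT sT tT : List ℕ} {LD : List (List ℕ)}
    (DD : TgData [rT, sT, tT] LD) (hnd : LD.Nodup) (hlen : 16 ≤ LD.length) (hr : inH rT = true)
    (hs : inH sT = true) (ht : inH tT = true) (qr : QOne σ (tperm rT)) (qs : QOne σ (tperm sT))
    (qt : QOne σ (tperm tT)) (qst : QOne σ (tperm (compT (compT sT tT) (compT sT tT))))
    (qsr : QOne σ (tperm (compT sT rT))) (qtr : QOne σ (tperm (compT tT rT))) :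
    ∃ D₁ : Subgroup Γ, D₁.map σ = tgGrp [rT, sT, tT] ∧ ∀ g ∈ D₁, g ∈ σ.ker → g = 1 := by
  obtain ⟨hrok, hrr⟩ := C.range rT hr
  obtain ⟨hsok, hsr⟩ := C.range sT hs
  obtain ⟨htok, htr⟩ := C.range tT ht
  have hst := permOK_compT hsok htok
  have hcard := DD.card hnd
  rw [tgGrp_triple] at hcard ⊢
  apply exists_lift_dihedral_two hsr htr hrr qs qt qr
  · rw [tperm_mul hsok htok, tperm_mul hst hst]
    exact qst
  · rw [tperm_mul hsok hrok]; exact qsr
  · rw [tperm_mul htok hrok]; exact qtr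
  · rw [hcard]; exact hlen

/-- The prime 3 for an elementary abelian group of order 9, on tables. -/
theorem TabExt.three_abelian (C : TabExt σ inH) {aT bT tT : List ℕ} (ha : inH aT = true)
    (hb : inH bT = true) (ht : inH tT = true) (ha3 : compT aT (compT aT aT) = idT)
    (hab : compT aT bT = compT bT aT) (hta : conjT tT aT = aT) (htb : conjT tT bT = invT bT) :
    ∀ x ∈ ⁅(tgGrp [aT, bT]).comap σ, (tgGrp [aT, bT]).comap σ⁆, x = 1 := by
  obtain ⟨haok, har⟩ := C.range aT ha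
  obtain ⟨hbok, hbr⟩ := C.range bT hb
  obtain ⟨htok, htr⟩ := C.range tT ht
  rw [tgGrp_pair]
  apply three_local_abelian C.central har hbr htr
  · rw [mul_assoc, tperm_mul haok haok, tperm_mul haok (permOK_compT haok haok), ha3, tperm_idT]
  · rw [tperm_mul haok hbok, hab, ← tperm_mul hbok haok]
  · rw [← tperm_conjT htok haok, hta]
  · rw [← tperm_conjT htok hbok, htb, tperm_inv hbok]

end

/-- Transfer of the local condition to a subgroup of the permutation group. -/
theorem local_of_tab {H : Subgroup (Equiv.Perm GolayPt)} [Finite H] {gens L : List (List ℕ)}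
    (D : TgData gens L) (hnd : L.Nodup) (hle : tgGrp gens ≤ H) (ℓ n : ℕ) (hn : Nat.card H = n)
    (hpos : 0 < L.length) (hℓ : ¬ ℓ ∣ n / L.length) {Γ : Type*} [Group Γ] (τ : Γ →* ↥H)
    (h : ∀ a ∈ ⁅(tgGrp gens).comap (H.subtype.comp τ), (tgGrp gens).comap (H.subtype.comp τ)⁆,
      a ∈ (H.subtype.comp τ).ker → a = 1) :
    ∃ U : Subgroup ↥H, ¬ ℓ ∣ U.index ∧ ∀ a ∈ ⁅U.comap τ, U.comap τ⁆, a ∈ τ.ker → a = 1 := by
  let U : Subgroup ↥H := (tgGrp gens).subgroupOf H
  let e : ↥U ≃* ↥(tgGrp gens) := Subgroup.subgroupOfEquivOfLe hle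
  have hcard : Nat.card U = L.length := by rw [Nat.card_congr e.toEquiv, D.card hnd]
  have hidx : U.index = n / L.length := by
    have h1 := Subgroup.card_mul_index U
    rw [hcard, hn] at h1
    exact (Nat.div_eq_of_eq_mul_right hpos h1.symm).symm
  refine ⟨U, by rw [hidx]; exact hℓ, ?_⟩
  intro a ha hak
  apply h a ha
  rw [MonoidHom.mem_ker] at hak ⊢
  show ((τ a : ↥H) : Equiv.Perm GolayPt) = 1
  rw [hak]; rfl

/-- A Sylow subgroup of prime order is cyclic: the local condition holds. -/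
theorem local_of_sq_not_dvd {G : Type*} [Group G] [Finite G] (ℓ : ℕ) [Fact ℓ.Prime]
    (hsq : ¬ ℓ ^ 2 ∣ Nat.card G) {Γ : Type*} [Group Γ] (τ : Γ →* G)
    (hc : τ.ker ≤ Subgroup.center Γ) :
    ∃ U : Subgroup G, ¬ ℓ ∣ U.index ∧ ∀ a ∈ ⁅U.comap τ, U.comap τ⁆, a ∈ τ.ker → a = 1 := by
  let R : Sylow ℓ G := default
  have hcyc : IsCyclic R := by
    obtain ⟨n, hn⟩ := IsPGroup.iff_card.mp R.isPGroup'
    have hdvd : Nat.card R ∣ Nat.card G := Subgroup.card_subgroup_dvd_card _
    have hn1 : n ≤ 1 := by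
      by_contra hlt
      have hlt' : 2 ≤ n := by omega
      exact hsq ((pow_dvd_pow ℓ hlt').trans (hn ▸ hdvd))
    interval_cases n
    · have : Subsingleton R := (Nat.card_eq_one_iff_unique.mp (by simpa using hn)).1
      exact isCyclic_of_subsingleton
    · exact isCyclic_of_prime_card (p := ℓ) (by simpa using hn)
  refine ⟨R, R.not_dvd_index, ?_⟩
  have hbot := commutator_comap_eq_bot_of_isCyclic τ hc (R : Subgroup G)
  intro a ha _
  rw [hbot] at ha
  exact Subgroup.mem_bot.mp ha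

end Cfsg.Agent.Lib.Helper70
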