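import Cfsg.Agent.Lib.Helper70.HeMChk
import Cfsg.Agent.Lib.Helper70.SchurTwoE
import Cfsg.Agent.Lib.Helper70.TabLocal
import Cfsg.Agent.Lib.Helper37.J2MTHREE
import Cfsg.Agent.Lib.Helper73.J2MFIVE
import Cfsg.Agent.Lib.Helper19.HeMSEVEN
import Cfsg.Agent.Lib.Helper6.HeMXOR
import Cfsg.Agent.Lib.Helper85.HeMLIN
import Cfsg.Agent.Lib.Helper56.HeMORBIT
import Cfsg.Agent.Lib.Helper16.HeMQV
import Cfsg.Agent.Lib.Helper63.HeMTWO
import Cfsg.Agent.Lib.Helper60.HeMCARD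

/-! The Schur multiplier of the presented Held group is trivial (helper70, for S2049).

The local criterion `hasCyclicSchurMultiplier_one_of_local_exp` is applied prime by prime:
* `2`: `V = 2^6` inside `C(⟨a, a'⟩) = ⟨c, d, f, g⟩`, an element `y` of order 3 of its normaliser
  `2^6:3·S6` acting fixed point freely, and `D = ⟨s, t⟩ × ⟨r⟩` of order 16 normalising `V` and `⟨y⟩`;
* `3`: an extraspecial `3^{1+2}` inside `⟨b, c, d⟩ = 3·S7`, inverted by `b`;
* `5`: `⟨(cd)², b5⟩` of order 25 with `a` centralising `(cd)²` and inverting `b5`;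
* `7`: an extraspecial `7^{1+2}` with the central element of order 3 of `⟨b, c, d⟩'` acting;
* other primes: the Sylow subgroup is cyclic.
All identities between words are checked through helper39's base (file `HeMChk`). -/

set_option autoImplicit false
set_option maxRecDepth 100000

open scoped commutatorElement

namespace Cfsg.Agent.Lib.Helper70.HeM

open Cfsg.Agent.Lib.Helper39.HeOrd Cfsg.Agent.Lib.Helper38 Cfsg.Agent.Lib.Helper39.Ord
open Cfsg.Agent.Lib.Helper70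
open Cfsg.Agent.Lib.Helper6.HeMXOR (eOf eOf_xor)

/-- the element of a word -/
noncomputable def Wd (w : List ℕ) : G := (w.map γ).prod

theorem Wd_nil : Wd [] = 1 := by simp [Wd]

theorem Wd_append (u v : List ℕ) : Wd (u ++ v) = Wd u * Wd v := by simp [Wd]

theorem Wd_reverse (u : List ℕ) : Wd u.reverse = (Wd u)⁻¹ := prod_reverse_inv hγ u

theorem Wd_one {w : List ℕ} (h : chkB w = true) : Wd w = 1 := word_one w h

theorem Wd_eq {u v : List ℕ} (h : chkB (u ++ v.reverse) = true) : Wd u = Wd v := by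
  have h1 := Wd_one h
  rw [Wd_append, Wd_reverse] at h1
  exact mul_inv_eq_one.mp h1

theorem Wd_conj {n w w' : List ℕ} (h : chkB (n ++ w ++ n.reverse ++ w'.reverse) = true) :
    Wd n * Wd w * (Wd n)⁻¹ = Wd w' := by
  have h1 := Wd_eq (u := n ++ w ++ n.reverse) h
  rwa [Wd_append, Wd_append, Wd_reverse] at h1

theorem Wd_smul (w : List ℕ) (h0 : 0 < He2058.cert.n) (h : ev He2058.cert w 0 < He2058.cert.n) :
    Wd w • F1 0 = F1 (ev He2058.cert w 0) := ev_smul hA1 w 0 h0 h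

theorem Wd_ne {w w' : List ℕ} (h : neB w w' = true) : Wd w ≠ Wd w' := by
  unfold neB at h
  simp only [Bool.and_eq_true, Bool.not_eq_true', Nat.blt_eq] at h
  obtain ⟨h0, h1, h2, h3⟩ := h
  intro heq
  have e1 := Wd_smul w h0 h1
  have e2 := Wd_smul w' h0 h2
  rw [heq, e2] at e1
  exact Nat.ne_of_beq_eq_false h3 (hA1.inj _ h1 _ h2 e1.symm)

theorem Wd_rep (w : List ℕ) (n : ℕ) : Wd (rep n w) = Wd w ^ n := by
  induction n with
  | zero => simp [rep, Wd_nil]
  | succ n ih => rw [rep, Wd_append, ih, pow_succ]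

theorem Wd_ite (c : Bool) (w : List ℕ) :
    Wd (if c = true then w else []) = if c = true then Wd w else 1 := by
  cases c <;> simp [Wd_nil]

/-! ### The subgroup `V` -/

/-- the basis of `V` -/
noncomputable def v (k : Fin 6) : G := Wd (vW k.val)

/-- the elements of `V` -/
noncomputable def e : Fin 64 → G := eOf v

theorem e_eq (i : Fin 64) : e i = Wd (eW i.val) := by
  unfold e eOf eW
  simp only [Wd_append, Wd_ite]
  rfl

theorem hv2 : ∀ k : Fin 6, v k * v k = 1 := by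
  intro k
  have h := List.all_eq_true.mp chk_v2 k.val (List.mem_range.mpr k.isLt)
  have h1 := Wd_one h
  rwa [Wd_append] at h1

theorem hvc : ∀ k l : Fin 6, v k * v l = v l * v k := by
  intro k l
  have h := List.all_eq_true.mp (List.all_eq_true.mp chk_vc k.val (List.mem_range.mpr k.isLt))
    l.val (List.mem_range.mpr l.isLt)
  have h1 := Wd_eq h
  rwa [Wd_append, Wd_append] at h1

theorem hmul : ∀ i j, e i * e j = e (i ^^^ j) := fun i j => eOf_xor v hv2 hvc i j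

theorem he1 : ∀ i, e i = 1 → i = 0 := by
  intro i hi
  have h := List.all_eq_true.mp chk_e1 i.val (List.mem_range.mpr i.isLt)
  rw [Bool.or_eq_true] at h
  rcases h with h | h
  · exact Fin.ext (Nat.eq_of_beq_eq_true h)
  · exfalso
    apply Wd_ne h
    rw [Wd_append, ← e_eq, hi, one_mul]

theorem e_zero : e 0 = 1 := by
  have h := hmul 0 0
  have h0 : (0 : Fin 64) ^^^ 0 = 0 := by decide
  rw [h0] at h
  exact mul_left_cancel (a := e 0) (by rw [h, mul_one])

theorem xor_self64 : ∀ i : Fin 64, i ^^^ i = 0 := by decide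

theorem e_sq (i : Fin 64) : e i * e i = 1 := by rw [hmul, xor_self64, e_zero]

/-! ### Actions on `V` -/

theorem hb_of {n T : List ℕ} (h : cjB n T = true) :
    ∀ i ∈ ([1, 2, 4, 8, 16, 32] : List (Fin 64)), Wd n * e i * (Wd n)⁻¹ = e (tabF T i) := by
  intro i hi
  have h1 := List.all_eq_true.mp h i hi
  rw [e_eq, e_eq]
  exact Wd_conj h1

theorem act_of {n T : List ℕ} (h : cjB n T = true)
    (hl : ∀ i j : Fin 64, tabF T (i ^^^ j) = tabF T i ^^^ tabF T j) :
    ∀ i, Wd n * e i * (Wd n)⁻¹ = e (tabF T i) :=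
  Cfsg.Agent.Lib.Helper85.HeMLIN.conj_table_of_basis e hmul (Wd n) (tabF T) hl (hb_of h)

theorem lin_y : ∀ i j : Fin 64, tabF yT (i ^^^ j) = tabF yT i ^^^ tabF yT j := by decide +kernel
theorem lin_s : ∀ i j : Fin 64, tabF sT (i ^^^ j) = tabF sT i ^^^ tabF sT j := by decide +kernel
theorem lin_t : ∀ i j : Fin 64, tabF tT (i ^^^ j) = tabF tT i ^^^ tabF tT j := by decide +kernel
theorem lin_r : ∀ i j : Fin 64, tabF rT (i ^^^ j) = tabF rT i ^^^ tabF rT j := by decide +kernel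
theorem lin_n : ∀ j : Fin 5, ∀ i k : Fin 64,
    tabF (nT j.val) (i ^^^ k) = tabF (nT j.val) i ^^^ tabF (nT j.val) k := by decide +kernel

noncomputable def y : G := Wd yW
noncomputable def s : G := Wd sW
noncomputable def t : G := Wd tW
noncomputable def r : G := Wd rW

theorem hy3 : y * y * y = 1 := by
  have h := Wd_one chk_y3
  rwa [Wd_append, Wd_append] at h

theorem hy : ∀ i, y * e i * y⁻¹ = e (tabF yT i) := act_of chk_yb lin_y
theorem hs : ∀ i, s * e i * s⁻¹ = e (tabF sT i) := act_of chk_sb lin_s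
theorem ht : ∀ i, t * e i * t⁻¹ = e (tabF tT i) := act_of chk_tb lin_t
theorem hr : ∀ i, r * e i * r⁻¹ = e (tabF rT i) := act_of chk_rb lin_r

theorem hfpf : ∀ i, tabF yT i = i → i = 0 := by decide +kernel

theorem hsy : s * y * s⁻¹ = y ∨ s * y * s⁻¹ = y⁻¹ := Or.inl (Wd_conj chk_sy)
theorem hty : t * y * t⁻¹ = y ∨ t * y * t⁻¹ = y⁻¹ := Or.inl (Wd_conj chk_ty)
theorem hry : r * y * r⁻¹ = y ∨ r * y * r⁻¹ = y⁻¹ := by
  refine Or.inr ?_
  have h := Wd_conj chk_ry
  rwa [Wd_reverse] at h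

theorem hn : ∀ (j : Fin 5) (i : Fin 64),
    Wd (nW j.val) * e i * (Wd (nW j.val))⁻¹ = e (tabF (nT j.val) i) := by
  intro j
  exact act_of (List.all_eq_true.mp chk_nb j.val (List.mem_range.mpr j.isLt)) (lin_n j)

/-! ### The two classes of involutions of `V` -/

def cA (i : Fin 64) : Bool := cAL.getD i.val false
def parA (i : Fin 64) : Fin 64 := Fin.ofNat 64 (parAL.getD i.val 0)
def genA (i : Fin 64) : Fin 5 := Fin.ofNat 5 (genAL.getD i.val 0)
def rkA (i : Fin 64) : ℕ := rkAL.getD i.val 0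
def cB (i : Fin 64) : Bool := cBL.getD i.val false
def parB (i : Fin 64) : Fin 64 := Fin.ofNat 64 (parBL.getD i.val 0)
def genB (i : Fin 64) : Fin 5 := Fin.ofNat 5 (genBL.getD i.val 0)
def rkB (i : Fin 64) : ℕ := rkBL.getD i.val 0

theorem certA : ∀ i, cA i = true → i = 2 ∨ (cA (parA i) = true ∧ rkA (parA i) < rkA i ∧
    tabF (nT (genA i).val) (parA i) = i) := by decide +kernel

theorem certB : ∀ i, cB i = true → i = 1 ∨ (cB (parB i) = true ∧ rkB (parB i) < rkB i ∧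
    tabF (nT (genB i).val) (parB i) = i) := by decide +kernel

theorem conjA : ∀ i, cA i = true → ∃ k : G, e i = k * e 2 * k⁻¹ :=
  Cfsg.Agent.Lib.Helper56.HeMORBIT.conj_of_cert e (fun j : Fin 5 => Wd (nW j.val))
    (fun j => tabF (nT j.val)) hn 2 cA parA genA rkA certA

theorem conjB : ∀ i, cB i = true → ∃ k : G, e i = k * e 1 * k⁻¹ :=
  Cfsg.Agent.Lib.Helper56.HeMORBIT.conj_of_cert e (fun j : Fin 5 => Wd (nW j.val))
    (fun j => tabF (nT j.val)) hn 1 cB parB genB rkB certB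

theorem hcov : ∀ i : Fin 64, i = 0 ∨ cA i = true ∨ cB i = true := by decide +kernel

section ext

variable {Γ : Type} [Group Γ] (σ : Γ →* G) (hσ : Function.Surjective σ)
  (hc : σ.ker ≤ Subgroup.center Γ) (h2 : ∀ ζ ∈ σ.ker, ζ * ζ = 1)

include hσ hc h2

theorem hQ : ∀ i, QOne σ (e i) :=
  Cfsg.Agent.Lib.Helper16.HeMQV.qOne_V σ hσ hc h2 e hmul 2 1 cA cB conjA conjB hcov
    2 4 24 (by decide +kernel) 2 4 7 (by decide +kernel)

theorem qD (j : ℕ) (hj : j < 6) : QOne σ (Wd (dcX j)) := by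
  have h := List.all_eq_true.mp chk_dc j (List.mem_range.mpr hj)
  have h1 := Wd_conj h
  rw [← e_eq] at h1
  rw [← h1]
  exact qOne_conj hc h2 (e_sq _) (hQ σ hσ hc h2 _) (MonoidHom.mem_range.mpr (hσ _))
    (MonoidHom.mem_range.mpr (hσ _))

end ext

/-! ### The order of `D` -/

theorem dWd_mem (L : List ℕ) :
    Wd (dWd L) ∈ Subgroup.closure (insert r ({s, t} : Set G)) := by
  induction L with
  | nil => rw [dWd, Wd_nil]; exact Subgroup.one_mem _
  | cons c L ih =>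
    rw [dWd, Wd_append]
    refine Subgroup.mul_mem _ ?_ ih
    apply Subgroup.subset_closure
    unfold dLet
    split_ifs
    · exact Or.inr (Or.inl rfl)
    · exact Or.inr (Or.inr rfl)
    · exact Or.inl rfl

theorem n_pos : 0 < He2058.cert.n := by decide +kernel

theorem hD16 : 16 ≤ Nat.card (Subgroup.closure (insert r ({s, t} : Set G))) := by
  have key : ∀ L ∈ DLL, Wd (dWd L) • (Wd uD • F1 0) = F1 (ev He2058.cert (dWd L ++ uD) 0) := by
    intro L hL
    rw [← mul_smul, ← Wd_append]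
    exact Wd_smul _ n_pos (chk_dlt _ (List.mem_map.mpr ⟨L, hL, rfl⟩))
  have hnd : ((DLL.map (fun L => Wd (dWd L))).map (fun d => d • (Wd uD • F1 0))).Nodup := by
    have h1 : (DLL.map (fun L => Wd (dWd L))).map (fun d => d • (Wd uD • F1 0)) = dPts.map F1 := by
      unfold dPts
      rw [List.map_map, List.map_map]
      exact List.map_congr_left (fun L hL => key L hL)
    rw [h1]
    exact List.Nodup.map_on (fun a ha b hb hab => hA1.inj a (chk_dlt a ha) b (chk_dlt b hb) hab)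
      chk_dnd
  have h := Cfsg.Agent.Lib.Helper60.HeMCARD.card_ge_of_smul_nodup
    (Subgroup.closure (insert r ({s, t} : Set G))) (Wd uD • F1 0)
    (DLL.map (fun L => Wd (dWd L)))
    (by
      intro d hd
      obtain ⟨L, _, rfl⟩ := List.mem_map.mp hd
      exact dWd_mem L) hnd
  have hlen : (DLL.map (fun L => Wd (dWd L))).length = 16 := by
    rw [List.length_map]; rfl
  rwa [hlen] at h

/-! ### The prime 2 -/

theorem two_he {Γ : Type} [Group Γ] (σ : Γ →* G) (hσ : Function.Surjective σ)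
    (hc : σ.ker ≤ Subgroup.center Γ) (h2 : ∀ ζ ∈ σ.ker, ζ * ζ = 1) :
    ∃ U : Subgroup G, ¬ 2 ∣ U.index ∧ ∀ a ∈ ⁅U.comap σ, U.comap σ⁆, a ∈ σ.ker → a = 1 := by
  have q0 := qD σ hσ hc h2 0 (by norm_num)
  have q1 := qD σ hσ hc h2 1 (by norm_num)
  have q2 := qD σ hσ hc h2 2 (by norm_num)
  have q3 := qD σ hσ hc h2 3 (by norm_num)
  have q4 := qD σ hσ hc h2 4 (by norm_num)
  have q5 := qD σ hσ hc h2 5 (by norm_num)
  have e3 : Wd (dcX 3) = s * t * (s * t) := by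
    show Wd (sW ++ tW ++ (sW ++ tW)) = _
    rw [Wd_append, Wd_append]; rfl
  have e4 : Wd (dcX 4) = s * r := by
    show Wd (sW ++ rW) = _
    rw [Wd_append]; rfl
  have e5 : Wd (dcX 5) = t * r := by
    show Wd (tW ++ rW) = _
    rw [Wd_append]; rfl
  rw [e3] at q3
  rw [e4] at q4
  rw [e5] at q5
  exact Cfsg.Agent.Lib.Helper63.HeMTWO.two_local_of_data σ hσ hc h2
    (by rw [he_card]; norm_num) e hmul he1 (hQ σ hσ hc h2) y hy3 (tabF yT) hy hfpf
    s t r (tabF sT) (tabF tT) (tabF rT) hs ht hr hsy hty hry q0 q1 q2 q3 q4 q5 hD16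

/-! ### The prime 3 -/

noncomputable def a3 : G := Wd a3W
noncomputable def b3 : G := Wd b3W
noncomputable def t3 : G := Wd t3W

theorem c3_eq : Wd c3W = ⁅a3, b3⁆ := by
  unfold c3W
  rw [Wd_append, Wd_append, Wd_append, Wd_reverse, Wd_reverse]
  rfl

theorem ha3 : a3 * a3 * a3 = 1 := by
  have h := Wd_one chk_3a
  rwa [Wd_append, Wd_append] at h

theorem hb3 : b3 * b3 * b3 = 1 := by
  have h := Wd_one chk_3b
  rwa [Wd_append, Wd_append] at h

theorem hca3 : ⁅a3, b3⁆ * a3 = a3 * ⁅a3, b3⁆ := by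
  rw [← c3_eq]
  have h := Wd_eq chk_3ca
  rwa [Wd_append, Wd_append] at h

theorem hcb3 : ⁅a3, b3⁆ * b3 = b3 * ⁅a3, b3⁆ := by
  rw [← c3_eq]
  have h := Wd_eq chk_3cb
  rwa [Wd_append, Wd_append] at h

theorem hc13 : ⁅a3, b3⁆ ≠ 1 := by
  rw [← c3_eq]
  intro h
  apply Wd_ne chk_3c1
  rw [Wd_append, h, one_mul]

theorem hta3 : t3 * a3 * t3⁻¹ = a3⁻¹ := by
  have h := Wd_conj chk_3ta
  rwa [Wd_reverse] at h

theorem htb3 : t3 * b3 * t3⁻¹ = b3⁻¹ := by
  have h := Wd_conj chk_3tb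
  rwa [Wd_reverse] at h

/-! ### The prime 5 -/

noncomputable def a5 : G := Wd a5W
noncomputable def b5 : G := Wd b5W
noncomputable def t5 : G := Wd t5W

theorem ha5 : a5 ^ 5 = 1 := by
  show Wd a5W ^ 5 = 1
  rw [← Wd_rep]; exact Wd_one chk_5a
theorem hb5 : b5 ^ 5 = 1 := by
  show Wd b5W ^ 5 = 1
  rw [← Wd_rep]; exact Wd_one chk_5b

theorem ha51 : a5 ≠ 1 := by
  intro h
  apply Wd_ne chk_5a1
  rw [Wd_append]
  show a5 * _ = _
  rw [h, one_mul]

theorem hb51 : b5 ≠ 1 := by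
  intro h
  apply Wd_ne chk_5b1
  rw [Wd_append]
  show b5 * _ = _
  rw [h, one_mul]

theorem hab5 : a5 * b5 = b5 * a5 := by
  have h := Wd_eq chk_5ab
  rwa [Wd_append, Wd_append] at h

theorem hta5 : t5 * a5 * t5⁻¹ = a5 := Wd_conj chk_5ta

theorem htb5 : t5 * b5 * t5⁻¹ = b5⁻¹ := by
  have h := Wd_conj chk_5tb
  rwa [Wd_reverse] at h

/-! ### The prime 7 -/

noncomputable def a7 : G := Wd a7W
noncomputable def b7 : G := Wd b7W
noncomputable def r7 : G := Wd r7W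

theorem c7_eq : Wd c7W = ⁅a7, b7⁆ := by
  unfold c7W
  rw [Wd_append, Wd_append, Wd_append, Wd_reverse, Wd_reverse]
  rfl

theorem ha7 : a7 ^ 7 = 1 := by
  show Wd a7W ^ 7 = 1
  rw [← Wd_rep]; exact Wd_one chk_7a
theorem hb7 : b7 ^ 7 = 1 := by
  show Wd b7W ^ 7 = 1
  rw [← Wd_rep]; exact Wd_one chk_7b

theorem hca7 : ⁅a7, b7⁆ * a7 = a7 * ⁅a7, b7⁆ := by
  rw [← c7_eq]
  have h := Wd_eq chk_7ca
  rwa [Wd_append, Wd_append] at h

theorem hcb7 : ⁅a7, b7⁆ * b7 = b7 * ⁅a7, b7⁆ := by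
  rw [← c7_eq]
  have h := Wd_eq chk_7cb
  rwa [Wd_append, Wd_append] at h

theorem hc17 : ⁅a7, b7⁆ ≠ 1 := by
  rw [← c7_eq]
  intro h
  apply Wd_ne chk_7c1
  rw [Wd_append, h, one_mul]

theorem hra7 : r7 * a7 * r7⁻¹ = a7 ^ 2 := by
  show Wd r7W * Wd a7W * (Wd r7W)⁻¹ = Wd a7W ^ 2
  rw [← Wd_rep]; exact Wd_conj chk_7ra

theorem hrb7 : r7 * b7 * r7⁻¹ = b7 ^ 4 := by
  show Wd r7W * Wd b7W * (Wd r7W)⁻¹ = Wd b7W ^ 4
  rw [← Wd_rep]; exact Wd_conj chk_7rb

/-! ### The multiplier -/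

theorem he_mult : Cfsg.HasCyclicSchurMultiplier G 1 := by
  apply hasCyclicSchurMultiplier_one_of_local_exp
  intro Γ _ _ σ hσ ℓ hℓ hexp
  have : Fact ℓ.Prime := ⟨hℓ⟩
  by_cases h2 : ℓ = 2
  · subst h2
    exact two_he σ hσ.1 hσ.2.1 (fun ζ hζ => by
      have h := hexp ζ hζ
      rwa [pow_two] at h)
  by_cases h3 : ℓ = 3
  · subst h3
    exact Cfsg.Agent.Lib.Helper37.J2MTHREE.three_local σ hσ.1 hσ.2.1
      (by rw [he_card]; norm_num) a3 b3 t3 ha3 hb3 hca3 hcb3 hc13 hta3 htb3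
  by_cases h5 : ℓ = 5
  · subst h5
    exact Cfsg.Agent.Lib.Helper73.J2MFIVE.five_local σ hσ.1 hσ.2.1
      (by rw [he_card]; norm_num) a5 b5 t5 ha5 hb5 ha51 hb51 hab5 hta5 htb5
  by_cases h7 : ℓ = 7
  · subst h7
    exact Cfsg.Agent.Lib.Helper19.HeMSEVEN.seven_local σ hσ.1 hσ.2.1
      (by rw [he_card]; norm_num) a7 b7 r7 ha7 hb7 hca7 hcb7 hc17 hra7 hrb7
  refine local_of_sq_not_dvd ℓ ?_ σ hσ.2.1
  rw [he_card]
  intro hd
  have hp : ℓ ∣ 4030387200 := dvd_trans (dvd_pow_self ℓ (by norm_num)) hd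
  have h403 : (4030387200 : ℕ) = 2 ^ 10 * 3 ^ 3 * 5 ^ 2 * 7 ^ 3 * 17 := by norm_num
  rw [h403] at hp
  have h17 : ℓ = 17 := by
    rcases (Nat.Prime.dvd_mul hℓ).mp hp with hp | hp
    · rcases (Nat.Prime.dvd_mul hℓ).mp hp with hp | hp
      · rcases (Nat.Prime.dvd_mul hℓ).mp hp with hp | hp
        · rcases (Nat.Prime.dvd_mul hℓ).mp hp with hp | hp
          · exact absurd ((Nat.prime_dvd_prime_iff_eq hℓ Nat.prime_two).mp
              (hℓ.dvd_of_dvd_pow hp)) h2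
          · exact absurd ((Nat.prime_dvd_prime_iff_eq hℓ Nat.prime_three).mp
              (hℓ.dvd_of_dvd_pow hp)) h3
        · exact absurd ((Nat.prime_dvd_prime_iff_eq hℓ Nat.prime_five).mp
            (hℓ.dvd_of_dvd_pow hp)) h5
      · exact absurd ((Nat.prime_dvd_prime_iff_eq hℓ (by norm_num)).mp
          (hℓ.dvd_of_dvd_pow hp)) h7
    · exact (Nat.prime_dvd_prime_iff_eq hℓ (by norm_num)).mp hp
  subst h17
  norm_num at hd

end Cfsg.Agent.Lib.Helper70.HeM
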