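import Cfsg.Agent.Lib.Helper70.HeODefs

/-! Kernel checks for S2075 (helper70): computations in the tables of the 21504 elements of the
centraliser of the involution `f` of the presented Held group (part 1: the tables of the elements
used, the checks to be made on all tables, and the division of the tables into 8 chunks). -/

set_option autoImplicit false
set_option maxRecDepth 1000000

namespace Cfsg.Agent.Lib.Helper70.HeO

open Cfsg.Agent.Lib.Helper39.HeOrd Cfsg.Agent.Lib.Helper70.HeC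

/-- the word of `x3` in `x, t, u` -/
def L3 : List ℕ := [1, 0, 1, 0, 0, 1, 0, 0]

/-- the table of `f` -/
def TZ : List ℕ := [1, 0, 3, 2, 5, 4, 7, 6, 9, 8, 11, 10, 13, 12, 15, 14]
/-- the table of `x7 = x` -/
def T7 : List ℕ := [0, 1, 11, 10, 2, 3, 9, 8, 4, 5, 15, 14, 6, 7, 13, 12]
/-- the table of `x3` -/
def T3 : List ℕ := [0, 1, 13, 12, 11, 10, 6, 7, 4, 5, 9, 8, 15, 14, 2, 3]
/-- the table of `u` -/
def TU : List ℕ := [0, 1, 2, 3, 5, 4, 7, 6, 8, 9, 10, 11, 13, 12, 15, 14]
/-- the table of `ew 2` -/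
def TW2 : List ℕ := [2, 3, 0, 1, 6, 7, 4, 5, 10, 11, 8, 9, 14, 15, 12, 13]
/-- the table of `ew 4` -/
def TW4 : List ℕ := [4, 5, 6, 7, 0, 1, 2, 3, 12, 13, 14, 15, 8, 9, 10, 11]
/-- the table of `ew 8` -/
def TW8 : List ℕ := [8, 9, 10, 11, 12, 13, 14, 15, 0, 1, 2, 3, 4, 5, 6, 7]
/-- the table of `t` -/
def TT : List ℕ := [0, 1, 2, 3, 4, 5, 6, 7, 14, 15, 12, 13, 10, 11, 8, 9]
/-- the table of the generator `a` -/
def TA : List ℕ := [6, 7, 4, 5, 2, 3, 0, 1, 15, 14, 13, 12, 11, 10, 9, 8]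
/-- the table of the generator `b` -/
def TB : List ℕ := [13, 12, 15, 14, 5, 4, 7, 6, 9, 8, 11, 10, 1, 0, 3, 2]
/-- the table of the generator `c` -/
def TC : List ℕ := [7, 6, 3, 2, 5, 4, 1, 0, 15, 14, 11, 10, 13, 12, 9, 8]
/-- the table of the generator `e` -/
def TE : List ℕ := [0, 1, 3, 2, 5, 4, 6, 7, 9, 8, 10, 11, 12, 13, 15, 14]
/-- the table of `x7⁻¹` -/
def T7i : List ℕ := [0, 1, 4, 5, 8, 9, 12, 13, 7, 6, 3, 2, 15, 14, 11, 10]

theorem TZ_eq : tabOf 1 [] = TZ := by decide +kernel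
theorem T7_eq : tabOf 0 [0] = T7 := by decide +kernel
theorem T3_eq : tabOf 0 L3 = T3 := by decide +kernel
theorem TU_eq : tabOf 0 [2] = TU := by decide +kernel
theorem TW2_eq : tabOf 2 [] = TW2 := by decide +kernel
theorem TW4_eq : tabOf 4 [] = TW4 := by decide +kernel
theorem TW8_eq : tabOf 8 [] = TW8 := by decide +kernel
theorem TT_eq : tabOf 0 [1] = TT := by decide +kernel
theorem TA_eq : tabOf 6 [2, 1, 2, 1] = TA := by decide +kernel
theorem TB_eq : tabOf 13 [0, 0, 1, 0, 0, 1] = TB := by decide +kernel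
theorem TC_eq : tabOf 7 [0, 1, 0, 1, 0, 0, 0] = TC := by decide +kernel
theorem TE_eq : tabOf 0 [0, 0, 0, 2, 0, 0, 0, 0] = TE := by decide +kernel

theorem T7_pow7 : tpw tcomp idT T7 7 = idT := by decide +kernel
theorem T7_pow6 : tpw tcomp idT T7 6 = T7i := by decide +kernel
theorem T7_ne : T7 ≠ idT := by decide +kernel
theorem T3_pow3 : tpw tcomp idT T3 3 = idT := by decide +kernel
theorem T37 : tcomp T3 T7 = tcomp (tpw tcomp idT T7 2) T3 := by decide +kernel

/-- the tables of `f^e x7^j` -/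
def L14 : List (List ℕ) :=
  (List.range 14).map (fun k => tcomp (tpw tcomp idT TZ (k / 7)) (tpw tcomp idT T7 (k % 7)))

/-- the fixed tables for `u` -/
def fxU : List (List ℕ) := [TZ, T7, T3]
/-- the relations for `u` -/
def relsU : List (List ℕ × ℕ × List ℕ) :=
  [([0], 2, [1]), ([0, 2, 3, 2], 3, [1]), ([0, 3, 2, 2], 3, [1]), ([0, 2, 3], 6, [3, 2])]
/-- the fixed tables for `ew 2` -/
def fxW2 : List (List ℕ) := [TZ, T7, T3, TU]
/-- the relations for `ew 2` -/
def relsW2 : List (List ℕ × ℕ × List ℕ) :=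
  [([0], 2, [1]), ([0, 1, 3], 3, [1]), ([0, 2, 2, 4], 7, [1]), ([0, 4], 2, [1])]
/-- the fixed tables for `ew 4` -/
def fxW4 : List (List ℕ) := [TZ, T7, T3, TU, TW2]
/-- the relations for `ew 4` -/
def relsW4 : List (List ℕ × ℕ × List ℕ) :=
  [([0], 2, [1]), ([0, 3, 5, 2], 3, [1]), ([0, 2, 4], 14, [7, 2]), ([0, 1, 3], 6, [3, 2])]
/-- the fixed tables for `ew 8` -/
def fxW8 : List (List ℕ) := [TZ, T7, T3, TU, TW2, TW4]
/-- the relations for `ew 8` -/
def relsW8 : List (List ℕ × ℕ × List ℕ) :=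
  [([0], 2, [1]), ([0, 3, 6], 3, [1]), ([0, 2, 3, 5], 3, [1]), ([0, 4], 2, [1])]
/-- the fixed tables for `t` -/
def fxT : List (List ℕ) := [TZ, T7, T3, TU, TW2, TW4, TW8]
/-- the relations for `t` -/
def relsT : List (List ℕ × ℕ × List ℕ) :=
  [([0], 2, [1]), ([0, 2, 3, 3], 2, [1]), ([0, 2], 7, [1]), ([0, 2, 4, 6], 7, [1])]

theorem chk_u0 : relsU.all (relT tcomp idT fxU TU) = true := by decide +kernel
theorem chk_w20 : relsW2.all (relT tcomp idT fxW2 TW2) = true := by decide +kernel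
theorem chk_w40 : relsW4.all (relT tcomp idT fxW4 TW4) = true := by decide +kernel
theorem chk_w80 : relsW8.all (relT tcomp idT fxW8 TW8) = true := by decide +kernel
theorem chk_t0 : relsT.all (relT tcomp idT fxT TT) = true := by decide +kernel

/-! ### The checks -/

/-- commuting with `x7` only for `f^e x7^j` -/
def pCent7 (N : List ℕ) : Bool := !(decide (tcomp N T7 = tcomp T7 N)) || L14.contains N
/-- not inverting `x7` -/
def pNoinv (N : List ℕ) : Bool := !(decide (tcomp N T7 = tcomp T7i N))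
/-- the relations of `u` only for `u` -/
def pU (N : List ℕ) : Bool := !(relsU.all (relT tcomp idT fxU N)) || decide (N = TU)
/-- the relations of `ew 2` only for `ew 2` -/
def pW2 (N : List ℕ) : Bool := !(relsW2.all (relT tcomp idT fxW2 N)) || decide (N = TW2)
/-- the relations of `ew 4` only for `ew 4` -/
def pW4 (N : List ℕ) : Bool := !(relsW4.all (relT tcomp idT fxW4 N)) || decide (N = TW4)
/-- the relations of `ew 8` only for `ew 8` -/
def pW8 (N : List ℕ) : Bool := !(relsW8.all (relT tcomp idT fxW8 N)) || decide (N = TW8)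
/-- the relations of `t` only for `t` -/
def pT (N : List ℕ) : Bool := !(relsT.all (relT tcomp idT fxT N)) || decide (N = TT)
/-- commuting with `a, b, c, e` only for `1, e, f, ef` -/
def pZ1 (N : List ℕ) : Bool :=
  !([TA, TB, TC, TE].all (fun Y => decide (tcomp N Y = tcomp Y N))) ||
    [idT, TE, TZ, tcomp TE TZ].contains N

/-! ### Chunks -/

/-- the 16 tables with the word `L` -/
def tabsOf (L : List ℕ) : List (List ℕ) := (List.range 16).map (fun i => tabOf i L)

/-- the `k`-th chunk of 168 words -/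
def chunk (k : ℕ) : List (List ℕ) := (HLL.drop (168 * k)).take 168

theorem chunks_eq : (List.range 8).flatMap chunk = HLL := by decide +kernel

theorem all_of_chunks (P : List ℕ → Bool)
    (h : ∀ k < 8, ((chunk k).flatMap tabsOf).all P = true) : allT.all P = true := by
  rw [List.all_eq_true]
  intro N hN
  obtain ⟨L, hL, hNL⟩ := List.mem_flatMap.mp hN
  rw [← chunks_eq] at hL
  obtain ⟨k, hk, hLk⟩ := List.mem_flatMap.mp hL
  exact List.all_eq_true.mp (h k (List.mem_range.mp hk)) N (List.mem_flatMap.mpr ⟨L, hLk, hNL⟩)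

end Cfsg.Agent.Lib.Helper70.HeO
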