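import Cfsg.Agent.Lib.Helper70.HeOChk

/-! Kernel checks for S2075 (helper70): the checks `pT`, `pZ1` on the 8 chunks of tables. -/

set_option autoImplicit false
set_option maxRecDepth 1000000

namespace Cfsg.Agent.Lib.Helper70.HeO

open Cfsg.Agent.Lib.Helper39.HeOrd Cfsg.Agent.Lib.Helper70.HeC

theorem cT_0 : ((chunk 0).flatMap tabsOf).all pT = true := by decide +kernel
theorem cT_1 : ((chunk 1).flatMap tabsOf).all pT = true := by decide +kernel
theorem cT_2 : ((chunk 2).flatMap tabsOf).all pT = true := by decide +kernel
theorem cT_3 : ((chunk 3).flatMap tabsOf).all pT = true := by decide +kernel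
theorem cT_4 : ((chunk 4).flatMap tabsOf).all pT = true := by decide +kernel
theorem cT_5 : ((chunk 5).flatMap tabsOf).all pT = true := by decide +kernel
theorem cT_6 : ((chunk 6).flatMap tabsOf).all pT = true := by decide +kernel
theorem cT_7 : ((chunk 7).flatMap tabsOf).all pT = true := by decide +kernel

theorem cZ1_0 : ((chunk 0).flatMap tabsOf).all pZ1 = true := by decide +kernel
theorem cZ1_1 : ((chunk 1).flatMap tabsOf).all pZ1 = true := by decide +kernel
theorem cZ1_2 : ((chunk 2).flatMap tabsOf).all pZ1 = true := by decide +kernel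
theorem cZ1_3 : ((chunk 3).flatMap tabsOf).all pZ1 = true := by decide +kernel
theorem cZ1_4 : ((chunk 4).flatMap tabsOf).all pZ1 = true := by decide +kernel
theorem cZ1_5 : ((chunk 5).flatMap tabsOf).all pZ1 = true := by decide +kernel
theorem cZ1_6 : ((chunk 6).flatMap tabsOf).all pZ1 = true := by decide +kernel
theorem cZ1_7 : ((chunk 7).flatMap tabsOf).all pZ1 = true := by decide +kernel

end Cfsg.Agent.Lib.Helper70.HeO
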