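import Cfsg.Agent.Lib.Helper70.HeOChkA
import Cfsg.Agent.Lib.Helper70.HeOChkB
import Cfsg.Agent.Lib.Helper70.HeOChkC
import Cfsg.Agent.Lib.Helper70.HeOChkD

/-! Kernel checks for S2075 (helper70): the checks on all tables, from the chunks. -/

set_option autoImplicit false
set_option maxRecDepth 1000000

namespace Cfsg.Agent.Lib.Helper70.HeO

open Cfsg.Agent.Lib.Helper39.HeOrd Cfsg.Agent.Lib.Helper70.HeC

theorem chk_cent7 : allT.all pCent7 = true := by
  refine all_of_chunks _ ?_
  intro k hk
  interval_cases k
  · exact cCent7_0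
  · exact cCent7_1
  · exact cCent7_2
  · exact cCent7_3
  · exact cCent7_4
  · exact cCent7_5
  · exact cCent7_6
  · exact cCent7_7

theorem chk_noinv : allT.all pNoinv = true := by
  refine all_of_chunks _ ?_
  intro k hk
  interval_cases k
  · exact cNoinv_0
  · exact cNoinv_1
  · exact cNoinv_2
  · exact cNoinv_3
  · exact cNoinv_4
  · exact cNoinv_5
  · exact cNoinv_6
  · exact cNoinv_7

theorem chk_u : allT.all pU = true := by
  refine all_of_chunks _ ?_
  intro k hk
  interval_cases k
  · exact cU_0
  · exact cU_1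
  · exact cU_2
  · exact cU_3
  · exact cU_4
  · exact cU_5
  · exact cU_6
  · exact cU_7

theorem chk_w2 : allT.all pW2 = true := by
  refine all_of_chunks _ ?_
  intro k hk
  interval_cases k
  · exact cW2_0
  · exact cW2_1
  · exact cW2_2
  · exact cW2_3
  · exact cW2_4
  · exact cW2_5
  · exact cW2_6
  · exact cW2_7

theorem chk_w4 : allT.all pW4 = true := by
  refine all_of_chunks _ ?_
  intro k hk
  interval_cases k
  · exact cW4_0
  · exact cW4_1
  · exact cW4_2
  · exact cW4_3
  · exact cW4_4
  · exact cW4_5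
  · exact cW4_6
  · exact cW4_7

theorem chk_w8 : allT.all pW8 = true := by
  refine all_of_chunks _ ?_
  intro k hk
  interval_cases k
  · exact cW8_0
  · exact cW8_1
  · exact cW8_2
  · exact cW8_3
  · exact cW8_4
  · exact cW8_5
  · exact cW8_6
  · exact cW8_7

theorem chk_t : allT.all pT = true := by
  refine all_of_chunks _ ?_
  intro k hk
  interval_cases k
  · exact cT_0
  · exact cT_1
  · exact cT_2
  · exact cT_3
  · exact cT_4
  · exact cT_5
  · exact cT_6
  · exact cT_7

theorem chk_z1 : allT.all pZ1 = true := by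
  refine all_of_chunks _ ?_
  intro k hk
  interval_cases k
  · exact cZ1_0
  · exact cZ1_1
  · exact cZ1_2
  · exact cZ1_3
  · exact cZ1_4
  · exact cZ1_5
  · exact cZ1_6
  · exact cZ1_7

end Cfsg.Agent.Lib.Helper70.HeO
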