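import Cfsg.Agent.Lib.Helper70.HeOChk

/-! Kernel checks for S2075 (helper70): the checks `pCent7`, `pNoinv` on the 8 chunks of tables. -/

set_option autoImplicit false
set_option maxRecDepth 1000000

namespace Cfsg.Agent.Lib.Helper70.HeO

open Cfsg.Agent.Lib.Helper39.HeOrd Cfsg.Agent.Lib.Helper70.HeC

theorem cCent7_0 : ((chunk 0).flatMap tabsOf).all pCent7 = true := by decide +kernel
theorem cCent7_1 : ((chunk 1).flatMap tabsOf).all pCent7 = true := by decide +kernel
theorem cCent7_2 : ((chunk 2).flatMap tabsOf).all pCent7 = true := by decide +kernel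
theorem cCent7_3 : ((chunk 3).flatMap tabsOf).all pCent7 = true := by decide +kernel
theorem cCent7_4 : ((chunk 4).flatMap tabsOf).all pCent7 = true := by decide +kernel
theorem cCent7_5 : ((chunk 5).flatMap tabsOf).all pCent7 = true := by decide +kernel
theorem cCent7_6 : ((chunk 6).flatMap tabsOf).all pCent7 = true := by decide +kernel
theorem cCent7_7 : ((chunk 7).flatMap tabsOf).all pCent7 = true := by decide +kernel

theorem cNoinv_0 : ((chunk 0).flatMap tabsOf).all pNoinv = true := by decide +kernel
theorem cNoinv_1 : ((chunk 1).flatMap tabsOf).all pNoinv = true := by decide +kernel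
theorem cNoinv_2 : ((chunk 2).flatMap tabsOf).all pNoinv = true := by decide +kernel
theorem cNoinv_3 : ((chunk 3).flatMap tabsOf).all pNoinv = true := by decide +kernel
theorem cNoinv_4 : ((chunk 4).flatMap tabsOf).all pNoinv = true := by decide +kernel
theorem cNoinv_5 : ((chunk 5).flatMap tabsOf).all pNoinv = true := by decide +kernel
theorem cNoinv_6 : ((chunk 6).flatMap tabsOf).all pNoinv = true := by decide +kernel
theorem cNoinv_7 : ((chunk 7).flatMap tabsOf).all pNoinv = true := by decide +kernel

end Cfsg.Agent.Lib.Helper70.HeO
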