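import Cfsg.Agent.Lib.Helper70.HeCFin

/-! Definitions for S2075 (helper70): the elements `ew i · h_L` of the centraliser `C(f) = W ⋊ H₀` of
the involution `f` of the presented Held group, their tables on the 16 cosets of `H₀`, and words
and relations in tables. -/

set_option autoImplicit false

namespace Cfsg.Agent.Lib.Helper70.HeO

open Cfsg.Agent.Lib.Helper39.HeOrd Cfsg.Agent.Lib.Helper70.HeC
open Cfsg.Agent.Lib.Helper70.HeM (Wd)

/-- the element `ew i · h_L` of `C(f)`, for a word `L` in `x, t, u` -/
noncomputable def val (i : ℕ) (L : List ℕ) : G := ew (Fin.ofNat 64 i) * Wd (hWd L)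

/-- the table of `h_L` on `W` -/
def tab0 (L : List ℕ) : List ℕ := (List.range 16).map (fun b => (tabC L (Fin.ofNat 64 b)).val)

/-- the table of `ew i · h_L` on the 16 cosets `ew b · H₀` -/
def tabOf (i : ℕ) (L : List ℕ) : List ℕ := (tab0 L).map (fun v => v ^^^ i)

/-- composition of tables -/
def tcomp (N M : List ℕ) : List ℕ := M.map (fun v => N.getD v 0)

/-- the identity table -/
def idT : List ℕ := List.range 16

/-- `g` has the table `N` -/
def Rp (g : G) (N : List ℕ) : Prop := ∃ i, i < 16 ∧ ∃ L : List ℕ, g = val i L ∧ N = tabOf i L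

/-- all tables -/
def allT : List (List ℕ) := HLL.flatMap (fun L => (List.range 16).map (fun i => tabOf i L))

section generic

variable {G : Type} [Group G] {T : Type}

/-- power of a table -/
def tpw (tc : T → T → T) (t1 : T) (N : T) : ℕ → T
  | 0 => t1
  | k + 1 => tc N (tpw tc t1 N k)

/-- a word in the table `N` (letter 0) and the fixed tables (letter `j + 1` for `fx[j]`) -/
def evT (tc : T → T → T) (t1 : T) (fx : List T) (N : T) : List ℕ → T
  | [] => t1
  | 0 :: l => tc N (evT tc t1 fx N l)
  | (j + 1) :: l => tc (fx.getD j t1) (evT tc t1 fx N l)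

/-- the same word in the group -/
def evG (fx : List G) (s : G) : List ℕ → G
  | [] => 1
  | 0 :: l => s * evG fx s l
  | (j + 1) :: l => fx.getD j 1 * evG fx s l

/-- a relation `(pat, o, ds)`: the word `pat` has trivial `o`-th power and nontrivial `d`-th power
for `d ∈ ds` -/
def relT [DecidableEq T] (tc : T → T → T) (t1 : T) (fx : List T) (N : T)
    (r : List ℕ × ℕ × List ℕ) : Bool :=
  decide (tpw tc t1 (evT tc t1 fx N r.1) r.2.1 = t1) &&
    r.2.2.all (fun d => !decide (tpw tc t1 (evT tc t1 fx N r.1) d = t1))

end generic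

end Cfsg.Agent.Lib.Helper70.HeO
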