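import Cfsg.Agent.Lib.Helper70.HeODefs

/-! Piece REPI for S2075 (helper70's own copy): equal tables give equal elements of `C(f)`, and the
table is determined by the element. -/

set_option autoImplicit false

namespace Cfsg.Agent.Lib.Helper70.HeORepI

open Cfsg.Agent.Lib.Helper39.HeOrd Cfsg.Agent.Lib.Helper70.HeC Cfsg.Agent.Lib.Helper70.HeO
open Cfsg.Agent.Lib.Helper70.HeM (Wd tabF)

theorem ofNat_val (i : ℕ) (hi : i < 16) : (Fin.ofNat 64 i : Fin 64).val = i :=
  Nat.mod_eq_of_lt (lt_trans hi (by decide))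

theorem tab_get (i : ℕ) (L : List ℕ) (b : ℕ) (hb : b < 16) :
    (tabOf i L).getD b 0 = (tabC L (Fin.ofNat 64 b)).val ^^^ i := by
  unfold tabOf tab0
  rw [List.getD_eq_getElem _ _ (by simpa using hb)]
  simp

theorem xor_self' : ∀ a : Fin 64, a ^^^ a = 0 := by decide

theorem tabF_zero (j : Fin 6) : tabF (hT j.val) 0 = 0 := by
  have h := lin_h j 0 0
  rw [xor_self', xor_self'] at h
  exact h

theorem tabC_zero : ∀ L : List ℕ, tabC L 0 = 0
  | [] => rfl
  | c :: L => by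
    show tabF (hT (hIdx c).val) (tabC L 0) = 0
    rw [tabC_zero L, tabF_zero]

/-- equal tables: equal translation parts and equal actions -/
theorem tab_eq {i i' : ℕ} {L L' : List ℕ} (h : tabOf i L = tabOf i' L') :
    i = i' ∧ ∀ b : Fin 64, b.val < 16 → tabC L b = tabC L' b := by
  have key : ∀ b : ℕ, b < 16 →
      (tabC L (Fin.ofNat 64 b)).val ^^^ i = (tabC L' (Fin.ofNat 64 b)).val ^^^ i' := by
    intro b hb
    rw [← tab_get i L b hb, ← tab_get i' L' b hb, h]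
  have h0 := key 0 (by decide)
  have e0 : (Fin.ofNat 64 0 : Fin 64) = 0 := rfl
  rw [e0, tabC_zero, tabC_zero] at h0
  have hi : i = i' := by simpa using h0
  refine ⟨hi, ?_⟩
  intro b hb
  have h1 := key b.val hb
  have eb : (Fin.ofNat 64 b.val : Fin 64) = b := Fin.ext (Nat.mod_eq_of_lt b.isLt)
  rw [eb, ← hi] at h1
  apply Fin.ext
  have h2 := congrArg (fun x => x ^^^ i) h1
  simp only [Nat.xor_xor_cancel_right] at h2
  exact h2

theorem tab_congr {i : ℕ} {L L' : List ℕ} (h : ∀ b : Fin 64, b.val < 16 → tabC L b = tabC L' b) :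
    tabOf i L = tabOf i L' := by
  unfold tabOf tab0
  congr 1
  apply List.map_congr_left
  intro b hb
  have hb' : b < 16 := List.mem_range.mp hb
  rw [h _ (by rw [ofNat_val b hb']; exact hb')]

theorem iota_zero' : iota 0 = 0 := by decide

/-- PIECE REPI (1/2). -/
theorem rp_inj
    (hdec2 : ∀ g ∈ Subgroup.centralizer ({zE} : Set G), (∀ a, (wOf a)⁻¹ * g * wOf a ∈ H0) → g = 1) :
    ∀ (g h : G) (N : List ℕ), Rp g N → Rp h N → g = h := by
  rintro g h N ⟨i, hi, L, rfl, rfl⟩ ⟨i', hi', L', rfl, hN⟩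
  obtain ⟨e1, e2⟩ := tab_eq hN
  subst e1
  have hk : (Wd (hWd L))⁻¹ * Wd (hWd L') ∈ H0 := H0.mul_mem (H0.inv_mem (mem_word L)) (mem_word L')
  have hc : ∀ a, (Wd (hWd L))⁻¹ * Wd (hWd L') * wOf a = wOf a * ((Wd (hWd L))⁻¹ * Wd (hWd L')) := by
    intro a
    have h1 := act_word L (iota a)
    have h2 := act_word L' (iota a)
    rw [e2 _ (iota_lt a)] at h1
    have h3 : Wd (hWd L) * wOf a * (Wd (hWd L))⁻¹ = Wd (hWd L') * wOf a * (Wd (hWd L'))⁻¹ := by
      unfold wOf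
      rw [h1, h2]
    calc (Wd (hWd L))⁻¹ * Wd (hWd L') * wOf a
        = (Wd (hWd L))⁻¹ * (Wd (hWd L') * wOf a * (Wd (hWd L'))⁻¹) * Wd (hWd L') := by group
      _ = (Wd (hWd L))⁻¹ * (Wd (hWd L) * wOf a * (Wd (hWd L))⁻¹) * Wd (hWd L') := by rw [h3]
      _ = wOf a * ((Wd (hWd L))⁻¹ * Wd (hWd L')) := by group
  have hcen : (Wd (hWd L))⁻¹ * Wd (hWd L') ∈ Subgroup.centralizer ({zE} : Set G) := by
    rw [Subgroup.mem_centralizer_iff]
    intro y hy
    rw [Set.mem_singleton_iff] at hy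
    rw [hy]
    exact (hcz _ hk).symm
  have h1 := hdec2 _ hcen (by
    intro a
    rw [mul_assoc, hc a, ← mul_assoc, inv_mul_cancel, one_mul]
    exact hk)
  have h2 : Wd (hWd L) = Wd (hWd L') := by
    have := inv_mul_eq_one.mp h1
    exact this
  unfold val
  rw [h2]

/-- PIECE REPI (2/2). -/
theorem rp_fun : ∀ (g : G) (N M : List ℕ), Rp g N → Rp g M → N = M := by
  rintro g N M ⟨i, hi, L, rfl, rfl⟩ ⟨i', hi', L', hg, rfl⟩
  unfold val at hg
  have hj : ((Fin.ofNat 64 i' : Fin 64) ^^^ Fin.ofNat 64 i).val < 16 :=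
    xor_lt16 _ _ (by rw [ofNat_val i' hi']; exact hi') (by rw [ofNat_val i hi]; exact hi)
  have h1 : ew ((Fin.ofNat 64 i' : Fin 64) ^^^ Fin.ofNat 64 i) =
      Wd (hWd L') * (Wd (hWd L))⁻¹ := by
    rw [← hmulw]
    have h2 : ew (Fin.ofNat 64 i') * (ew (Fin.ofNat 64 i) * Wd (hWd L)) =
        ew (Fin.ofNat 64 i') * (ew (Fin.ofNat 64 i') * Wd (hWd L')) := by rw [hg]
    rw [← mul_assoc, ← mul_assoc, ew_sq, one_mul] at h2
    rw [← h2]
    group
  obtain ⟨a, ha⟩ := iota_surj _ hj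
  have h3 : wOf a ∈ H0 := by
    unfold wOf
    rw [ha, h1]
    exact H0.mul_mem (mem_word L') (H0.inv_mem (mem_word L))
  have ha0 := hWH a h3
  rw [ha0, iota_zero'] at ha
  have hii : (Fin.ofNat 64 i' : Fin 64) = Fin.ofNat 64 i := xor_eq_zero64 _ _ ha.symm
  have hi2 : i' = i := by
    have := congrArg Fin.val hii
    rwa [ofNat_val i' hi', ofNat_val i hi] at this
  subst hi2
  have h4 : Wd (hWd L) = Wd (hWd L') := mul_left_cancel hg
  apply tab_congr
  intro b hb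
  have h5 := act_word L b
  have h6 := act_word L' b
  rw [h4, h6] at h5
  exact (ew_inj _ _ (tabC_lt L' b hb) (tabC_lt L b hb) h5).symm

end Cfsg.Agent.Lib.Helper70.HeORepI
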