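import Cfsg.Agent.Lib.Helper70.HeODefs

/-! Piece REPX for S2075 (helper70's own copy): every element of `C(f)` has a table in the list. -/

set_option autoImplicit false

namespace Cfsg.Agent.Lib.Helper70.HeORepX

open Cfsg.Agent.Lib.Helper39.HeOrd Cfsg.Agent.Lib.Helper70.HeC Cfsg.Agent.Lib.Helper70.HeO
open Cfsg.Agent.Lib.Helper70.HeM (Wd)

theorem rp_val (i : ℕ) (hi : i < 16) (L : List ℕ) : Rp (val i L) (tabOf i L) :=
  ⟨i, hi, L, rfl, rfl⟩

theorem xor_one_comm : ∀ a : Fin 64, a ^^^ 1 = 1 ^^^ a := by decide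

theorem rp_comm : ∀ (g : G) (N : List ℕ), Rp g N → g * zE = zE * g := by
  rintro g N ⟨i, -, L, rfl, -⟩
  unfold val
  have h1 : Wd (hWd L) * zE = zE * Wd (hWd L) := hcz _ (mem_word L)
  have h2 : ew (Fin.ofNat 64 i) * zE = zE * ew (Fin.ofNat 64 i) := by
    rw [← ew_one, hmulw, hmulw, xor_one_comm]
  rw [mul_assoc, h1, ← mul_assoc, h2, mul_assoc]

theorem rp_ex
    (hdec1 : ∀ g ∈ Subgroup.centralizer ({zE} : Set G), ∃ a i, g = wOf a * fH i) :
    ∀ g : G, g * zE = zE * g → ∃ N ∈ allT, Rp g N := by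
  intro g hg
  have hm : g ∈ Subgroup.centralizer ({zE} : Set G) := by
    rw [Subgroup.mem_centralizer_iff]
    intro y hy
    rw [Set.mem_singleton_iff] at hy
    rw [hy]; exact hg.symm
  obtain ⟨a, j, rfl⟩ := hdec1 g hm
  have e : (Fin.ofNat 64 (iota a).val : Fin 64) = iota a :=
    Fin.ext (Nat.mod_eq_of_lt (iota a).isLt)
  refine ⟨tabOf (iota a).val (HLL.get (Fin.cast lenH.symm j)), ?_, (iota a).val, iota_lt a,
    HLL.get (Fin.cast lenH.symm j), ?_, rfl⟩
  · unfold allT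
    exact List.mem_flatMap.mpr ⟨_, List.get_mem _ _,
      List.mem_map.mpr ⟨(iota a).val, List.mem_range.mpr (iota_lt a), rfl⟩⟩
  · unfold val wOf fH
    rw [e]

end Cfsg.Agent.Lib.Helper70.HeORepX
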