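import Cfsg.Agent.Lib.Helper70.HeODefs

/-! Piece SYLH for S2075 (helper70's own copy): the 16 elements of `W` satisfy the hypotheses of the
Sylow piece SYLC. -/

set_option autoImplicit false
set_option maxRecDepth 100000

namespace Cfsg.Agent.Lib.Helper70.HeOSylH

open Cfsg.Agent.Lib.Helper39.HeOrd Cfsg.Agent.Lib.Helper70.HeC Cfsg.Agent.Lib.Helper70.HeO
open Cfsg.Agent.Lib.Helper70.HeM (Wd tabF)

/-- the elements of `W` -/
noncomputable def eW : Fin 16 → G := fun i => ew (Fin.castLE (by decide) i)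

theorem chk_tr : (List.range 16).all (fun j => Nat.ble j 1 ||
    HLL.any (fun L => Nat.beq (tabC L 2).val j)) = true := by decide +kernel

theorem xor_one_comm : ∀ a : Fin 64, a ^^^ 1 = 1 ^^^ a := by decide
theorem xor_conj : ∀ x j : Fin 64, x ^^^ j ^^^ x = j := by decide
theorem xor_comm64 : ∀ x j : Fin 64, x ^^^ j = j ^^^ x := by decide

theorem eW_of (j : Fin 64) (hj : j.val < 16) : ∃ i : Fin 16, eW i = ew j :=
  ⟨⟨j.val, hj⟩, rfl⟩

theorem eW_lt (i : Fin 16) : (Fin.castLE (by decide : 16 ≤ 64) i).val < 16 := i.isLt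

theorem ew_inv (x : Fin 64) : (ew x)⁻¹ = ew x := inv_eq_of_mul_eq_one_left (ew_sq x)

theorem ew_comm (x j : Fin 64) : ew x * ew j = ew j * ew x := by
  rw [hmulw, hmulw, xor_comm64]

theorem syl_hyps
    (hdec1 : ∀ g ∈ Subgroup.centralizer ({zE} : Set G), ∃ a i, g = wOf a * fH i)
    (hdec2 : ∀ g ∈ Subgroup.centralizer ({zE} : Set G), (∀ a, (wOf a)⁻¹ * g * wOf a ∈ H0) → g = 1) :
    eW 0 = 1 ∧ eW 1 = zE ∧ Function.Injective eW ∧ (∀ i j, ∃ k, eW i * eW j = eW k) ∧
    (∀ i, eW i * zE = zE * eW i) ∧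
    (∀ c : G, c * zE = zE * c → ∀ i, ∃ j, c * eW i * c⁻¹ = eW j) ∧
    (∀ c : G, c * zE = zE * c → (∀ i, c * eW i = eW i * c) → ∃ i, c = eW i) ∧
    (∀ j : Fin 16, j ≠ 0 → j ≠ 1 → ∃ c : G, c * zE = zE * c ∧ c * eW 2 * c⁻¹ = eW j) := by
  have hmem : ∀ c : G, c * zE = zE * c → c ∈ Subgroup.centralizer ({zE} : Set G) := by
    intro c hc
    rw [Subgroup.mem_centralizer_iff]
    intro y hy
    rw [Set.mem_singleton_iff] at hy
    rw [hy]; exact hc.symm
  refine ⟨ew_zero, ew_one, ?_, ?_, ?_, ?_, ?_, ?_⟩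
  · intro i j h
    have h1 := ew_inj _ _ (eW_lt i) (eW_lt j) h
    exact Fin.castLE_injective _ h1
  · intro i j
    obtain ⟨k, hk⟩ := eW_of _ (xor_lt16 _ _ (eW_lt i) (eW_lt j))
    exact ⟨k, by rw [hk]; exact hmulw _ _⟩
  · intro i
    show ew _ * zE = zE * ew _
    rw [← ew_one, hmulw, hmulw, xor_one_comm]
  · intro c hc i
    obtain ⟨a, k, rfl⟩ := hdec1 c (hmem c hc)
    obtain ⟨j, hj, e1⟩ := hnorm' (fH k) (mem_fH k) _ (eW_lt i)
    obtain ⟨j', hj'⟩ := eW_of j hj
    refine ⟨j', ?_⟩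
    rw [hj']
    have e1' : fH k * eW i * (fH k)⁻¹ = ew j := e1
    calc wOf a * fH k * eW i * (wOf a * fH k)⁻¹
        = wOf a * (fH k * eW i * (fH k)⁻¹) * (wOf a)⁻¹ := by group
      _ = ew j := by
        rw [e1']
        unfold wOf
        rw [ew_inv, hmulw, hmulw, xor_conj]
  · intro c hc hall
    obtain ⟨a, k, rfl⟩ := hdec1 c (hmem c hc)
    have hb : ∀ b : Fin 64, b.val < 16 → fH k * ew b = ew b * fH k := by
      intro b hb
      obtain ⟨i, hi⟩ := eW_of b hb
      have h1 := hall i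
      rw [hi] at h1
      have h2 : wOf a * (fH k * ew b) = wOf a * (ew b * fH k) := by
        rw [← mul_assoc, h1, ← mul_assoc]
        unfold wOf
        rw [ew_comm, mul_assoc]
      exact mul_left_cancel h2
    have hcen : fH k ∈ Subgroup.centralizer ({zE} : Set G) := hmem _ (hcz _ (mem_fH k))
    have h1 := hdec2 _ hcen (by
      intro a'
      have := hb (iota a') (iota_lt a')
      have e : (wOf a')⁻¹ * fH k * wOf a' = fH k := by
        unfold wOf
        rw [mul_assoc, this, ← mul_assoc, inv_mul_cancel, one_mul]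
      rw [e]
      exact mem_fH k)
    obtain ⟨i, hi⟩ := eW_of (iota a) (iota_lt a)
    exact ⟨i, by rw [hi, h1, mul_one]; rfl⟩
  · intro j hj0 hj1
    have h := List.all_eq_true.mp chk_tr j.val (List.mem_range.mpr j.isLt)
    rw [Bool.or_eq_true] at h
    rcases h with h | h
    · exfalso
      have h2 : j.val ≤ 1 := Nat.le_of_ble_eq_true h
      have h3 : j.val ≠ 0 := fun e => hj0 (Fin.ext e)
      have h4 : j.val ≠ 1 := fun e => hj1 (Fin.ext e)
      omega
    · obtain ⟨L, -, hL⟩ := List.any_eq_true.mp h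
      have hL' : (tabC L 2).val = j.val := Nat.eq_of_beq_eq_true hL
      refine ⟨Wd (hWd L), hcz _ (mem_word L), ?_⟩
      have h1 := act_word L 2
      have e2 : eW 2 = ew 2 := rfl
      have ej : eW j = ew (tabC L 2) := by
        unfold eW
        congr 1
        exact Fin.ext hL'.symm
      rw [e2, ej]
      exact h1

end Cfsg.Agent.Lib.Helper70.HeOSylH
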