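import Cfsg.Agent.Lib.Helper70.HeODefs

/-! Kernel checks for S2075 (helper70), part 4: word identities in the presented Held group
(the swap of the generators `f, g` preserves the relators; the conjugator normalising the swap;
the generators `a, b, c, e` in the normal form `ew i · h_L`). -/

set_option autoImplicit false
set_option maxRecDepth 1000000

namespace Cfsg.Agent.Lib.Helper70.HeO

open Cfsg.Agent.Lib.Helper39.HeOrd Cfsg.Agent.Lib.Helper38 Cfsg.Agent.Lib.Helper70.HeC

/-- the swap of the generators `f` and `g` -/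
def sw (s : ℕ) : ℕ := if s = 5 then 6 else if s = 6 then 5 else s

/-- the word of the conjugator -/
def c0w : List ℕ := [3, 2, 4, 3, 2, 3, 6, 1, 2, 3, 4, 5, 3, 2, 1, 6, 3, 2, 1, 0, 1, 3, 2, 3, 5, 4, 1, 2, 1, 5, 1, 5, 3, 4, 5, 3, 6, 1, 2, 3, 4, 5, 3, 2, 1, 3, 5, 6, 3]

theorem chk_sw : HeP.words.all (fun w => chkB (w.map sw)) = true := by decide +kernel

theorem chk_tau1 : chkB (c0w ++ [6] ++ c0w.reverse ++ ([5] : List ℕ).reverse) = true := by
  decide +kernel

theorem chk_tau2 : chkB (c0w ++ (hWd [0]).map sw ++ c0w.reverse ++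
    ((hWd [0]).reverse).reverse) = true := by decide +kernel

theorem chk_tau3 : chkB (c0w ++ (hWd [1, 0, 1, 0, 0, 1, 0, 0]).map sw ++ c0w.reverse ++
    (hWd [1, 0, 1, 0, 0, 1, 0, 0]).reverse) = true := by decide +kernel

theorem chk_ga : chkB ([0] ++ (fW 6 ++ hWd [2, 1, 2, 1]).reverse) = true := by decide +kernel
theorem chk_gb : chkB ([1] ++ (fW 13 ++ hWd [0, 0, 1, 0, 0, 1]).reverse) = true := by
  decide +kernel
theorem chk_gc : chkB ([2] ++ (fW 7 ++ hWd [0, 1, 0, 1, 0, 0, 0]).reverse) = true := by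
  decide +kernel
theorem chk_ge : chkB ([4] ++ (fW 0 ++ hWd [0, 0, 0, 2, 0, 0, 0, 0]).reverse) = true := by
  decide +kernel

theorem chk_l7 : (hWd [0]).all (fun s => Nat.blt s 7) = true := by decide
theorem chk_l3 : (hWd [1, 0, 1, 0, 0, 1, 0, 0]).all (fun s => Nat.blt s 7) = true := by decide

/-- the words of the factors of `d`: `x, t, u` (codes 0, 1, 2), `g` (6), `ew 4` (8) and an element
of `C(f)` in normal form (7) -/
def wdOf (c : ℕ) : List ℕ :=
  if c = 6 then [6] else if c = 7 then fW 12 ++ hWd [2, 1, 0, 0, 1, 0, 1, 0, 1]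
  else if c = 8 then fW 4 else hGW (hIdx c).val

/-- the factors of `d` -/
def dsC : List ℕ := [2, 6, 2, 0, 6, 0, 6, 8, 6, 0, 1, 0, 6, 0, 6, 0, 6, 7]

theorem chk_d : chkB ([3] ++ (dsC.flatMap wdOf).reverse) = true := by decide +kernel

end Cfsg.Agent.Lib.Helper70.HeO
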