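import Cfsg.Agent.Lib.Helper70.HeOChk2
import Cfsg.Agent.Lib.Helper70.HeOWords
import Cfsg.Agent.Lib.Helper97.HeODEC
import Cfsg.Agent.Lib.Helper3.HeOSYL2
import Cfsg.Agent.Lib.Helper21.HeOSYL7
import Cfsg.Agent.Lib.Helper60.HeOFIN
import Cfsg.Agent.Lib.Helper43.HeOHOM
import Cfsg.Agent.Lib.Helper17.HeOSYLC
import Cfsg.Agent.Lib.Helper87.HeOCENT
import Cfsg.Agent.Lib.Helper94.HeOH3FIN
import Cfsg.Agent.Lib.Helper76.HeOCHASE
import Cfsg.Agent.Lib.Helper61.HeONOINV
import Cfsg.Agent.Lib.Helper21.HeOREPM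
import Cfsg.Agent.Lib.Helper70.HeORepX
import Cfsg.Agent.Lib.Helper70.HeORepI
import Cfsg.Agent.Lib.Helper70.HeOSylH

/-! The outer automorphism group of the presented Held group has order 2 (helper70, for S2075).

* `z = f`, `C(f) = W ⋊ H₀` of order 21504 (S2134 data; piece DEC by helper97); every element of `C(f)`
  has a table on the 16 cosets of `H₀` and computations in `C(f)` are kernel computations in tables
  (piece REPM by helper21; REPI, REPX);
* a Sylow 2-subgroup of `C(f)` has centre `⟨f⟩` and is a Sylow 2-subgroup of the group, so every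
  automorphism maps `f` to a conjugate (pieces SYLC, SYLH, SYL2);
* an automorphism fixing `f` can be normalised by `C(f)` to map `(x7, x3)` to `(x7^{±1}, x3)`
  (piece SYL7); if it fixes `x7, x3`, it fixes `u, ew 2, ew 4, ew 8, t` (determined by relations, piece
  CHASE), hence `C(f)` pointwise, and then it is `1` or conjugation by `f` (piece H3FIN);
* the swap of the generators `f, g` preserves the relators; composed with a conjugation it fixes
  `f, x3` and inverts `x7`, which no element of `C(f)` does (pieces HOM, NOINV);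
* the count (piece FIN). -/

set_option autoImplicit false
set_option maxRecDepth 100000

namespace Cfsg.Agent.Lib.Helper70.HeO

open Cfsg.Agent.Lib.Helper39.HeOrd Cfsg.Agent.Lib.Helper38 Cfsg.Agent.Lib.Helper70.HeC
open Cfsg.Agent.Lib.Helper70.HeM (Wd Wd_nil Wd_append Wd_reverse Wd_one Wd_eq Wd_conj tabF)
open Cfsg.Agent.Lib.Helper76.HeOCHASE (chase)
open Cfsg.Agent.Lib.Helper61.HeONOINV (no_inverter)
open Cfsg.Agent.Lib.Helper21.HeOREPM (rp_one rp_mul)
open Cfsg.Agent.Lib.Helper70.HeORepI (rp_inj rp_fun)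
open Cfsg.Agent.Lib.Helper70.HeORepX (rp_ex rp_comm rp_val)
open Cfsg.Agent.Lib.Helper70.HeOSylH (eW syl_hyps)

/-! ### The decomposition and the tables -/

theorem dec : (∀ g ∈ Subgroup.centralizer ({zE} : Set G), ∃ a i, g = wOf a * fH i) ∧
    (∀ g ∈ Subgroup.centralizer ({zE} : Set G), (∀ a, (wOf a)⁻¹ * g * wOf a ∈ H0) → g = 1) ∧
    Nat.card (Subgroup.centralizer ({zE} : Set G)) = 21504 :=
  Cfsg.Agent.Lib.Helper97.HeODEC.cent_decomp zE wOf hadd hw0 H0 hWH hnorm hcz hub fH mem_fH hdist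

theorem R1 : Rp 1 idT := rp_one
theorem Rm : ∀ (g h : G) (N M : List ℕ), Rp g N → Rp h M → Rp (g * h) (tcomp N M) := rp_mul
theorem Rinj : ∀ (g h : G) (N : List ℕ), Rp g N → Rp h N → g = h := rp_inj dec.2.1
theorem Rfun : ∀ (g : G) (N M : List ℕ), Rp g N → Rp g M → N = M := rp_fun
theorem Rex : ∀ g : G, g * zE = zE * g → ∃ N ∈ allT, Rp g N := rp_ex dec.1

theorem rp_pow {g : G} {N : List ℕ} (h : Rp g N) : ∀ k : ℕ, Rp (g ^ k) (tpw tcomp idT N k)
  | 0 => by rw [pow_zero]; exact R1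
  | k + 1 => by rw [pow_succ']; exact Rm _ _ _ _ h (rp_pow h k)

theorem forall2_map (f : ℕ → G) (t : ℕ → List ℕ) (h : ∀ k, Rp (f k) (t k)) :
    ∀ l : List ℕ, List.Forall₂ Rp (l.map f) (l.map t)
  | [] => List.Forall₂.nil
  | k :: l => List.Forall₂.cons (h k) (forall2_map f t h l)

theorem ofNat_lt (i : ℕ) (hi : i < 64) : (Fin.ofNat 64 i).val = i := Nat.mod_eq_of_lt hi

theorem val_word (i : ℕ) (hi : i < 64) (L : List ℕ) : val i L = Wd (fW i ++ hWd L) := by
  unfold val
  rw [ew_eq, Wd_append, ofNat_lt i hi]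

theorem val_zero (L : List ℕ) : val 0 L = Wd (hWd L) := by
  rw [val_word 0 (by decide) L]
  rfl

theorem val_nil (i : ℕ) : val i [] = ew (Fin.ofNat 64 i) := by
  unfold val
  show ew (Fin.ofNat 64 i) * Wd [] = _
  rw [Wd_nil, mul_one]

theorem z_eq : zE = γ 5 := by simp [zE, Wd]

theorem val_z : val 1 [] = zE := by
  rw [val_nil]
  exact ew_one

/-- the element of order 7 -/
noncomputable def x7 : G := val 0 [0]

/-- the element of order 3 -/
noncomputable def x3 : G := val 0 L3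

theorem rz : Rp zE TZ := by
  have h := rp_val 1 (by decide) []
  rwa [TZ_eq, val_z] at h

theorem r7 : Rp x7 T7 := by
  have h := rp_val 0 (by decide) [0]
  rwa [T7_eq] at h

theorem r3 : Rp x3 T3 := by
  have h := rp_val 0 (by decide) L3
  rwa [T3_eq] at h

theorem rU : Rp (val 0 [2]) TU := by
  have h := rp_val 0 (by decide) [2]
  rwa [TU_eq] at h

theorem rW2 : Rp (val 2 []) TW2 := by
  have h := rp_val 2 (by decide) []
  rwa [TW2_eq] at h

theorem rW4 : Rp (val 4 []) TW4 := by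
  have h := rp_val 4 (by decide) []
  rwa [TW4_eq] at h

theorem rW8 : Rp (val 8 []) TW8 := by
  have h := rp_val 8 (by decide) []
  rwa [TW8_eq] at h

theorem rT : Rp (val 0 [1]) TT := by
  have h := rp_val 0 (by decide) [1]
  rwa [TT_eq] at h

/-! ### The hypotheses of the Sylow 7 normalisation -/

theorem hz2 : zE * zE = 1 := by
  have h := ew_sq 1
  rwa [ew_one] at h

theorem hx7 : x7 ^ 7 = 1 := by
  have h := rp_pow r7 7
  rw [T7_pow7] at h
  exact Rinj _ _ _ h R1

theorem hx71 : x7 ≠ 1 := by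
  intro h
  have h1 := r7
  rw [h] at h1
  exact T7_ne (Rfun _ _ _ h1 R1)

theorem hx33 : x3 ^ 3 = 1 := by
  have h := rp_pow r3 3
  rw [T3_pow3] at h
  exact Rinj _ _ _ h R1

theorem hx3 : x3 * x7 * x3⁻¹ = x7 ^ 2 := by
  have h1 := Rm _ _ _ _ r3 r7
  have h2 := Rm _ _ _ _ (rp_pow r7 2) r3
  rw [← T37] at h2
  have h : x3 * x7 = x7 ^ 2 * x3 := Rinj _ _ _ h1 h2
  rw [h, mul_inv_cancel_right]

theorem hcent : ∀ c : G, c * zE = zE * c → c * x7 = x7 * c → ∃ e j : ℕ, c = zE ^ e * x7 ^ j := by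
  intro c hc hc7
  have hk : ∀ N ∈ allT, (∀ Y ∈ [T7], tcomp N Y = tcomp Y N) → N ∈ L14 := by
    intro N hN hY
    have h := List.all_eq_true.mp chk_cent7 N hN
    have h7 : tcomp N T7 = tcomp T7 N := hY T7 (List.mem_singleton.mpr rfl)
    unfold pCent7 at h
    rw [Bool.or_eq_true] at h
    rcases h with h | h
    · rw [Bool.not_eq_true', decide_eq_false_iff_not] at h
      exact absurd h7 h
    · exact List.contains_iff_mem.mp h
  have hzs := forall2_map (fun k => zE ^ (k / 7) * x7 ^ (k % 7))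
    (fun k => tcomp (tpw tcomp idT TZ (k / 7)) (tpw tcomp idT T7 (k % 7)))
    (fun k => Rm _ _ _ _ (rp_pow rz _) (rp_pow r7 _)) (List.range 14)
  have hm := Cfsg.Agent.Lib.Helper87.HeOCENT.cent_list tcomp Rp zE allT Rm Rinj Rfun Rex [x7] [T7]
    (List.Forall₂.cons r7 List.Forall₂.nil) _ L14 hzs hk c hc
    (by
      intro y hy
      rw [List.mem_singleton] at hy
      rw [hy]; exact hc7)
  obtain ⟨k, -, hk2⟩ := List.mem_map.mp hm
  exact ⟨k / 7, k % 7, hk2.symm⟩

/-! ### Automorphisms fixing `f, x7, x3` -/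

theorem chase' (fx : List G) (fxT : List (List ℕ)) (hfx : List.Forall₂ Rp fx fxT) (i : ℕ)
    (hi : i < 16) (L : List ℕ) (N0 : List ℕ) (hN0 : tabOf i L = N0)
    (rels : List (List ℕ × ℕ × List ℕ))
    (h0 : rels.all (relT tcomp idT fxT N0) = true)
    (hu : allT.all (fun N => !(rels.all (relT tcomp idT fxT N)) || decide (N = N0)) = true)
    (φ : MulAut G) (hz : φ zE = zE) (hφ : ∀ y ∈ fx, φ y = y) : φ (val i L) = val i L := by
  have hs : Rp (val i L) N0 := by
    have h := rp_val i hi L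
    rwa [hN0] at h
  refine chase tcomp idT Rp zE allT R1 Rm Rinj Rfun Rex fx fxT hfx (val i L) N0 hs
    (rp_comm _ _ hs) rels (List.all_eq_true.mp h0) ?_ φ hz hφ
  intro N hN hr
  have h : (!(rels.all (relT tcomp idT fxT N)) || decide (N = N0)) = true :=
    List.all_eq_true.mp hu N hN
  have h2 : rels.all (relT tcomp idT fxT N) = true := List.all_eq_true.mpr hr
  rw [h2] at h
  simpa using h

theorem bits16 : ∀ i : Fin 64, i.val < 16 →
    i = (if i.val.testBit 0 then 1 else 0) ^^^ (if i.val.testBit 1 then 2 else 0) ^^^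
      (if i.val.testBit 2 then 4 else 0) ^^^ (if i.val.testBit 3 then 8 else 0) := by decide

theorem fix_xor (φ : MulAut G) (i j : Fin 64) (hi : φ (ew i) = ew i) (hj : φ (ew j) = ew j) :
    φ (ew (i ^^^ j)) = ew (i ^^^ j) := by
  rw [← hmulw, map_mul, hi, hj]

theorem val_letter (c : ℕ) : val 0 [c] = Wd (hGW (hIdx c).val) := by
  rw [val_zero]
  show Wd (hGW (hIdx c).val ++ []) = _
  rw [List.append_nil]

section fix

variable (φ : MulAut G) (hz : φ zE = zE) (h7 : φ x7 = x7) (h3 : φ x3 = x3)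
include hz h7 h3

theorem fixU : φ (val 0 [2]) = val 0 [2] :=
  chase' [zE, x7, x3] fxU (.cons rz (.cons r7 (.cons r3 .nil))) 0 (by decide) [2] TU TU_eq relsU
    chk_u0 chk_u φ hz (by
      intro y hy
      simp only [List.mem_cons, List.not_mem_nil, or_false] at hy
      rcases hy with rfl | rfl | rfl
      · exact hz
      · exact h7
      · exact h3)

theorem fixW2 : φ (val 2 []) = val 2 [] :=
  chase' [zE, x7, x3, val 0 [2]] fxW2 (.cons rz (.cons r7 (.cons r3 (.cons rU .nil)))) 2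
    (by decide) [] TW2 TW2_eq relsW2 chk_w20 chk_w2 φ hz (by
      intro y hy
      simp only [List.mem_cons, List.not_mem_nil, or_false] at hy
      rcases hy with rfl | rfl | rfl | rfl
      · exact hz
      · exact h7
      · exact h3
      · exact fixU φ hz h7 h3)

theorem fixW4 : φ (val 4 []) = val 4 [] :=
  chase' [zE, x7, x3, val 0 [2], val 2 []] fxW4
    (.cons rz (.cons r7 (.cons r3 (.cons rU (.cons rW2 .nil))))) 4
    (by decide) [] TW4 TW4_eq relsW4 chk_w40 chk_w4 φ hz (by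
      intro y hy
      simp only [List.mem_cons, List.not_mem_nil, or_false] at hy
      rcases hy with rfl | rfl | rfl | rfl | rfl
      · exact hz
      · exact h7
      · exact h3
      · exact fixU φ hz h7 h3
      · exact fixW2 φ hz h7 h3)

theorem fixW8 : φ (val 8 []) = val 8 [] :=
  chase' [zE, x7, x3, val 0 [2], val 2 [], val 4 []] fxW8
    (.cons rz (.cons r7 (.cons r3 (.cons rU (.cons rW2 (.cons rW4 .nil)))))) 8
    (by decide) [] TW8 TW8_eq relsW8 chk_w80 chk_w8 φ hz (by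
      intro y hy
      simp only [List.mem_cons, List.not_mem_nil, or_false] at hy
      rcases hy with rfl | rfl | rfl | rfl | rfl | rfl
      · exact hz
      · exact h7
      · exact h3
      · exact fixU φ hz h7 h3
      · exact fixW2 φ hz h7 h3
      · exact fixW4 φ hz h7 h3)

theorem fixT : φ (val 0 [1]) = val 0 [1] :=
  chase' [zE, x7, x3, val 0 [2], val 2 [], val 4 [], val 8 []] fxT
    (.cons rz (.cons r7 (.cons r3 (.cons rU (.cons rW2 (.cons rW4 (.cons rW8 .nil))))))) 0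
    (by decide) [1] TT TT_eq relsT chk_t0 chk_t φ hz (by
      intro y hy
      simp only [List.mem_cons, List.not_mem_nil, or_false] at hy
      rcases hy with rfl | rfl | rfl | rfl | rfl | rfl | rfl
      · exact hz
      · exact h7
      · exact h3
      · exact fixU φ hz h7 h3
      · exact fixW2 φ hz h7 h3
      · exact fixW4 φ hz h7 h3
      · exact fixW8 φ hz h7 h3)

theorem fixE : ∀ i : Fin 64, i.val < 16 → φ (ew i) = ew i := by
  have e0 : φ (ew 0) = ew 0 := by rw [ew_zero, map_one]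
  have e1 : φ (ew 1) = ew 1 := by rw [ew_one]; exact hz
  have e2 : φ (ew 2) = ew 2 := by
    have h := fixW2 φ hz h7 h3
    rwa [val_nil] at h
  have e4 : φ (ew 4) = ew 4 := by
    have h := fixW4 φ hz h7 h3
    rwa [val_nil] at h
  have e8 : φ (ew 8) = ew 8 := by
    have h := fixW8 φ hz h7 h3
    rwa [val_nil] at h
  intro i hi
  rw [bits16 i hi]
  refine fix_xor φ _ _ (fix_xor φ _ _ (fix_xor φ _ _ ?_ ?_) ?_) ?_
  · split_ifs
    · exact e1
    · exact e0
  · split_ifs
    · exact e2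
    · exact e0
  · split_ifs
    · exact e4
    · exact e0
  · split_ifs
    · exact e8
    · exact e0

theorem fixL (c : ℕ) : φ (Wd (hGW (hIdx c).val)) = Wd (hGW (hIdx c).val) := by
  by_cases h0 : c = 0
  · subst h0
    rw [← val_letter]; exact h7
  · by_cases h1 : c = 1
    · subst h1
      rw [← val_letter]; exact fixT φ hz h7 h3
    · have e : hIdx c = hIdx 2 := by
        unfold hIdx
        rw [if_neg h0, if_neg h1]
        rfl
      rw [e, ← val_letter]
      exact fixU φ hz h7 h3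

theorem fixH : ∀ L : List ℕ, φ (Wd (hWd L)) = Wd (hWd L)
  | [] => by
    show φ (Wd []) = Wd []
    rw [Wd_nil, map_one]
  | c :: L => by
    show φ (Wd (hGW (hIdx c).val ++ hWd L)) = Wd (hGW (hIdx c).val ++ hWd L)
    rw [Wd_append, map_mul, fixL φ hz h7 h3 c, fixH L]

theorem fixC : ∀ c : G, c * zE = zE * c → φ c = c := by
  intro c hc
  have hm : c ∈ Subgroup.centralizer ({zE} : Set G) := by
    rw [Subgroup.mem_centralizer_iff]
    intro y hy
    rw [Set.mem_singleton_iff] at hy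
    rw [hy]; exact hc.symm
  obtain ⟨a, j, rfl⟩ := dec.1 c hm
  rw [map_mul]
  have e1 : φ (wOf a) = wOf a := fixE φ hz h7 h3 _ (iota_lt a)
  have e2 : φ (fH j) = fH j := fixH φ hz h7 h3 _
  rw [e1, e2]

end fix

/-! ### The generators -/

theorem gam (s : ℕ) : Wd [s] = γ s := by simp [Wd]

theorem gen_val (s i : ℕ) (L : List ℕ) (hi : i < 64)
    (h : chkB ([s] ++ (fW i ++ hWd L).reverse) = true) : γ s = val i L := by
  rw [val_word i hi L, ← Wd_eq h, gam]

theorem rA : Rp (γ 0) TA := by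
  have h := rp_val 6 (by decide) [2, 1, 2, 1]
  rwa [TA_eq, ← gen_val 0 6 _ (by decide) chk_ga] at h

theorem rB : Rp (γ 1) TB := by
  have h := rp_val 13 (by decide) [0, 0, 1, 0, 0, 1]
  rwa [TB_eq, ← gen_val 1 13 _ (by decide) chk_gb] at h

theorem rC : Rp (γ 2) TC := by
  have h := rp_val 7 (by decide) [0, 1, 0, 1, 0, 0, 0]
  rwa [TC_eq, ← gen_val 2 7 _ (by decide) chk_gc] at h

theorem rE : Rp (γ 4) TE := by
  have h := rp_val 0 (by decide) [0, 0, 0, 2, 0, 0, 0, 0]
  rwa [TE_eq, ← gen_val 4 0 _ (by decide) chk_ge] at h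

theorem rF : Rp (γ 5) TZ := by
  rw [← z_eq]; exact rz

theorem comm_of (s t : ℕ) (h : [s, t, s, t] ∈ HeP.words) : γ s * γ t = γ t * γ s := by
  have h1 := HeP.of_words [s, t, s, t] h
  simp only [List.map_cons, List.map_nil, List.prod_cons, List.prod_nil, mul_one] at h1
  have h2 : γ s * (γ t * (γ s * γ t)) = 1 := h1
  calc γ s * γ t = (γ s * (γ t * (γ s * γ t))) * ((γ t)⁻¹ * (γ s)⁻¹) := by group
    _ = γ t * γ s := by rw [h2, one_mul, γ_inv, γ_inv]

theorem he4 : γ 4 = γ 5 * γ 6 * γ 5 * γ 6 := by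
  have h := id_e'
  calc γ 4 = (γ 4 * (γ 6 * (γ 5 * (γ 6 * γ 5)))) * ((γ 5)⁻¹ * (γ 6)⁻¹ * (γ 5)⁻¹ * (γ 6)⁻¹) := by
        group
    _ = γ 5 * γ 6 * γ 5 * γ 6 := by rw [h, one_mul, γ_inv, γ_inv]

theorem g3_ne : γ 3 ≠ 1 := by
  intro h
  have h5 := id_f
  rw [h, mul_one, mul_inv_cancel] at h5
  exact z_ne (z_eq.trans h5)

theorem g4_ne : γ 4 ≠ 1 := by
  intro h
  have h3 := id_d
  rw [h, mul_one, mul_inv_cancel] at h3
  exact g3_ne h3

theorem g6_ne : γ 6 ≠ 1 := by
  intro h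
  have h6 := id_g
  rw [h] at h6
  have h7 : ([3, 6].map γ).prod * γ 3 * (([3, 6].map γ).prod)⁻¹ = 1 := h6.symm
  rw [mul_inv_eq_one] at h7
  exact g3_ne (mul_left_cancel (h7.trans (mul_one _).symm))

theorem hZ1 : ∀ c : G, c * γ 5 = γ 5 * c → c * γ 0 = γ 0 * c → c * γ 1 = γ 1 * c →
    c * γ 2 = γ 2 * c → c * γ 4 = γ 4 * c → c = 1 ∨ c = γ 4 ∨ c = γ 5 ∨ c = γ 4 * γ 5 := by
  intro c h5 h0 h1 h2 h4
  have hk : ∀ N ∈ allT, (∀ Y ∈ [TA, TB, TC, TE], tcomp N Y = tcomp Y N) →
      N ∈ [idT, TE, TZ, tcomp TE TZ] := by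
    intro N hN hY
    have h := List.all_eq_true.mp chk_z1 N hN
    unfold pZ1 at h
    rw [Bool.or_eq_true] at h
    rcases h with h | h
    · exfalso
      rw [Bool.not_eq_true'] at h
      have h' : [TA, TB, TC, TE].all (fun Y => decide (tcomp N Y = tcomp Y N)) = true := by
        rw [List.all_eq_true]
        intro Y hYm
        exact decide_eq_true (hY Y hYm)
      rw [h'] at h
      exact Bool.noConfusion h
    · exact List.contains_iff_mem.mp h
  have hm := Cfsg.Agent.Lib.Helper87.HeOCENT.cent_list tcomp Rp zE allT Rm Rinj Rfun Rex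
    [γ 0, γ 1, γ 2, γ 4] [TA, TB, TC, TE] (.cons rA (.cons rB (.cons rC (.cons rE .nil))))
    [1, γ 4, γ 5, γ 4 * γ 5] [idT, TE, TZ, tcomp TE TZ]
    (.cons R1 (.cons rE (.cons rF (.cons (Rm _ _ _ _ rE rF) .nil)))) hk c (by rw [z_eq]; exact h5)
    (by
      intro y hy
      simp only [List.mem_cons, List.not_mem_nil, or_false] at hy
      rcases hy with rfl | rfl | rfl | rfl
      · exact h0
      · exact h1
      · exact h2
      · exact h4)
  simpa only [List.mem_cons, List.not_mem_nil, or_false] using hm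

/-! ### The generator `d` -/

theorem prod_wd : ∀ l : List ℕ, (l.map (fun c => Wd (wdOf c))).prod = Wd (l.flatMap wdOf)
  | [] => by simp [Wd]
  | c :: l => by
    rw [List.map_cons, List.prod_cons, List.flatMap_cons, Wd_append, prod_wd l]

theorem hd3 : γ 3 = (dsC.map (fun c => Wd (wdOf c))).prod := by
  rw [prod_wd, ← gam 3]
  exact Wd_eq chk_d

theorem hds : ∀ y ∈ dsC.map (fun c => Wd (wdOf c)), y = γ 6 ∨ y * γ 5 = γ 5 * y := by
  intro y hy
  obtain ⟨c, -, rfl⟩ := List.mem_map.mp hy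
  unfold wdOf
  split_ifs with h6 h7 h8
  · left; exact gam 6
  · right
    rw [← val_word 12 (by decide), ← z_eq]
    exact rp_comm _ _ (rp_val 12 (by decide) _)
  · right
    have h := rp_comm _ _ (rp_val 4 (by decide) [])
    rw [val_word 4 (by decide)] at h
    rw [← z_eq]
    have e : fW 4 ++ hWd [] = fW 4 := List.append_nil _
    rwa [e] at h
  · right
    rw [← z_eq]
    exact hcz _ (mem_gen _)

/-! ### Inner automorphisms -/

theorem h3 (φ : MulAut G) (hz : φ zE = zE) (h7 : φ x7 = x7) (h3' : φ x3 = x3) :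
    ∃ g : G, ∀ x, φ x = g * x * g⁻¹ :=
  Cfsg.Agent.Lib.Helper94.HeOH3FIN.inner_of_fix_cent γ gens_top hγ
    (comm_of 0 5 (by decide)) (comm_of 1 5 (by decide)) (comm_of 2 5 (by decide))
    (comm_of 4 5 (by decide))
    (comm_of 0 6 (by decide)).symm (comm_of 1 6 (by decide)).symm (comm_of 2 6 (by decide)).symm
    (comm_of 4 6 (by decide)).symm he4 g4_ne hZ1 _ hds hd3 φ
    (fun c hc => fixC φ hz h7 h3' c (by rw [z_eq]; exact hc))

theorem h2 (φ : MulAut G) (hz : φ zE = zE) : ∃ c : G, c * zE = zE * c ∧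
    ((c * φ x7 * c⁻¹ = x7 ∧ c * φ x3 * c⁻¹ = x3) ∨
      (c * φ x7 * c⁻¹ = x7⁻¹ ∧ c * φ x3 * c⁻¹ = x3)) :=
  Cfsg.Agent.Lib.Helper21.HeOSYL7.normalize_seven zE x7 x3 dec.2.2 hz2 hx7 hx71 (rp_comm _ _ r7)
    hx33 (rp_comm _ _ r3) hx3 hcent φ hz

theorem h1 (φ : MulAut G) : ∃ g : G, φ zE = g * zE * g⁻¹ := by
  obtain ⟨he0, he1, hinj, hmul, hez, hnorm, hself, htr⟩ := syl_hyps dec.1 dec.2.1
  obtain ⟨S, hS, hzS, hzc, hZ⟩ := Cfsg.Agent.Lib.Helper17.HeOSYLC.sylow_center_exists zE eW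
    dec.2.2 he0 he1 z_ne hinj hmul hez hnorm hself htr
  have hG : ¬ 2 ^ (10 + 1) ∣ Nat.card G := by
    rw [he_card]; norm_num
  exact Cfsg.Agent.Lib.Helper3.HeOSYL2.aut_conj_of_sylow_center zE S 10 hS hG hzS z_ne hzc hZ φ

/-! ### The outer automorphism -/

/-- the images of the generators under the swap -/
noncomputable def sg (s : ℕ) : G := γ (sw s)

theorem sg_sq : ∀ s, sg s * sg s = 1 := fun s => hγ (sw s)

theorem sg_words : ∀ w ∈ HeP.words, (w.map sg).prod = 1 := by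
  intro w hw
  have h := word_one (w.map sw) (List.all_eq_true.mp chk_sw w hw)
  rw [List.map_map] at h
  exact h

/-- the swap of `f` and `g` as an endomorphism -/
noncomputable def sigma : G →* G :=
  PresentedGroup.toGroup (f := fun x => sg (HeP.idx x)) (HeP.lift_one sg sg_sq sg_words)

theorem sigma_gen (s : ℕ) (hs : s < 7) : sigma (γ s) = γ (sw s) := by
  have h : sigma (PresentedGroup.of (HeP.gen s)) = sg (HeP.idx (HeP.gen s)) :=
    PresentedGroup.toGroup.of _
  rw [HeP.idx_gen s hs] at h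
  exact h

theorem sigma_Wd : ∀ w : List ℕ, (∀ s ∈ w, s < 7) → sigma (Wd w) = Wd (w.map sw)
  | [], _ => by
    show sigma (Wd []) = Wd []
    rw [Wd_nil, map_one]
  | s :: w, h => by
    have h1 := sigma_Wd w (fun t ht => h t (List.mem_cons_of_mem _ ht))
    have e1 : Wd (s :: w) = γ s * Wd w := by simp [Wd]
    have e2 : Wd ((s :: w).map sw) = γ (sw s) * Wd (w.map sw) := by simp [Wd]
    rw [e1, e2, map_mul, sigma_gen s (h s List.mem_cons_self), h1]

/-- the conjugator -/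
noncomputable def c0 : G := Wd c0w

theorem tau_ex : ∃ τ : MulAut G, ∀ x, τ x = c0 * sigma x * c0⁻¹ := by
  haveI : IsSimpleGroup G := he_simple
  have hne : sigma (γ 5) ≠ 1 := by
    rw [sigma_gen 5 (by decide)]
    exact g6_ne
  obtain ⟨τ0, hτ0⟩ := Cfsg.Agent.Lib.Helper43.HeOHOM.aut_of_hom sigma (γ 5) hne
  refine ⟨MulAut.conj c0 * τ0, ?_⟩
  intro x
  rw [MulAut.mul_apply, MulAut.conj_apply, hτ0]

theorem tau_z : c0 * sigma zE * c0⁻¹ = zE := by
  unfold zE
  rw [sigma_Wd [5] (by decide)]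
  exact Wd_conj chk_tau1

theorem tau_7 : c0 * sigma x7 * c0⁻¹ = x7⁻¹ := by
  unfold x7
  rw [val_zero, sigma_Wd _ (all7 chk_l7), ← Wd_reverse]
  exact Wd_conj chk_tau2

theorem tau_3 : c0 * sigma x3 * c0⁻¹ = x3 := by
  unfold x3
  rw [val_zero, sigma_Wd (hWd L3) (all7 chk_l3)]
  exact Wd_conj chk_tau3

theorem noinv : ∀ c : G, c * zE = zE * c → c * x7 * c⁻¹ ≠ x7⁻¹ := by
  refine no_inverter tcomp idT Rp zE allT R1 Rm Rfun Rex x7 T7 r7 hx7 ?_
  intro N hN
  have h := List.all_eq_true.mp chk_noinv N hN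
  unfold pNoinv at h
  rw [Bool.not_eq_true', decide_eq_false_iff_not] at h
  rw [T7_pow6]
  exact h

/-- **The outer automorphism group of the presented Held group has order 2.** -/
theorem he_out : Nat.card (Cfsg.Out G) = 2 := by
  obtain ⟨τ, hτ⟩ := tau_ex
  refine Cfsg.Agent.Lib.Helper60.HeOFIN.out_card_two zE x7 x3 h1 h2 h3 τ ?_ ?_ ?_ ?_
  · rw [hτ]; exact tau_z
  · rw [hτ]; exact tau_7
  · rw [hτ]; exact tau_3
  · rintro ⟨g, hg⟩
    have hz : g * zE * g⁻¹ = zE := by rw [← hg, hτ]; exact tau_z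
    have h7 : g * x7 * g⁻¹ = x7⁻¹ := by rw [← hg, hτ]; exact tau_7
    exact noinv g (mul_inv_eq_iff_eq_mul.mp hz) h7

end Cfsg.Agent.Lib.Helper70.HeO
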