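import Cfsg.Agent.Lib.Helper70.J1Tools

/-! Data for the normaliser `B = K ∪ nK` of the point stabiliser `K` in J1 (generated). -/

set_option autoImplicit false

namespace Cfsg.Agent.Lib.Helper70.J1

/-- Index of the coset representative `n` with `n v0 = -v0`. -/
def k1 : ℕ := 2920
/-- Code of `n`. -/
def NC : ℕ := 0x31a283a1128818a23318128313a188131a9318aa98a811983
def NKB : ℕ := 0x2617018263a232784078a07249a998040a97a6382519a81839469a6582619232699961392312695a6524a15912356433a222a63892423378a2a981663940283380a7187127749868146a19639a14555999569a29659146935a498699268a3a99963321693236a8a2916a549699916962167659278958165289a937171147970494009074499a426a707224707296aa4754191211983a8193818a933a3aa88a3a19313a128a8a12338aa983195000405700020008a10a00a83090013903420005000a930833999a68732498315a2120985894a4188807443412a4598539501585632571342181845496874a889646309689439a09a90570355624397216276598431407046870174945364824456a704848763574203650677669a5287010767755489394259484223342aaa85242520880438aa3273a4448425a63532a3223688365456465a46455a506638775147656678035734053767884a07198a381241927005aa349031027226332a231956843830a7a3719444935814592a58399428848a919815682402381a80431474248516834213925899384879a3599aa208372526691751aa968268517989a46659329958a29669193192263074051374859675927728877034145432670866760155622781101001880900189080000050791980800000709500090577120023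8945361881a1394a9a035a32322608747a8710922406180745264448742369203718443964754575003552971664959088978a47758218229a1a8690488a1887261638729834545008644986925997a55087137706a307489577546257448557437259646a27687672447108836605047a780052228454711774a0497024047420942617219977007251a772419a2462968123907979a6716339896a401173404329304013a91318224700725117494191275711477107270240477202795142123760323a03137a7984775539a8412528289382847152a3217909077179a7257004294147226119464a9444a7a1709704281519a21413330a7698588482493023589744487a238299a59645a335324809021989a15869605718689818749a534464970049241442951197671977417aa70270724202074a491726075840174975854827465057036659732721624662378170706989376a390559334a14894185590a8a223515248754528449702706a174224749020a21276495a7914117441497700423a25643a958298a65946952495a6298395aa981a6225a95224999875955773495967619768464877410873660505414800227097166878a9134206a7a044380279081138aa2882a995398239a542695166692a549193693a991513626222a53164323aa52a2a962995255488a589931962459a5496a5623896a2282402854a247432a533222a28a5a380a4a3358a462428343223a51913a752357093582638922a014a8833378242277487169a29959146965a498635268a39999633a99639aa15559914482083885448482451013041531288034283411250883280437a172846287467136589282870618192903205651a597835a3622a13aa80736a6837228848492038426a77427813296820a92304a83a218932958a2a90494325415301895a748a4370921575693598212a5a3a26292152a54825898915936961572347213a7618825a23210918689577757268248095386960153440563656617486464808453705365863365a75575a57676464a9199a725177141a7707927402407940722611402044429926a9623a2589155949659a2811783125552a55976122832a9233259a98aa5296196238195543a953222a65245552425106688446a7755667803648705876853886545676614646516a707873763677903660544559152870a0454465789827269431a283a1128818a23318128313a188131a9318aa98a811983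
def PHIB : ℕ := 0x2b20d82c503087617934e012c53e386d98c9756494dc4157efb8a6b374611b9ceda2a567b7c12a11cb1a80

end Cfsg.Agent.Lib.Helper70.J1
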