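import Cfsg.Agent.Lib.Helper70.J1BData

/-!
# Centralisers in J1 by certificate

Let `K` be the stabiliser of the vector `v0` and `n` an element with `n v0 = -v0`, so that
`B = K ∪ nK` is the stabiliser of the line through `v0`.  For `h ∈ B`, an element `g = u_k κ_c`
commuting with `h` maps `v0` to an eigenvector `v_k` of `h`, which leaves few `k`; for those, `h u_k`
lies in `u_k B`, and the condition on `c` is read off the multiplication table of `K`.
-/

set_option autoImplicit false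

namespace Cfsg.Agent.Lib.Helper70.J1

open Cfsg.Spor

/-- Checks `A *ᵥ v = -v`. -/
noncomputable def mvNegEq (A v : ℕ) : Bool :=
  allLt 7 fun i => Nat.beq (Nat.mod (Nat.add (pv A v i) (ent v i)) 11) 0

theorem mvNegEq_iff (A v : ℕ) : mvNegEq A v = true ↔ (dec A).mulVec (decV v) = -decV v := by
  unfold mvNegEq
  rw [allLt_iff]
  have key : ∀ i : ℕ, Nat.beq (Nat.mod (Nat.add (pv A v i) (ent v i)) 11) 0 = true ↔
      ((pv A v i : ℕ) : ZMod 11) = -((ent v i : ℕ) : ZMod 11) := by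
    intro i
    rw [eq_neg_iff_add_eq_zero, ← Nat.cast_add, ZMod.natCast_eq_zero_iff,
      Nat.dvd_iff_mod_eq_zero]
    constructor
    · intro h
      exact Nat.eq_of_beq_eq_true h
    · intro h
      have h' : Nat.mod (Nat.add (pv A v i) (ent v i)) 11 = 0 := h
      rw [h']
      rfl
  constructor
  · intro h
    ext i
    have := (key i.val).mp (h i.val i.isLt)
    rw [mulVec_dec_apply, this]
    rfl
  · intro h i hi
    rw [key]
    have := congrFun h ⟨i, hi⟩
    rwa [mulVec_dec_apply] at this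

/-- Code of the vector `u_k v0`. -/
def VK (k : ℕ) : ℕ := vc (U k) v0

theorem chkVK : allLt 3080 (fun k => mvEq (U k) v0 (VK k)) = true := by decide +kernel

theorem VK_spec (k : ℕ) (hk : k < 3080) : (dec (U k)).mulVec (decV v0) = decV (VK k) :=
  (mvEq_iff _ _ _).mp ((allLt_iff _ _).mp chkVK k hk)

/-- Code of `n * κ_c`. -/
def NKt (c : ℕ) : ℕ := fld NKB 196 c
/-- `κ_c * n = n * κ_{PHI c}`. -/
def PHI (c : ℕ) : ℕ := Nat.mod (fld PHIB 6 c) 57

theorem PHI_lt (c : ℕ) : PHI c < 57 := Nat.mod_lt _ (by norm_num)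
theorem NC_eq : NC = U k1 := by decide +kernel
theorem k1_lt : k1 < 3080 := by decide +kernel
theorem chk_n : mvNegEq NC v0 = true := by decide +kernel
theorem chkNK : allLt 57 (fun c => mulEq NC (Kt c) (NKt c) cI) = true := by decide +kernel
theorem chkPHI : allLt 57 (fun c => mulEq (Kt c) NC (NKt (PHI c)) cI) = true := by decide +kernel

theorem dec_NKt (c : ℕ) (hc : c < 57) : dec (NKt c) = dec NC * dec (Kt c) :=
  (dec_mul_one_of _ _ _ _ dec_cI ((allLt_iff _ _).mp chkNK c hc)).symm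

theorem Kt_mul_NC (c : ℕ) (hc : c < 57) : dec (Kt c) * dec NC = dec NC * dec (Kt (PHI c)) := by
  rw [← dec_NKt _ (PHI_lt c)]
  exact dec_mul_one_of _ _ _ _ dec_cI ((allLt_iff _ _).mp chkPHI c hc)

theorem NC_v0 : (dec NC).mulVec (decV v0) = -decV v0 := (mvNegEq_iff _ _).mp chk_n

/-- The matrix of `n ^ e`. -/
def dN (e : Bool) : M7 := bif e then dec NC else 1
/-- Code of `n ^ e * κ_c`. -/
def KK (e : Bool) (c : ℕ) : ℕ := bif e then NKt c else Kt c
/-- `κ_c * n ^ e = n ^ e * κ_{PH e c}`. -/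
def PH (e : Bool) (c : ℕ) : ℕ := bif e then PHI c else c
/-- Checks `A *ᵥ v = (-1) ^ e • v`. -/
noncomputable def fixB (e : Bool) (A v : ℕ) : Bool := bif e then mvNegEq A v else mvEq A v v
/-- The sign `(-1) ^ e`. -/
def sg (e : Bool) : ZMod 11 := bif e then -1 else 1

theorem dec_KK (e : Bool) (c : ℕ) (hc : c < 57) : dec (KK e c) = dN e * dec (Kt c) := by
  cases e
  · simp [KK, dN]
  · simp only [KK, dN, cond_true]
    exact dec_NKt c hc

theorem Kt_mul_dN (e : Bool) (c : ℕ) (hc : c < 57) :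
    dec (Kt c) * dN e = dN e * dec (Kt (PH e c)) := by
  cases e
  · simp [PH, dN]
  · simp only [PH, dN, cond_true]
    exact Kt_mul_NC c hc

theorem PH_lt (e : Bool) (c : ℕ) (hc : c < 57) : PH e c < 57 := by
  cases e
  · simpa [PH] using hc
  · simp only [PH, cond_true]
    exact PHI_lt c

theorem dN_v0 (e : Bool) : (dN e).mulVec (decV v0) = sg e • decV v0 := by
  cases e
  · simp [dN, sg]
  · simp only [dN, sg, cond_true]
    rw [NC_v0, neg_smul, one_smul]

theorem fixB_iff (e : Bool) (A v : ℕ) :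
    fixB e A v = true ↔ (dec A).mulVec (decV v) = sg e • decV v := by
  cases e
  · simp only [fixB, sg, cond_false, one_smul]
    exact mvEq_iff A v v
  · simp only [fixB, sg, cond_true, neg_smul, one_smul]
    exact mvNegEq_iff A v

theorem dN_unit (e : Bool) : ∃ g : GL (Fin 7) (ZMod 11), (g : M7) = dN e := by
  cases e
  · exact ⟨1, by simp [dN]⟩
  · obtain ⟨g, _, hg⟩ := U_mem k1 k1_lt
    exact ⟨g, by simp only [dN, cond_true]; rw [NC_eq, hg]⟩

/-- The centraliser of an element `h = n ^ e * κ_ch` of `B`, by certificate: every element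
commuting with `h` has its code in the list `CL`. -/
theorem centralizer_cert (e : Bool) (Hc ch nF N : ℕ) (FP FK CP CL : ℕ → ℕ) (IDX : ℕ → ℕ → ℕ)
    (h : ↥J1) (hh : IsCode h Hc) (hch : Nat.blt ch 57 = true)
    (hHc : mulEq Hc cI (KK e ch) cI = true)
    (hfix : allLt 3080 (fun k => !(fixB e Hc (VK k)) ||
      (Nat.blt 0 (FP k) && Nat.ble (FP k) nF && Nat.beq (FK (Nat.sub (FP k) 1)) k)) = true)
    (hid : allLt nF (fun j => Nat.blt (FK j) 3080 && Nat.blt (CP j) 57 &&
      mulEq Hc (U (FK j)) (U (FK j)) (KK e (CP j))) = true)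
    (hlist : allLt nF (fun j => allLt 57 fun c =>
      !(Nat.beq (KM (CP j) c) (KM (PH e c) ch)) ||
        (Nat.blt (IDX j c) N && mulEq (U (FK j)) (Kt c) (CL (IDX j c)) cI)) = true) :
    ∀ g : ↥J1, g * h = h * g → ∃ m < N, IsCode g (CL m) := by
  intro g hgh
  obtain ⟨k, hk, c, hc, hg⟩ := exists_rep g.2
  have hch' : ch < 57 := Nat.le_of_ble_eq_true hch
  have hh' : ((h : GL (Fin 7) (ZMod 11)) : M7) = dec Hc := hh
  have hhm : ((h : GL (Fin 7) (ZMod 11)) : M7) = dN e * dec (Kt ch) := by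
    have h1 := (mulEq_iff _ _ _ _).mp hHc
    rw [dec_cI, mul_one, mul_one] at h1
    rw [← dec_KK e ch hch', ← h1]
    exact hh
  have hcomm : ((g : GL (Fin 7) (ZMod 11)) : M7) * ((h : GL (Fin 7) (ZMod 11)) : M7) =
      ((h : GL (Fin 7) (ZMod 11)) : M7) * ((g : GL (Fin 7) (ZMod 11)) : M7) := by
    have := congrArg (fun x : ↥J1 => ((x : GL (Fin 7) (ZMod 11)) : M7)) hgh
    simpa only [Subgroup.coe_mul, Units.val_mul] using this
  have hgv : ((g : GL (Fin 7) (ZMod 11)) : M7).mulVec (decV v0) = decV (VK k) := by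
    rw [hg, ← Matrix.mulVec_mulVec, Kt_fix c hc, VK_spec k hk]
  have hhv : ((h : GL (Fin 7) (ZMod 11)) : M7).mulVec (decV v0) = sg e • decV v0 := by
    rw [hhm, ← Matrix.mulVec_mulVec, Kt_fix ch hch', dN_v0]
  have hfixk : fixB e Hc (VK k) = true := by
    rw [fixB_iff, ← hh', ← hgv, Matrix.mulVec_mulVec, ← hcomm, ← Matrix.mulVec_mulVec, hhv,
      Matrix.mulVec_smul]
  have h1 := (allLt_iff _ _).mp hfix k hk
  rw [hfixk] at h1
  simp only [Bool.not_true, Bool.false_or, Bool.and_eq_true] at h1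
  obtain ⟨⟨hp0, hpn⟩, hFK⟩ := h1
  have hp0' : 0 < FP k := Nat.le_of_ble_eq_true hp0
  have hpn' : FP k ≤ nF := Nat.le_of_ble_eq_true hpn
  have hFK' : FK (FP k - 1) = k := Nat.eq_of_beq_eq_true hFK
  have hjn : FP k - 1 < nF := by omega
  have h2 := (allLt_iff _ _).mp hid (FP k - 1) hjn
  simp only [Bool.and_eq_true] at h2
  obtain ⟨⟨_, hcp⟩, hidm⟩ := h2
  have hcp' : CP (FP k - 1) < 57 := Nat.le_of_ble_eq_true hcp
  have hidm' : dec Hc * dec (U k) = dec (U k) * (dN e * dec (Kt (CP (FP k - 1)))) := by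
    have := (mulEq_iff _ _ _ _).mp hidm
    rw [hFK', dec_KK e _ hcp'] at this
    exact this
  obtain ⟨gk, _, hgk⟩ := U_mem k hk
  obtain ⟨gn, hgn⟩ := dN_unit e
  have key : dec (Kt (KM (CP (FP k - 1)) c)) = dec (Kt (KM (PH e c) ch)) := by
    have e1 : ((h : GL (Fin 7) (ZMod 11)) : M7) * ((g : GL (Fin 7) (ZMod 11)) : M7) =
        dec (U k) * (dN e * dec (Kt (KM (CP (FP k - 1)) c))) := by
      rw [hg, ← mul_assoc, hh', hidm', mul_assoc, mul_assoc, hK _ _ hcp' hc]
    have e2 : ((g : GL (Fin 7) (ZMod 11)) : M7) * ((h : GL (Fin 7) (ZMod 11)) : M7) =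
        dec (U k) * (dN e * dec (Kt (KM (PH e c) ch))) := by
      rw [hg, hhm, mul_assoc, ← mul_assoc (dec (Kt c)), Kt_mul_dN e c hc, mul_assoc,
        hK _ _ (PH_lt e c hc) hch']
    rw [hcomm, e1, ← hgk, ← hgn] at e2
    exact (Units.mul_right_inj gn).mp ((Units.mul_right_inj gk).mp e2)
  have hidx : KM (CP (FP k - 1)) c = KM (PH e c) ch := Kt_inj (KM_lt _ _) (KM_lt _ _) key
  have h3 := (allLt_iff _ _).mp ((allLt_iff _ _).mp hlist (FP k - 1) hjn) c hc
  rw [hidx, Nat.beq_refl] at h3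
  simp only [Bool.not_true, Bool.false_or, Bool.and_eq_true] at h3
  refine ⟨IDX (FP k - 1) c, Nat.le_of_ble_eq_true h3.1, ?_⟩
  have h4 := dec_mul_one_of _ _ _ _ dec_cI h3.2
  rw [hFK'] at h4
  exact hg.trans h4

end Cfsg.Agent.Lib.Helper70.J1
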