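import Cfsg.Agent.Lib.Helper70.J1Table

/-!
# Kernel evaluation of the certificate checks for the enumeration of J1 (generated)
-/

set_option autoImplicit false

namespace Cfsg.Agent.Lib.Helper70.J1

theorem chkX_0 : chkX 0 308 = true := by decide +kernel
theorem chkX_1 : chkX 308 308 = true := by decide +kernel
theorem chkX_2 : chkX 616 308 = true := by decide +kernel
theorem chkX_3 : chkX 924 308 = true := by decide +kernel
theorem chkX_4 : chkX 1232 308 = true := by decide +kernel
theorem chkX_5 : chkX 1540 308 = true := by decide +kernel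
theorem chkX_6 : chkX 1848 308 = true := by decide +kernel
theorem chkX_7 : chkX 2156 308 = true := by decide +kernel
theorem chkX_8 : chkX 2464 308 = true := by decide +kernel
theorem chkX_9 : chkX 2772 308 = true := by decide +kernel
theorem chkY_0 : chkY 0 308 = true := by decide +kernel
theorem chkY_1 : chkY 308 308 = true := by decide +kernel
theorem chkY_2 : chkY 616 308 = true := by decide +kernel
theorem chkY_3 : chkY 924 308 = true := by decide +kernel
theorem chkY_4 : chkY 1232 308 = true := by decide +kernel
theorem chkY_5 : chkY 1540 308 = true := by decide +kernel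
theorem chkY_6 : chkY 1848 308 = true := by decide +kernel
theorem chkY_7 : chkY 2156 308 = true := by decide +kernel
theorem chkY_8 : chkY 2464 308 = true := by decide +kernel
theorem chkY_9 : chkY 2772 308 = true := by decide +kernel
theorem chkK_0 : chkK 0 19 = true := by decide +kernel
theorem chkK_1 : chkK 19 19 = true := by decide +kernel
theorem chkK_2 : chkK 38 19 = true := by decide +kernel
theorem chkSort_0 : chkSort 0 1540 = true := by decide +kernel
theorem chkSort_1 : chkSort 1540 1539 = true := by decide +kernel
theorem chkPar_true : chkPar = true := by decide +kernel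
theorem chkKW_true : chkKW = true := by decide +kernel
theorem chkFix_true : chkFix = true := by decide +kernel
theorem chkKinj_true : chkKinj = true := by decide +kernel
theorem U_UI : U UI = cI := by decide +kernel
theorem Kt_zero : Kt 0 = cI := by decide +kernel
theorem UI_lt : UI < 3080 := by decide +kernel

theorem chkX_all (k : ℕ) (hk : k < 3080) : mulEq cX (U k) (U (NX k)) (Kt (KX k)) = true := by
  have hq : k / 308 < 10 := by omega
  have h1 : 308 * (k / 308) ≤ k := Nat.mul_div_le k 308
  have h2 : k < 308 * (k / 308) + 308 := Nat.lt_mul_div_succ k (by norm_num)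
  generalize k / 308 = q at hq h1 h2
  interval_cases q
  · exact (allRange_iff _ _ _).mp chkX_0 k (by omega) (by omega)
  · exact (allRange_iff _ _ _).mp chkX_1 k (by omega) (by omega)
  · exact (allRange_iff _ _ _).mp chkX_2 k (by omega) (by omega)
  · exact (allRange_iff _ _ _).mp chkX_3 k (by omega) (by omega)
  · exact (allRange_iff _ _ _).mp chkX_4 k (by omega) (by omega)
  · exact (allRange_iff _ _ _).mp chkX_5 k (by omega) (by omega)
  · exact (allRange_iff _ _ _).mp chkX_6 k (by omega) (by omega)
  · exact (allRange_iff _ _ _).mp chkX_7 k (by omega) (by omega)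
  · exact (allRange_iff _ _ _).mp chkX_8 k (by omega) (by omega)
  · exact (allRange_iff _ _ _).mp chkX_9 k (by omega) (by omega)

theorem chkY_all (k : ℕ) (hk : k < 3080) : mulEq cY (U k) (U (NY k)) (Kt (KY k)) = true := by
  have hq : k / 308 < 10 := by omega
  have h1 : 308 * (k / 308) ≤ k := Nat.mul_div_le k 308
  have h2 : k < 308 * (k / 308) + 308 := Nat.lt_mul_div_succ k (by norm_num)
  generalize k / 308 = q at hq h1 h2
  interval_cases q
  · exact (allRange_iff _ _ _).mp chkY_0 k (by omega) (by omega)
  · exact (allRange_iff _ _ _).mp chkY_1 k (by omega) (by omega)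
  · exact (allRange_iff _ _ _).mp chkY_2 k (by omega) (by omega)
  · exact (allRange_iff _ _ _).mp chkY_3 k (by omega) (by omega)
  · exact (allRange_iff _ _ _).mp chkY_4 k (by omega) (by omega)
  · exact (allRange_iff _ _ _).mp chkY_5 k (by omega) (by omega)
  · exact (allRange_iff _ _ _).mp chkY_6 k (by omega) (by omega)
  · exact (allRange_iff _ _ _).mp chkY_7 k (by omega) (by omega)
  · exact (allRange_iff _ _ _).mp chkY_8 k (by omega) (by omega)
  · exact (allRange_iff _ _ _).mp chkY_9 k (by omega) (by omega)

theorem chkK_all (c d : ℕ) (hc : c < 57) (hd : d < 57) : mulEq (Kt c) (Kt d) (Kt (KM c d)) cI = true := by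
  have hq : c / 19 < 3 := by omega
  have h1 : 19 * (c / 19) ≤ c := Nat.mul_div_le c 19
  have h2 : c < 19 * (c / 19) + 19 := Nat.lt_mul_div_succ c (by norm_num)
  generalize c / 19 = q at hq h1 h2
  interval_cases q
  · exact (allLt_iff _ _).mp ((allRange_iff _ _ _).mp chkK_0 c (by omega) (by omega)) d hd
  · exact (allLt_iff _ _).mp ((allRange_iff _ _ _).mp chkK_1 c (by omega) (by omega)) d hd
  · exact (allLt_iff _ _).mp ((allRange_iff _ _ _).mp chkK_2 c (by omega) (by omega)) d hd

theorem chkSort_all (k : ℕ) (hk : k < 3079) : Nat.blt (vc (U k) v0) (vc (U (Nat.add k 1)) v0) = true := by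
  have hq : k / 1540 < 2 := by omega
  have h1 : 1540 * (k / 1540) ≤ k := Nat.mul_div_le k 1540
  have h2 : k < 1540 * (k / 1540) + 1540 := Nat.lt_mul_div_succ k (by norm_num)
  generalize k / 1540 = q at hq h1 h2
  interval_cases q
  · exact (allRange_iff _ _ _).mp chkSort_0 k (by omega) (by omega)
  · exact (allRange_iff _ _ _).mp chkSort_1 k (by omega) (by omega)

end Cfsg.Agent.Lib.Helper70.J1
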