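import Mathlib
import Cfsg.Prelude.Def_Spor_J1

/-!
# Computation with `7 × 7` matrices over `ZMod 11` encoded as natural numbers

A matrix is encoded as a natural number whose 4-bit field `7 * i + j` holds the entry `(i, j)`.
All checkers are Boolean functions that the kernel evaluates with its built-in arithmetic on
natural number literals; each comes with a soundness lemma.
-/

set_option autoImplicit false

namespace Cfsg.Agent.Lib.Helper70.J1

/-- The 4-bit field `t` of `A`. -/
def ent (A t : ℕ) : ℕ := Nat.land (Nat.shiftRight A (Nat.mul 4 t)) 15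

/-- The type of `7 × 7` matrices over `ZMod 11`. -/
abbrev M7 : Type := Matrix (Fin 7) (Fin 7) (ZMod 11)

/-- The matrix encoded by `A`. -/
def dec (A : ℕ) : M7 := fun i j => ((ent A (7 * i.val + j.val) : ℕ) : ZMod 11)

/-- The vector encoded by `v`. -/
def decV (v : ℕ) : Fin 7 → ZMod 11 := fun i => ((ent v i.val : ℕ) : ZMod 11)

/-- Bounded universal quantifier, evaluated by the kernel. -/
noncomputable def allLt (n : ℕ) (f : ℕ → Bool) : Bool := Nat.rec true (fun k ih => f k && ih) n

theorem allLt_succ (n : ℕ) (f : ℕ → Bool) : allLt (n + 1) f = (f n && allLt n f) := rfl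

theorem allLt_iff (n : ℕ) (f : ℕ → Bool) : allLt n f = true ↔ ∀ k < n, f k = true := by
  induction n with
  | zero => simp [allLt]
  | succ n ih =>
    rw [allLt_succ, Bool.and_eq_true, ih]
    constructor
    · rintro ⟨h1, h2⟩ k hk
      rcases Nat.lt_succ_iff_lt_or_eq.mp hk with h | h
      · exact h2 k h
      · rw [h]; exact h1
    · intro h
      exact ⟨h n (Nat.lt_succ_self n), fun k hk => h k (Nat.lt_succ_of_lt hk)⟩

/-- Bounded universal quantifier over `[lo, lo + n)`. -/
noncomputable def allRange (lo n : ℕ) (f : ℕ → Bool) : Bool := allLt n fun k => f (Nat.add lo k)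

theorem allRange_iff (lo n : ℕ) (f : ℕ → Bool) :
    allRange lo n f = true ↔ ∀ k, lo ≤ k → k < lo + n → f k = true := by
  unfold allRange
  rw [allLt_iff]
  constructor
  · intro h k h1 h2
    have := h (k - lo) (by omega)
    rwa [Nat.add_eq, Nat.add_sub_cancel' h1] at this
  · intro h k hk
    exact h _ (Nat.le_add_right lo k) (by rw [Nat.add_eq]; omega)

/-- The entry `(i, j)` of the product of the matrices encoded by `A` and `B`, before reduction. -/
def pe (A B i j : ℕ) : ℕ :=
  Nat.add (Nat.add (Nat.add (Nat.add (Nat.add (Nat.add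
    (Nat.mul (ent A (Nat.mul 7 i)) (ent B j))
    (Nat.mul (ent A (Nat.add (Nat.mul 7 i) 1)) (ent B (Nat.add 7 j))))
    (Nat.mul (ent A (Nat.add (Nat.mul 7 i) 2)) (ent B (Nat.add 14 j))))
    (Nat.mul (ent A (Nat.add (Nat.mul 7 i) 3)) (ent B (Nat.add 21 j))))
    (Nat.mul (ent A (Nat.add (Nat.mul 7 i) 4)) (ent B (Nat.add 28 j))))
    (Nat.mul (ent A (Nat.add (Nat.mul 7 i) 5)) (ent B (Nat.add 35 j))))
    (Nat.mul (ent A (Nat.add (Nat.mul 7 i) 6)) (ent B (Nat.add 42 j)))

theorem mul_dec_apply (A B : ℕ) (i j : Fin 7) :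
    (dec A * dec B) i j = ((pe A B i.val j.val : ℕ) : ZMod 11) := by
  simp only [Matrix.mul_apply, Fin.sum_univ_seven, dec, pe, Nat.add_eq, Nat.mul_eq]
  push_cast
  simp

/-- The entry `i` of the product of the matrix encoded by `A` and the vector encoded by `v`. -/
def pv (A v i : ℕ) : ℕ :=
  Nat.add (Nat.add (Nat.add (Nat.add (Nat.add (Nat.add
    (Nat.mul (ent A (Nat.mul 7 i)) (ent v 0))
    (Nat.mul (ent A (Nat.add (Nat.mul 7 i) 1)) (ent v 1)))
    (Nat.mul (ent A (Nat.add (Nat.mul 7 i) 2)) (ent v 2)))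
    (Nat.mul (ent A (Nat.add (Nat.mul 7 i) 3)) (ent v 3)))
    (Nat.mul (ent A (Nat.add (Nat.mul 7 i) 4)) (ent v 4)))
    (Nat.mul (ent A (Nat.add (Nat.mul 7 i) 5)) (ent v 5)))
    (Nat.mul (ent A (Nat.add (Nat.mul 7 i) 6)) (ent v 6))

theorem mulVec_dec_apply (A v : ℕ) (i : Fin 7) :
    (dec A).mulVec (decV v) i = ((pv A v i.val : ℕ) : ZMod 11) := by
  simp only [Matrix.mulVec, dotProduct, Fin.sum_univ_seven, dec, decV, pv, Nat.add_eq, Nat.mul_eq]
  push_cast
  simp

theorem beq_mod_iff (a b : ℕ) :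
    Nat.beq (Nat.mod a 11) (Nat.mod b 11) = true ↔ ((a : ℕ) : ZMod 11) = ((b : ℕ) : ZMod 11) := by
  rw [ZMod.natCast_eq_natCast_iff']
  constructor
  · intro h
    exact Nat.eq_of_beq_eq_true h
  · intro h
    have h' : Nat.mod a 11 = Nat.mod b 11 := h
    rw [h']
    exact Nat.beq_refl _

/-- Checks `A * B = C * D` for the encoded matrices. -/
noncomputable def mulEq (A B C D : ℕ) : Bool :=
  allLt 7 fun i => allLt 7 fun j => Nat.beq (Nat.mod (pe A B i j) 11) (Nat.mod (pe C D i j) 11)

theorem mulEq_iff (A B C D : ℕ) : mulEq A B C D = true ↔ dec A * dec B = dec C * dec D := by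
  unfold mulEq
  rw [allLt_iff]
  constructor
  · intro h
    ext i j
    have := h i.val i.isLt
    rw [allLt_iff] at this
    have := this j.val j.isLt
    rw [beq_mod_iff] at this
    rw [mul_dec_apply, mul_dec_apply, this]
  · intro h i hi
    rw [allLt_iff]
    intro j hj
    rw [beq_mod_iff]
    have := congrFun (congrFun h ⟨i, hi⟩) ⟨j, hj⟩
    rwa [mul_dec_apply, mul_dec_apply] at this

/-- Checks `A *ᵥ v = v'` for the encoded matrix and vectors. -/
noncomputable def mvEq (A v v' : ℕ) : Bool :=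
  allLt 7 fun i => Nat.beq (Nat.mod (pv A v i) 11) (Nat.mod (ent v' i) 11)

theorem mvEq_iff (A v v' : ℕ) : mvEq A v v' = true ↔ (dec A).mulVec (decV v) = decV v' := by
  unfold mvEq
  rw [allLt_iff]
  constructor
  · intro h
    ext i
    have := h i.val i.isLt
    rw [beq_mod_iff] at this
    rw [mulVec_dec_apply, this]
    rfl
  · intro h i hi
    rw [beq_mod_iff]
    have := congrFun h ⟨i, hi⟩
    rwa [mulVec_dec_apply] at this

/-- A code of the vector `A *ᵥ v`, which depends only on that vector. -/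
def vc (A v : ℕ) : ℕ :=
  Nat.add (Nat.add (Nat.add (Nat.add (Nat.add (Nat.add
    (Nat.mod (pv A v 0) 11)
    (Nat.shiftLeft (Nat.mod (pv A v 1) 11) 4))
    (Nat.shiftLeft (Nat.mod (pv A v 2) 11) 8))
    (Nat.shiftLeft (Nat.mod (pv A v 3) 11) 12))
    (Nat.shiftLeft (Nat.mod (pv A v 4) 11) 16))
    (Nat.shiftLeft (Nat.mod (pv A v 5) 11) 20))
    (Nat.shiftLeft (Nat.mod (pv A v 6) 11) 24)

theorem vc_congr (A B v : ℕ) (h : (dec A).mulVec (decV v) = (dec B).mulVec (decV v)) :
    vc A v = vc B v := by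
  have key : ∀ i : ℕ, i < 7 → Nat.mod (pv A v i) 11 = Nat.mod (pv B v i) 11 := by
    intro i hi
    have := congrFun h ⟨i, hi⟩
    rw [mulVec_dec_apply, mulVec_dec_apply, ZMod.natCast_eq_natCast_iff'] at this
    exact this
  unfold vc
  rw [key 0 (by norm_num), key 1 (by norm_num), key 2 (by norm_num), key 3 (by norm_num),
    key 4 (by norm_num), key 5 (by norm_num), key 6 (by norm_num)]

/-- Field `k` of width `w` of the packed table `B`. -/
def fld (B w k : ℕ) : ℕ := Nat.land (Nat.shiftRight B (Nat.mul w k)) (Nat.sub (Nat.pow 2 w) 1)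

theorem dec_mul_one_of (A B C c1 : ℕ) (h1 : dec c1 = 1) (h : mulEq A B C c1 = true) :
    dec A * dec B = dec C := by
  rw [mulEq_iff, h1, mul_one] at h
  exact h

end Cfsg.Agent.Lib.Helper70.J1
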