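import Cfsg.Agent.Lib.Helper70.J1Check

/-!
# Enumeration of the Janko group J1

`J1 = ⟨X, Y⟩ ≤ GL₇(11)` acts on the orbit of a vector `v0` (3080 vectors) with stabiliser of
order 57.  The certificate tables give coset representatives `u_k` (`k < 3080`) and the stabiliser
elements `κ_c` (`c < 57`); every element of J1 is `u_k * κ_c` for exactly one pair `(k, c)`.
Hence `Nat.card J1 = 175560`.
-/

set_option autoImplicit false

namespace Cfsg.Agent.Lib.Helper70.J1

open Cfsg.Spor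

theorem dec_cI : dec cI = 1 := by decide +kernel
theorem dec_cX : dec cX = Cfsg.jankoMatrixX := by decide +kernel
theorem dec_cY : dec cY = Cfsg.jankoMatrixY := by decide +kernel

theorem coe_jankoX : ((jankoX : GL (Fin 7) (ZMod 11)) : M7) = dec cX := dec_cX.symm
theorem coe_jankoY : ((jankoY : GL (Fin 7) (ZMod 11)) : M7) = dec cY := dec_cY.symm

theorem jankoX_mem : jankoX ∈ J1 := Subgroup.subset_closure (by simp)
theorem jankoY_mem : jankoY ∈ J1 := Subgroup.subset_closure (by simp)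

theorem hX (k : ℕ) (hk : k < 3080) : dec cX * dec (U k) = dec (U (NX k)) * dec (Kt (KX k)) :=
  (mulEq_iff _ _ _ _).mp (chkX_all k hk)

theorem hY (k : ℕ) (hk : k < 3080) : dec cY * dec (U k) = dec (U (NY k)) * dec (Kt (KY k)) :=
  (mulEq_iff _ _ _ _).mp (chkY_all k hk)

theorem hK (c d : ℕ) (hc : c < 57) (hd : d < 57) : dec (Kt c) * dec (Kt d) = dec (Kt (KM c d)) :=
  dec_mul_one_of _ _ _ _ dec_cI (chkK_all c d hc hd)

theorem dec_Kt_zero : dec (Kt 0) = 1 := by rw [Kt_zero, dec_cI]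
theorem dec_U_UI : dec (U UI) = 1 := by rw [U_UI, dec_cI]

/-! ### Membership of the representatives -/

theorem U_mem_aux : ∀ d k : ℕ, k < 3080 → Dp k = d →
    ∃ g : GL (Fin 7) (ZMod 11), g ∈ J1 ∧ (g : M7) = dec (U k) := by
  intro d
  induction d using Nat.strong_induction_on with
  | _ d ih =>
    intro k hk hd
    have hp := (allLt_iff _ _).mp chkPar_true k hk
    simp only [Bool.or_eq_true, Bool.and_eq_true] at hp
    rcases hp with h | ⟨h1, h2 | h2⟩
    · have hk' : k = UI := Nat.eq_of_beq_eq_true h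
      exact ⟨1, one_mem _, by rw [hk', dec_U_UI]; rfl⟩
    · obtain ⟨⟨_, hn⟩, hk0⟩ := h2
      have hlt : Dp (PP k) < Dp k := Nat.le_of_ble_eq_true h1
      obtain ⟨g, hg, hgm⟩ := ih (Dp (PP k)) (hd ▸ hlt) (PP k) (PP_lt k) rfl
      have hn' : NX (PP k) = k := Nat.eq_of_beq_eq_true hn
      have hk0' : KX (PP k) = 0 := Nat.eq_of_beq_eq_true hk0
      refine ⟨jankoX * g, mul_mem jankoX_mem hg, ?_⟩
      have := hX (PP k) (PP_lt k)
      rw [hn', hk0', dec_Kt_zero, mul_one] at this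
      rw [Units.val_mul, coe_jankoX, hgm, this]
    · obtain ⟨⟨_, hn⟩, hk0⟩ := h2
      have hlt : Dp (PP k) < Dp k := Nat.le_of_ble_eq_true h1
      obtain ⟨g, hg, hgm⟩ := ih (Dp (PP k)) (hd ▸ hlt) (PP k) (PP_lt k) rfl
      have hn' : NY (PP k) = k := Nat.eq_of_beq_eq_true hn
      have hk0' : KY (PP k) = 0 := Nat.eq_of_beq_eq_true hk0
      refine ⟨jankoY * g, mul_mem jankoY_mem hg, ?_⟩
      have := hY (PP k) (PP_lt k)
      rw [hn', hk0', dec_Kt_zero, mul_one] at this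
      rw [Units.val_mul, coe_jankoY, hgm, this]

theorem U_mem (k : ℕ) (hk : k < 3080) :
    ∃ g : GL (Fin 7) (ZMod 11), g ∈ J1 ∧ (g : M7) = dec (U k) :=
  U_mem_aux (Dp k) k hk rfl

theorem Kt_mem (c : ℕ) (hc : c < 57) :
    ∃ g : GL (Fin 7) (ZMod 11), g ∈ J1 ∧ (g : M7) = dec (Kt c) := by
  have hp := (allLt_iff _ _).mp chkKW_true c hc
  simp only [Bool.or_eq_true, Bool.and_eq_true] at hp
  obtain ⟨g, hg, hgm⟩ := U_mem (KWk c) (KWk_lt c)
  rcases hp with ⟨_, h⟩ | ⟨_, h⟩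
  · have h' : KX (KWk c) = c := Nat.eq_of_beq_eq_true h
    obtain ⟨g', hg', hgm'⟩ := U_mem (NX (KWk c)) (NX_lt _)
    refine ⟨g'⁻¹ * (jankoX * g), mul_mem (inv_mem hg') (mul_mem jankoX_mem hg), ?_⟩
    have := hX (KWk c) (KWk_lt c)
    rw [h'] at this
    rw [Units.val_mul, Units.val_mul, coe_jankoX, hgm, this, ← hgm', Units.inv_mul_cancel_left]
  · have h' : KY (KWk c) = c := Nat.eq_of_beq_eq_true h
    obtain ⟨g', hg', hgm'⟩ := U_mem (NY (KWk c)) (NY_lt _)
    refine ⟨g'⁻¹ * (jankoY * g), mul_mem (inv_mem hg') (mul_mem jankoY_mem hg), ?_⟩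
    have := hY (KWk c) (KWk_lt c)
    rw [h'] at this
    rw [Units.val_mul, Units.val_mul, coe_jankoY, hgm, this, ← hgm', Units.inv_mul_cancel_left]

/-- Every product `u_k * κ_c` is (the matrix of) an element of J1. -/
theorem rep_mem (k c : ℕ) (hk : k < 3080) (hc : c < 57) :
    ∃ g : GL (Fin 7) (ZMod 11), g ∈ J1 ∧ (g : M7) = dec (U k) * dec (Kt c) := by
  obtain ⟨g, hg, hgm⟩ := U_mem k hk
  obtain ⟨h, hh, hhm⟩ := Kt_mem c hc
  exact ⟨g * h, mul_mem hg hh, by rw [Units.val_mul, hgm, hhm]⟩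

/-! ### Every element is a product `u_k * κ_c` -/

/-- Left multiplication by `g` preserves the set of the products `u_k * κ_c`. -/
def Pres (g : GL (Fin 7) (ZMod 11)) : Prop :=
  ∀ k < 3080, ∀ c < 57, ∃ k' < 3080, ∃ c' < 57,
    (g : M7) * (dec (U k) * dec (Kt c)) = dec (U k') * dec (Kt c')

theorem pres_one : Pres 1 := fun k hk c hc => ⟨k, hk, c, hc, by rw [Units.val_one, one_mul]⟩

theorem pres_mul {g h : GL (Fin 7) (ZMod 11)} (hg : Pres g) (hh : Pres h) : Pres (g * h) := by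
  intro k hk c hc
  obtain ⟨k1, hk1, c1, hc1, e1⟩ := hh k hk c hc
  obtain ⟨k2, hk2, c2, hc2, e2⟩ := hg k1 hk1 c1 hc1
  exact ⟨k2, hk2, c2, hc2, by rw [Units.val_mul, mul_assoc, e1, e2]⟩

theorem pres_pow {g : GL (Fin 7) (ZMod 11)} (hg : Pres g) (n : ℕ) : Pres (g ^ n) := by
  induction n with
  | zero => rw [pow_zero]; exact pres_one
  | succ n ih => rw [pow_succ]; exact pres_mul ih hg

theorem pres_inv {g : GL (Fin 7) (ZMod 11)} (hg : Pres g) : Pres g⁻¹ := by
  have h1 : g⁻¹ = g ^ (orderOf g - 1) := by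
    rw [inv_eq_iff_mul_eq_one, ← pow_succ', Nat.sub_add_cancel (orderOf_pos g), pow_orderOf_eq_one]
  rw [h1]
  exact pres_pow hg _

theorem pres_X : Pres jankoX := by
  intro k hk c hc
  refine ⟨NX k, NX_lt k, KM (KX k) c, KM_lt _ _, ?_⟩
  rw [coe_jankoX, ← mul_assoc, hX k hk, mul_assoc, hK _ _ (KX_lt k) hc]

theorem pres_Y : Pres jankoY := by
  intro k hk c hc
  refine ⟨NY k, NY_lt k, KM (KY k) c, KM_lt _ _, ?_⟩
  rw [coe_jankoY, ← mul_assoc, hY k hk, mul_assoc, hK _ _ (KY_lt k) hc]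

theorem pres_of_mem {g : GL (Fin 7) (ZMod 11)} (hg : g ∈ J1) : Pres g := by
  unfold J1 at hg
  induction hg using Subgroup.closure_induction with
  | mem x hx =>
    rcases hx with rfl | rfl
    · exact pres_X
    · exact pres_Y
  | one => exact pres_one
  | mul x y _ _ hx hy => exact pres_mul hx hy
  | inv x _ hx => exact pres_inv hx

/-- Every element of J1 is a product `u_k * κ_c`. -/
theorem exists_rep {g : GL (Fin 7) (ZMod 11)} (hg : g ∈ J1) :
    ∃ k < 3080, ∃ c < 57, (g : M7) = dec (U k) * dec (Kt c) := by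
  obtain ⟨k, hk, c, hc, e⟩ := pres_of_mem hg UI UI_lt 0 (by norm_num)
  rw [dec_U_UI, dec_Kt_zero, mul_one, mul_one] at e
  exact ⟨k, hk, c, hc, e⟩

/-! ### Uniqueness of the representation -/

theorem Kt_fix (c : ℕ) (hc : c < 57) : (dec (Kt c)).mulVec (decV v0) = decV v0 :=
  (mvEq_iff _ _ _).mp ((allLt_iff _ _).mp chkFix_true c hc)

theorem vcU_lt : ∀ k' k : ℕ, k < k' → k' < 3080 → vc (U k) v0 < vc (U k') v0 := by
  intro k'
  induction k' with
  | zero => intro k hk; omega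
  | succ n ih =>
    intro k hk hn
    have h1 : vc (U n) v0 < vc (U (n + 1)) v0 :=
      Nat.le_of_ble_eq_true (chkSort_all n (by omega))
    rcases Nat.lt_succ_iff_lt_or_eq.mp hk with h | h
    · exact lt_trans (ih k h (by omega)) h1
    · rw [h]; exact h1

theorem vcU_inj {k k' : ℕ} (hk : k < 3080) (hk' : k' < 3080)
    (h : vc (U k) v0 = vc (U k') v0) : k = k' := by
  rcases Nat.lt_trichotomy k k' with h1 | h1 | h1
  · exact absurd h (ne_of_lt (vcU_lt k' k h1 hk'))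
  · exact h1
  · exact absurd h.symm (ne_of_lt (vcU_lt k k' h1 hk))

theorem Kt_inj {c c' : ℕ} (hc : c < 57) (hc' : c' < 57) (h : dec (Kt c) = dec (Kt c')) :
    c = c' := by
  have h1 : vc (Kt c) w0 = vc (Kt c') w0 := vc_congr _ _ _ (by rw [h])
  have hp := (allLt_iff _ _).mp ((allLt_iff _ _).mp chkKinj_true c hc) c' hc'
  simp only [Bool.or_eq_true, Bool.not_eq_true'] at hp
  rcases hp with hp | hp
  · exact Nat.eq_of_beq_eq_true hp
  · rw [h1, Nat.beq_refl] at hp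
    exact absurd hp (by simp)

/-- The representation `u_k * κ_c` is unique. -/
theorem rep_inj {k k' c c' : ℕ} (hk : k < 3080) (hk' : k' < 3080) (hc : c < 57) (hc' : c' < 57)
    (h : dec (U k) * dec (Kt c) = dec (U k') * dec (Kt c')) : k = k' ∧ c = c' := by
  have h1 : (dec (U k)).mulVec (decV v0) = (dec (U k')).mulVec (decV v0) := by
    have := congrArg (fun M : M7 => M.mulVec (decV v0)) h
    simp only [← Matrix.mulVec_mulVec, Kt_fix c hc, Kt_fix c' hc'] at this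
    exact this
  have hkk : k = k' := vcU_inj hk hk' (vc_congr _ _ _ h1)
  subst hkk
  refine ⟨rfl, ?_⟩
  obtain ⟨g, _, hgm⟩ := U_mem k hk
  rw [← hgm] at h
  exact Kt_inj hc hc' ((Units.mul_right_inj g).mp h)

/-! ### The order of J1 -/

/-- The enumeration of J1 by the pairs `(k, c)`. -/
theorem exists_enum : ∃ e : Fin 3080 × Fin 57 ≃ ↥J1,
    ∀ p, (((e p : ↥J1) : GL (Fin 7) (ZMod 11)) : M7) = dec (U p.1.val) * dec (Kt p.2.val) := by
  have hex : ∀ p : Fin 3080 × Fin 57, ∃ g : ↥J1,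
      ((g : GL (Fin 7) (ZMod 11)) : M7) = dec (U p.1.val) * dec (Kt p.2.val) := by
    intro p
    obtain ⟨g, hg, hgm⟩ := rep_mem p.1.val p.2.val p.1.isLt p.2.isLt
    exact ⟨⟨g, hg⟩, hgm⟩
  choose f hf using hex
  have hinj : Function.Injective f := by
    intro p q hpq
    have h1 : dec (U p.1.val) * dec (Kt p.2.val) = dec (U q.1.val) * dec (Kt q.2.val) := by
      rw [← hf p, ← hf q, hpq]
    obtain ⟨h2, h3⟩ := rep_inj p.1.isLt q.1.isLt p.2.isLt q.2.isLt h1
    exact Prod.ext (Fin.ext h2) (Fin.ext h3)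
  have hsurj : Function.Surjective f := by
    intro g
    obtain ⟨k, hk, c, hc, e⟩ := exists_rep g.2
    refine ⟨(⟨k, hk⟩, ⟨c, hc⟩), ?_⟩
    apply Subtype.ext
    apply Units.ext
    rw [hf, e]
  exact ⟨Equiv.ofBijective f ⟨hinj, hsurj⟩, hf⟩

/-- The order of the Janko group J1. -/
theorem card_J1 : Nat.card ↥J1 = 175560 := by
  obtain ⟨e, _⟩ := exists_enum
  rw [← Nat.card_congr e, Nat.card_prod, Nat.card_fin, Nat.card_fin]

end Cfsg.Agent.Lib.Helper70.J1
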