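import Cfsg.Agent.Lib.Helper70.J1Tools

/-!
# The Janko group J1 is simple (certificates generated)

For each odd prime `p` dividing `|J1| = 2^3 * 3 * 5 * 7 * 11 * 19` an element of order `p` is
exhibited whose normal closure contains both generators; a normal subgroup whose order is
divisible by `p` contains all elements of order `p` (the Sylow `p`-subgroups have order `p`).
A normal `2`-subgroup lies in an explicit Sylow `2`-subgroup, none of whose involutions has all
its conjugates in it.
-/

set_option autoImplicit false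

namespace Cfsg.Agent.Lib.Helper70.J1

open Cfsg.Spor

def cXp_2 : ℕ := 0x10000000110000000100000001000000010000000100
def cXp_4 : ℕ := 0x1000000010000000100000001100000001000000010000
def cXp_6 : ℕ := 0x100000001000000010000000100000001000000011000000
def cYp_2 : ℕ := 0x4838980843908888677873276a0a207a63a8830849037aa26
def cYp_4 : ℕ := 0x13aa23831a283a11288181988a3a938a81a33a8a12318aa98
def cP7_g1 : ℕ := 0x87aa964883280848208333677378976a0a907a68a8880342
def cP7_g2 : ℕ := 0xa23557872755342946880806a9658a734a278691631a90892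
def cP7_j1 : ℕ := 0x70936390a4a338247434a31759866889991387897928a5a2a
def cP7_j2 : ℕ := 0x633440580864643336586765a576746566105845375765a75
def cP5_g1 : ℕ := 0x3aa23811a283a31288181988a3a138a81a93a8a12318aa983
def cP5_g2 : ℕ := 0x38a81a93a8a12318aa9833aa23811a283a31288181988a3a1
def cP5_j1 : ℕ := 0x5180440957457396447867600365498599799715668718740
def cP5_j2 : ℕ := 0x9974985566997174087184405180573957478696443657600
def cx3 : ℕ := 0x30200a3040260020300a30905700060420010100818080019
def cx3p_2 : ℕ := 0x30200180409600203001802054000607200a0a00813030019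
def cP3_g1 : ℕ := 0x4510189415819030849884119508389804839088845443433
def cP3_g2 : ℕ := 0x3898048390888454434334510189415819030849884119508
def cP3_j1 : ℕ := 0x8725677619695457275840337441507865000571737542923
def cP3_j2 : ℕ := 0x6505078173005792375426778725954619658457274410337
def cx11 : ℕ := 0x8334397378354a0a3945531907a3423830125037a9304383
def cx11p_2 : ℕ := 0xa525922528989a45629a58a2916a263a543549696a89a9352
def cx11p_4 : ℕ := 0x824028583017184a24743358a462916889979387899193161
def cx11p_8 : ℕ := 0x69033792a32253831180722334843a4442711369919615837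
def cx11p_10 : ℕ := 0x7a5319830342337a1250383930443908333547378945a0a3
def cP11_g1 : ℕ := 0x13119333119331aa288a8a288a8a288a8aa33131198a8aa28
def cP11_g2 : ℕ := 0x378908833574873275a0120716818830872084a1264833930
def cP11_j1 : ℕ := 0x88014a34124478368a7599a6832272384329a93a5a8940936
def cP11_j2 : ℕ := 0x439798816a2a9828639404a883014734a94752353a8922a63
def cx19 : ℕ := 0x6275215495a652382619281a62a9a95222596578816392312
def cx19p_2 : ℕ := 0xa900234893926194635a887771308111828a099244a910864
def cx19p_4 : ℕ := 0x5050435780064a28757927487965576125287579464a03847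
def cx19p_8 : ℕ := 0x70a9286339671a8a3812a40189681232967078a482421204
def cx19p_16 : ℕ := 0x23330846034a19048882388489034336478a3246101907163
def cx19p_18 : ℕ := 0x6438a962981963752a5595a662722612283159a2815229512
def cP19_g1 : ℕ := 0x33544348945101207a63a3380372037aa2648389803782033
def cP19_g2 : ℕ := 0x52225a96433a2592312637521562615697295a2983159123a
def cP19_j1 : ℕ := 0x7434a243222a53a5a2a284a3380a462358a43242832858240
def cP19_j2 : ℕ := 0x3a4442725a63842a322532233484aa8522a520884238aa304
def S0CB : ℕ := 0x58190418498830195084198048380888439434335410189454988308950841180483898884390343354401894518190415508411904838988843908433544318945101904158988308448389808439088335443489451019041581883084908411954390888354434394510180415819830849884119508389804544343345101894158190308498841195083898048390888451018941581904084988311950848980483908884344343351000000010000000100000001000000010000000100000001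
def S0KB : ℕ := 0x27f3c1a816455dc5aa3a41ef
def S0cB : ℕ := 0x31000000
def S0MB : ℕ := 0x10e4ef81fa562c2d3ddd035c5711e3665e32abb981fac688
def S0HB : ℕ := 0xa0000000a000000010000000a00000001000000010000000aa0000000a0000000a000000010000000a000000010000000110000000a0000000a0000000a000000010000000a000000011000000010000000a0000000a0000000a000000010000000aa00000001000000010000000a0000000a0000000a0000000110000000a00000001000000010000000a0000000a0000000aa000000010000000a00000001000000010000000a0000000a1000000010000000100000001000000010000000100000001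

theorem gX_pow_seven : gX ^ 7 = 1 := by
  have hq1 := isCode_gX.pow_one
  have hq2 := hq1.pow_add hq1 (C := cXp_2) (by decide +kernel)
  have hq4 := hq2.pow_add hq2 (C := cXp_4) (by decide +kernel)
  have hq6 := hq4.pow_add hq2 (C := cXp_6) (by decide +kernel)
  have hq7 := hq6.pow_add hq1 (C := cI) (by decide +kernel)
  have hpow : gX ^ 7 = 1 := hq7.eq_one
  exact hpow

theorem gY_pow_five : gY ^ 5 = 1 := by
  have hq1 := isCode_gY.pow_one
  have hq2 := hq1.pow_add hq1 (C := cYp_2) (by decide +kernel)
  have hq4 := hq2.pow_add hq2 (C := cYp_4) (by decide +kernel)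
  have hq5 := hq4.pow_add hq1 (C := cI) (by decide +kernel)
  have hpow : gY ^ 5 = 1 := hq5.eq_one
  exact hpow

theorem orderOf_gX : orderOf gX = 7 := by
  have : Fact (Nat.Prime 7) := ⟨by norm_num⟩
  exact orderOf_eq_prime gX_pow_seven (isCode_gX.ne isCode_one (by decide +kernel))

theorem orderOf_gY : orderOf gY = 5 := by
  have : Fact (Nat.Prime 5) := ⟨by norm_num⟩
  exact orderOf_eq_prime gY_pow_five (isCode_gY.ne isCode_one (by decide +kernel))

theorem cert_seven (N : Subgroup ↥J1) [N.Normal] (h : gX ∈ N) : N = ⊤ := by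
  obtain ⟨g1, hg1⟩ := exists_isCode 2874 0 cP7_g1 (by decide +kernel) (by decide +kernel) (by decide +kernel)
  obtain ⟨g2, hg2⟩ := exists_isCode 381 29 cP7_g2 (by decide +kernel) (by decide +kernel) (by decide +kernel)
  have hc1 := hg1.conj isCode_gX (C := cP7_j1) (by decide +kernel)
  have hc2 := hg2.conj isCode_gX (C := cP7_j2) (by decide +kernel)
  have hprod := hc1.mul hc2 (C := cY) (by decide +kernel)
  have ht : gY ∈ N := by
    rw [← hprod.ext isCode_gY]
    exact N.mul_mem (Subgroup.Normal.conj_mem inferInstance _ h _)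
      (Subgroup.Normal.conj_mem inferInstance _ h _)
  exact eq_top_of_gens h ht

theorem cert_five (N : Subgroup ↥J1) [N.Normal] (h : gY ∈ N) : N = ⊤ := by
  obtain ⟨g1, hg1⟩ := exists_isCode 18 0 cP5_g1 (by decide +kernel) (by decide +kernel) (by decide +kernel)
  obtain ⟨g2, hg2⟩ := exists_isCode 1734 0 cP5_g2 (by decide +kernel) (by decide +kernel) (by decide +kernel)
  have hc1 := hg1.conj isCode_gY (C := cP5_j1) (by decide +kernel)
  have hc2 := hg2.conj isCode_gY (C := cP5_j2) (by decide +kernel)
  have hprod := hc1.mul hc2 (C := cX) (by decide +kernel)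
  have ht : gX ∈ N := by
    rw [← hprod.ext isCode_gX]
    exact N.mul_mem (Subgroup.Normal.conj_mem inferInstance _ h _)
      (Subgroup.Normal.conj_mem inferInstance _ h _)
  exact eq_top_of_gens ht h

theorem cert_three : ∃ x : ↥J1, orderOf x = 3 ∧
    ∀ N : Subgroup ↥J1, N.Normal → x ∈ N → N = ⊤ := by
  obtain ⟨x, hx⟩ := exists_isCode 2437 34 cx3 (by decide +kernel) (by decide +kernel) (by decide +kernel)
  have hq1 := hx.pow_one
  have hq2 := hq1.pow_add hq1 (C := cx3p_2) (by decide +kernel)
  have hq3 := hq2.pow_add hq1 (C := cI) (by decide +kernel)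
  have hpow : x ^ 3 = 1 := hq3.eq_one
  have : Fact (Nat.Prime 3) := ⟨by norm_num⟩
  refine ⟨x, orderOf_eq_prime hpow (hx.ne isCode_one (by decide +kernel)), ?_⟩
  intro N hN h
  obtain ⟨g1, hg1⟩ := exists_isCode 478 0 cP3_g1 (by decide +kernel) (by decide +kernel) (by decide +kernel)
  obtain ⟨g2, hg2⟩ := exists_isCode 2550 0 cP3_g2 (by decide +kernel) (by decide +kernel) (by decide +kernel)
  have hc1 := hg1.conj hx (C := cP3_j1) (by decide +kernel)
  have hc2 := hg2.conj hx (C := cP3_j2) (by decide +kernel)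
  have hprod := hc1.mul hc2 (C := cX) (by decide +kernel)
  have ht : gX ∈ N := by
    rw [← hprod.ext isCode_gX]
    exact N.mul_mem (Subgroup.Normal.conj_mem inferInstance _ h _)
      (Subgroup.Normal.conj_mem inferInstance _ h _)
  exact cert_seven N ht

theorem cert_eleven : ∃ x : ↥J1, orderOf x = 11 ∧
    ∀ N : Subgroup ↥J1, N.Normal → x ∈ N → N = ⊤ := by
  obtain ⟨x, hx⟩ := exists_isCode 762 6 cx11 (by decide +kernel) (by decide +kernel) (by decide +kernel)
  have hq1 := hx.pow_one
  have hq2 := hq1.pow_add hq1 (C := cx11p_2) (by decide +kernel)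
  have hq4 := hq2.pow_add hq2 (C := cx11p_4) (by decide +kernel)
  have hq8 := hq4.pow_add hq4 (C := cx11p_8) (by decide +kernel)
  have hq10 := hq8.pow_add hq2 (C := cx11p_10) (by decide +kernel)
  have hq11 := hq10.pow_add hq1 (C := cI) (by decide +kernel)
  have hpow : x ^ 11 = 1 := hq11.eq_one
  have : Fact (Nat.Prime 11) := ⟨by norm_num⟩
  refine ⟨x, orderOf_eq_prime hpow (hx.ne isCode_one (by decide +kernel)), ?_⟩
  intro N hN h
  obtain ⟨g1, hg1⟩ := exists_isCode 1503 0 cP11_g1 (by decide +kernel) (by decide +kernel) (by decide +kernel)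
  obtain ⟨g2, hg2⟩ := exists_isCode 2456 30 cP11_g2 (by decide +kernel) (by decide +kernel) (by decide +kernel)
  have hc1 := hg1.conj hx (C := cP11_j1) (by decide +kernel)
  have hc2 := hg2.conj hx (C := cP11_j2) (by decide +kernel)
  have hprod := hc1.mul hc2 (C := cX) (by decide +kernel)
  have ht : gX ∈ N := by
    rw [← hprod.ext isCode_gX]
    exact N.mul_mem (Subgroup.Normal.conj_mem inferInstance _ h _)
      (Subgroup.Normal.conj_mem inferInstance _ h _)
  exact cert_seven N ht

theorem cert_nineteen : ∃ x : ↥J1, orderOf x = 19 ∧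
    ∀ N : Subgroup ↥J1, N.Normal → x ∈ N → N = ⊤ := by
  obtain ⟨x, hx⟩ := exists_isCode 495 12 cx19 (by decide +kernel) (by decide +kernel) (by decide +kernel)
  have hq1 := hx.pow_one
  have hq2 := hq1.pow_add hq1 (C := cx19p_2) (by decide +kernel)
  have hq4 := hq2.pow_add hq2 (C := cx19p_4) (by decide +kernel)
  have hq8 := hq4.pow_add hq4 (C := cx19p_8) (by decide +kernel)
  have hq16 := hq8.pow_add hq8 (C := cx19p_16) (by decide +kernel)
  have hq18 := hq16.pow_add hq2 (C := cx19p_18) (by decide +kernel)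
  have hq19 := hq18.pow_add hq1 (C := cI) (by decide +kernel)
  have hpow : x ^ 19 = 1 := hq19.eq_one
  have : Fact (Nat.Prime 19) := ⟨by norm_num⟩
  refine ⟨x, orderOf_eq_prime hpow (hx.ne isCode_one (by decide +kernel)), ?_⟩
  intro N hN h
  obtain ⟨g1, hg1⟩ := exists_isCode 2425 0 cP19_g1 (by decide +kernel) (by decide +kernel) (by decide +kernel)
  obtain ⟨g2, hg2⟩ := exists_isCode 2306 45 cP19_g2 (by decide +kernel) (by decide +kernel) (by decide +kernel)
  have hc1 := hg1.conj hx (C := cP19_j1) (by decide +kernel)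
  have hc2 := hg2.conj hx (C := cP19_j2) (by decide +kernel)
  have hprod := hc1.mul hc2 (C := cX) (by decide +kernel)
  have ht : gX ∈ N := by
    rw [← hprod.ext isCode_gX]
    exact N.mul_mem (Subgroup.Normal.conj_mem inferInstance _ h _)
      (Subgroup.Normal.conj_mem inferInstance _ h _)
  exact cert_seven N ht

/-- Codes of the elements of a Sylow `2`-subgroup. -/
def S0C (i : ℕ) : ℕ := fld S0CB 196 i
def S0K (i : ℕ) : ℕ := fld S0KB 12 i
def S0c (i : ℕ) : ℕ := fld S0cB 6 i
def S0M (i j : ℕ) : ℕ := fld S0MB 3 (Nat.add (Nat.mul 8 i) j)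
/-- Codes of the conjugates by `Y` of the elements of the Sylow `2`-subgroup. -/
def S0H (i : ℕ) : ℕ := fld S0HB 196 i

theorem S0C_zero : S0C 0 = cI := by decide +kernel

/-- An elementary abelian subgroup of order 8, given by its codes. -/
theorem exists_S0 : ∃ H : Subgroup ↥J1, Nat.card H = 8 ∧
    ∀ g : ↥J1, g ∈ H ↔ ∃ i < 8, IsCode g (S0C i) :=
  exists_codeSubgroup 8 S0C S0K S0c S0M S0C_zero (by norm_num) (by decide +kernel)
    (by decide +kernel) (by decide +kernel)

theorem finite_J1 : Finite ↥J1 := Nat.finite_of_card_ne_zero (by rw [card_J1]; norm_num)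

theorem S0_conj_check : allLt 8 (fun i => Nat.beq i 0 || (mulEq cY (S0C i) (S0H i) cY &&
    allLt 8 fun j => !(mulEq (S0H i) cI (S0C j) cI))) = true := by decide +kernel

/-- J1 has no nontrivial normal `2`-subgroup. -/
theorem no_normal_two (N : Subgroup ↥J1) [N.Normal] (hN : IsPGroup 2 N) (hne : N ≠ ⊥) : False := by
  obtain ⟨H, hH8, hH⟩ := exists_S0
  have : Finite ↥J1 := finite_J1
  have hHp : IsPGroup 2 H := IsPGroup.of_card (n := 3) (by rw [hH8]; norm_num)
  obtain ⟨Q, hQ⟩ := hHp.exists_le_sylow
  obtain ⟨P, hP⟩ := hN.exists_le_sylow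
  have hQH : H = (Q : Subgroup ↥J1) := by
    apply Subgroup.eq_of_le_of_card_ge hQ
    obtain ⟨n, hn⟩ := IsPGroup.iff_card.mp Q.isPGroup'
    have hdvd : Nat.card Q ∣ Nat.card ↥J1 := Subgroup.card_subgroup_dvd_card _
    rw [card_J1, hn] at hdvd
    have hn3 : n ≤ 3 := by
      by_contra hlt
      have h16 : 2 ^ 4 ∣ 175560 := (pow_dvd_pow 2 (by omega : 4 ≤ n)).trans hdvd
      norm_num at h16
    rw [hn, hH8]
    calc 2 ^ n ≤ 2 ^ 3 := Nat.pow_le_pow_right (by norm_num) hn3
      _ = 8 := by norm_num
  obtain ⟨g, hg⟩ := MulAction.exists_smul_eq ↥J1 P Q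
  have hNH : N ≤ H := by
    intro x hx
    rw [hQH, ← hg, Sylow.coe_subgroup_smul, Subgroup.mem_pointwise_smul_iff_inv_smul_mem]
    apply hP
    have hconj : (MulAut.conj g)⁻¹ • x = g⁻¹ * x * g⁻¹⁻¹ := by
      rw [← map_inv, MulAut.smul_def, MulAut.conj_apply]
    rw [hconj]
    exact Subgroup.Normal.conj_mem inferInstance _ hx _
  obtain ⟨⟨t, ht⟩, ht1⟩ := (Subgroup.ne_bot_iff_exists_ne_one.mp hne)
  have ht1' : t ≠ 1 := fun h => ht1 (Subtype.ext h)
  obtain ⟨i, hi, hti⟩ := (hH t).mp (hNH ht)
  have hc : gY * t * gY⁻¹ ∈ N := Subgroup.Normal.conj_mem inferInstance _ ht _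
  obtain ⟨j, hj, hcj⟩ := (hH _).mp (hNH hc)
  have key := (allLt_iff _ _).mp S0_conj_check i hi
  rw [Bool.or_eq_true] at key
  rcases key with h0 | h1
  · have hi0 : i = 0 := Nat.eq_of_beq_eq_true h0
    rw [hi0, S0C_zero] at hti
    exact ht1' hti.eq_one
  · rw [Bool.and_eq_true] at h1
    have hcode := isCode_gY.conj hti h1.1
    have h2 := (allLt_iff _ _).mp h1.2 j hj
    exact hcode.ne hcj (by simpa using h2) rfl

/-- The Janko group J1 is simple. -/
theorem isSimpleGroup_J1 : IsSimpleGroup ↥J1 := by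
  have : Finite ↥J1 := finite_J1
  have : Nontrivial ↥J1 := Finite.one_lt_card_iff_nontrivial.mp (by rw [card_J1]; norm_num)
  refine ⟨fun N hN => ?_⟩
  by_cases hbot : N = ⊥
  · exact Or.inl hbot
  right
  have hdvd : Nat.card N ∣ 175560 := card_J1 ▸ Subgroup.card_subgroup_dvd_card N
  have hodd : ∀ p : ℕ, p.Prime → ¬ p ^ 2 ∣ 175560 →
      (∃ x : ↥J1, orderOf x = p ∧ ∀ N : Subgroup ↥J1, N.Normal → x ∈ N → N = ⊤) →
      p ∣ Nat.card N → N = ⊤ := by
    rintro p hp hp2 ⟨x, hx, hcert⟩ hpN
    have : Fact p.Prime := ⟨hp⟩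
    exact hcert N hN (mem_normal_of_orderOf_prime N p (by rw [card_J1]; exact hp2) hpN x hx)
  by_cases h3 : 3 ∣ Nat.card N
  · exact hodd 3 (by norm_num) (by norm_num) cert_three h3
  by_cases h5 : 5 ∣ Nat.card N
  · exact hodd 5 (by norm_num) (by norm_num) ⟨gY, orderOf_gY, fun N _ h => cert_five N h⟩ h5
  by_cases h7 : 7 ∣ Nat.card N
  · exact hodd 7 (by norm_num) (by norm_num) ⟨gX, orderOf_gX, fun N _ h => cert_seven N h⟩ h7
  by_cases h11 : 11 ∣ Nat.card N
  · exact hodd 11 (by norm_num) (by norm_num) cert_eleven h11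
  by_cases h19 : 19 ∣ Nat.card N
  · exact hodd 19 (by norm_num) (by norm_num) cert_nineteen h19
  exfalso
  have hcop : Nat.Coprime (Nat.card N) (3 * 5 * 7 * 11 * 19) := by
    refine Nat.Coprime.mul_right (Nat.Coprime.mul_right (Nat.Coprime.mul_right
      (Nat.Coprime.mul_right ?_ ?_) ?_) ?_) ?_
    · exact ((Nat.Prime.coprime_iff_not_dvd (by norm_num)).mpr h3).symm
    · exact ((Nat.Prime.coprime_iff_not_dvd (by norm_num)).mpr h5).symm
    · exact ((Nat.Prime.coprime_iff_not_dvd (by norm_num)).mpr h7).symm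
    · exact ((Nat.Prime.coprime_iff_not_dvd (by norm_num)).mpr h11).symm
    · exact ((Nat.Prime.coprime_iff_not_dvd (by norm_num)).mpr h19).symm
  have h8 : Nat.card N ∣ 2 ^ 3 := by
    have h' : Nat.card N ∣ 2 ^ 3 * (3 * 5 * 7 * 11 * 19) := by
      have e : 2 ^ 3 * (3 * 5 * 7 * 11 * 19) = 175560 := by norm_num
      rw [e]; exact hdvd
    exact hcop.dvd_of_dvd_mul_right h'
  obtain ⟨m, _, hm⟩ := (Nat.dvd_prime_pow Nat.prime_two).mp h8
  exact no_normal_two N (IsPGroup.of_card hm) hbot

end Cfsg.Agent.Lib.Helper70.J1
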