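import Cfsg.Agent.Lib.Helper70.J1Core
import Cfsg.Agent.Lib.Helper70.J1Data

/-!
# Accessors for the certificate tables of the enumeration of J1, and the Boolean checks
-/

set_option autoImplicit false

namespace Cfsg.Agent.Lib.Helper70.J1

/-- Code of the `k`-th coset representative. -/
def U (k : ℕ) : ℕ := fld UB 196 k
/-- Code of the `c`-th element of the point stabiliser. -/
def Kt (c : ℕ) : ℕ := fld KtB 196 c
def NX (k : ℕ) : ℕ := Nat.mod (fld NXB 12 k) 3080
def NY (k : ℕ) : ℕ := Nat.mod (fld NYB 12 k) 3080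
def KX (k : ℕ) : ℕ := Nat.mod (fld KXB 6 k) 57
def KY (k : ℕ) : ℕ := Nat.mod (fld KYB 6 k) 57
def Dp (k : ℕ) : ℕ := fld DB 5 k
def PP (k : ℕ) : ℕ := Nat.mod (fld PPB 12 k) 3080
def PS (k : ℕ) : ℕ := fld PSB 1 k
def KM (c d : ℕ) : ℕ := Nat.mod (fld KMB 6 (Nat.add (Nat.mul 57 c) d)) 57
def KWk (c : ℕ) : ℕ := Nat.mod (fld KWkB 12 c) 3080
def KWs (c : ℕ) : ℕ := fld KWsB 1 c

theorem NX_lt (k : ℕ) : NX k < 3080 := Nat.mod_lt _ (by norm_num)
theorem NY_lt (k : ℕ) : NY k < 3080 := Nat.mod_lt _ (by norm_num)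
theorem KX_lt (k : ℕ) : KX k < 57 := Nat.mod_lt _ (by norm_num)
theorem KY_lt (k : ℕ) : KY k < 57 := Nat.mod_lt _ (by norm_num)
theorem PP_lt (k : ℕ) : PP k < 3080 := Nat.mod_lt _ (by norm_num)
theorem KM_lt (c d : ℕ) : KM c d < 57 := Nat.mod_lt _ (by norm_num)
theorem KWk_lt (c : ℕ) : KWk c < 3080 := Nat.mod_lt _ (by norm_num)

/-- `X * u_k = u_{NX k} * κ_{KX k}` for `k` in a range. -/
noncomputable def chkX (lo n : ℕ) : Bool :=
  allRange lo n fun k => mulEq cX (U k) (U (NX k)) (Kt (KX k))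

/-- `Y * u_k = u_{NY k} * κ_{KY k}` for `k` in a range. -/
noncomputable def chkY (lo n : ℕ) : Bool :=
  allRange lo n fun k => mulEq cY (U k) (U (NY k)) (Kt (KY k))

/-- `κ_c * κ_d = κ_{KM c d}` for `c` in a range and all `d`. -/
noncomputable def chkK (lo n : ℕ) : Bool :=
  allRange lo n fun c => allLt 57 fun d => mulEq (Kt c) (Kt d) (Kt (KM c d)) cI

/-- The parent pointers decrease the depth and are edges of the Schreier graph. -/
noncomputable def chkPar : Bool :=
  allLt 3080 fun k => Nat.beq k UI ||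
    (Nat.blt (Dp (PP k)) (Dp k) &&
      ((Nat.beq (PS k) 0 && Nat.beq (NX (PP k)) k && Nat.beq (KX (PP k)) 0) ||
       (Nat.beq (PS k) 1 && Nat.beq (NY (PP k)) k && Nat.beq (KY (PP k)) 0)))

/-- Every element of the stabiliser list occurs as a Schreier generator. -/
noncomputable def chkKW : Bool :=
  allLt 57 fun c =>
    (Nat.beq (KWs c) 0 && Nat.beq (KX (KWk c)) c) || (Nat.beq (KWs c) 1 && Nat.beq (KY (KWk c)) c)

/-- The stabiliser list fixes `v0`. -/
noncomputable def chkFix : Bool := allLt 57 fun c => mvEq (Kt c) v0 v0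

/-- The vectors `u_k v0` have strictly increasing codes. -/
noncomputable def chkSort (lo n : ℕ) : Bool :=
  allRange lo n fun k => Nat.blt (vc (U k) v0) (vc (U (Nat.add k 1)) v0)

/-- The vectors `κ_c w0` are pairwise distinct. -/
noncomputable def chkKinj : Bool :=
  allLt 57 fun c => allLt 57 fun d => Nat.beq c d || !(Nat.beq (vc (Kt c) w0) (vc (Kt d) w0))

end Cfsg.Agent.Lib.Helper70.J1
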