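import Cfsg.Agent.Lib.Helper70.J1Enum

/-!
# Tools for computing in the Janko group J1 with matrix codes
-/

set_option autoImplicit false

namespace Cfsg.Agent.Lib.Helper70.J1

open Cfsg.Spor

/-- The element `g` of J1 has the matrix encoded by `C`. -/
def IsCode (g : ↥J1) (C : ℕ) : Prop := ((g : GL (Fin 7) (ZMod 11)) : M7) = dec C

/-- The generator `X` as an element of J1. -/
def gX : ↥J1 := ⟨jankoX, jankoX_mem⟩
/-- The generator `Y` as an element of J1. -/
def gY : ↥J1 := ⟨jankoY, jankoY_mem⟩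

theorem isCode_one : IsCode 1 cI := by
  unfold IsCode
  rw [dec_cI]
  rfl

theorem isCode_gX : IsCode gX cX := coe_jankoX
theorem isCode_gY : IsCode gY cY := coe_jankoY

theorem IsCode.mul {g h : ↥J1} {A B C : ℕ} (hg : IsCode g A) (hh : IsCode h B)
    (hc : mulEq A B C cI = true) : IsCode (g * h) C := by
  unfold IsCode at *
  rw [Subgroup.coe_mul, Units.val_mul, hg, hh]
  exact dec_mul_one_of _ _ _ _ dec_cI hc

theorem IsCode.ext {g h : ↥J1} {A : ℕ} (hg : IsCode g A) (hh : IsCode h A) : g = h :=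
  Subtype.ext (Units.ext (hg.trans hh.symm))

theorem IsCode.congr {g : ↥J1} {A B : ℕ} (hg : IsCode g A) (hc : mulEq A cI B cI = true) :
    IsCode g B := by
  unfold IsCode at *
  rw [hg]
  have := (mulEq_iff _ _ _ _).mp hc
  rwa [dec_cI, mul_one, mul_one] at this

theorem IsCode.eq {g h : ↥J1} {A B : ℕ} (hg : IsCode g A) (hh : IsCode h B)
    (hc : mulEq A cI B cI = true) : g = h :=
  (hg.congr hc).ext hh

theorem IsCode.ne {g h : ↥J1} {A B : ℕ} (hg : IsCode g A) (hh : IsCode h B)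
    (hc : mulEq A cI B cI = false) : g ≠ h := by
  intro hgh
  subst hgh
  have h1 : dec A = dec B := hg.symm.trans hh
  have h2 : mulEq A cI B cI = true := (mulEq_iff _ _ _ _).mpr (by rw [h1])
  rw [hc] at h2
  exact Bool.false_ne_true h2

theorem IsCode.inv {g : ↥J1} {A B : ℕ} (hg : IsCode g A) (hc : mulEq A B cI cI = true) :
    IsCode g⁻¹ B := by
  unfold IsCode at *
  have h1 : dec A * dec B = 1 := by
    have := (mulEq_iff _ _ _ _).mp hc
    rwa [dec_cI, mul_one] at this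
  rw [← hg] at h1
  have h2 : ((g⁻¹ : ↥J1) : GL (Fin 7) (ZMod 11)) = (g : GL (Fin 7) (ZMod 11))⁻¹ := rfl
  rw [h2]
  calc (((g : GL (Fin 7) (ZMod 11))⁻¹ : GL (Fin 7) (ZMod 11)) : M7)
      = (((g : GL (Fin 7) (ZMod 11))⁻¹ : GL (Fin 7) (ZMod 11)) : M7) *
          (((g : GL (Fin 7) (ZMod 11)) : M7) * dec B) := by rw [h1, mul_one]
    _ = dec B := Units.inv_mul_cancel_left _ _

/-- Conjugation: if `G * A = C * G` then `g * x * g⁻¹` has code `C`. -/
theorem IsCode.conj {g x : ↥J1} {G A C : ℕ} (hg : IsCode g G) (hx : IsCode x A)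
    (hc : mulEq G A C G = true) : IsCode (g * x * g⁻¹) C := by
  unfold IsCode at *
  have h1 : dec G * dec A = dec C * dec G := (mulEq_iff _ _ _ _).mp hc
  have h2 : ((g * x * g⁻¹ : ↥J1) : GL (Fin 7) (ZMod 11)) =
      (g : GL (Fin 7) (ZMod 11)) * (x : GL (Fin 7) (ZMod 11)) * (g : GL (Fin 7) (ZMod 11))⁻¹ := rfl
  rw [h2, Units.val_mul, Units.val_mul, hg, hx, h1, ← hg, mul_assoc, Units.mul_inv, mul_one]

/-- The element of J1 with a given code, from its representation `u_k * κ_c`. -/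
theorem exists_isCode (k c C : ℕ) (hk : Nat.blt k 3080 = true) (hc : Nat.blt c 57 = true)
    (h : mulEq (U k) (Kt c) C cI = true) : ∃ g : ↥J1, IsCode g C := by
  obtain ⟨g, hg, hgm⟩ := rep_mem k c (Nat.le_of_ble_eq_true hk) (Nat.le_of_ble_eq_true hc)
  exact ⟨⟨g, hg⟩, hgm.trans (dec_mul_one_of _ _ _ _ dec_cI h)⟩

theorem IsCode.pow_one {x : ↥J1} {A : ℕ} (h : IsCode x A) : IsCode (x ^ 1) A := by
  rwa [_root_.pow_one]

theorem IsCode.pow_add {x : ↥J1} {m n A B C : ℕ} (h1 : IsCode (x ^ m) A) (h2 : IsCode (x ^ n) B)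
    (hc : mulEq A B C cI = true) : IsCode (x ^ (m + n)) C := by
  rw [_root_.pow_add]
  exact h1.mul h2 hc

theorem IsCode.eq_one {g : ↥J1} (hg : IsCode g cI) : g = 1 := hg.ext isCode_one

/-- Every subgroup containing both generators is everything. -/
theorem eq_top_of_gens {N : Subgroup ↥J1} (hX : gX ∈ N) (hY : gY ∈ N) : N = ⊤ := by
  have hcl : (Subgroup.closure {jankoX, jankoY} : Subgroup (GL (Fin 7) (ZMod 11))) ≤
      N.map J1.subtype := by
    rw [Subgroup.closure_le]
    rintro x (rfl | rfl)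
    · exact ⟨gX, hX, rfl⟩
    · exact ⟨gY, hY, rfl⟩
  rw [eq_top_iff]
  intro g _
  obtain ⟨n, hn, hng⟩ := hcl g.2
  have : n = g := Subtype.ext hng
  rwa [← this]

/-- A normal subgroup whose order is divisible by a prime `p` with `p ^ 2 ∤ |G|` contains every
element of order `p`. -/
theorem mem_normal_of_orderOf_prime {G : Type*} [Group G] [Finite G] (N : Subgroup G) [N.Normal]
    (p : ℕ) [Fact p.Prime] (hp2 : ¬ p ^ 2 ∣ Nat.card G) (hN : p ∣ Nat.card N)
    (x : G) (hx : orderOf x = p) : x ∈ N := by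
  have hp : p.Prime := Fact.out
  obtain ⟨y, hy⟩ := exists_prime_orderOf_dvd_card' p hN
  have hy' : orderOf (y : G) = p := by rw [Subgroup.orderOf_coe, hy]
  have hcardS : ∀ P : Sylow p G, ∀ z : G, orderOf z = p → Subgroup.zpowers z ≤ (P : Subgroup G) →
      Subgroup.zpowers z = (P : Subgroup G) := by
    intro P z hz hle
    obtain ⟨n, hn⟩ := IsPGroup.iff_card.mp P.isPGroup'
    have hdvd : Nat.card P ∣ Nat.card G := Subgroup.card_subgroup_dvd_card _
    have hn1 : n ≤ 1 := by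
      by_contra hlt
      have hlt' : 2 ≤ n := by omega
      exact hp2 ((pow_dvd_pow p hlt').trans (hn ▸ hdvd))
    have hcz : Nat.card (Subgroup.zpowers z) = p := by rw [Nat.card_zpowers, hz]
    apply Subgroup.eq_of_le_of_card_ge hle
    rw [hcz, hn]
    calc p ^ n ≤ p ^ 1 := Nat.pow_le_pow_right hp.pos hn1
      _ = p := _root_.pow_one p
  have hpg : ∀ z : G, orderOf z = p → IsPGroup p (Subgroup.zpowers z) := by
    intro z hz
    exact IsPGroup.of_card (n := 1) (by rw [Nat.card_zpowers, hz, _root_.pow_one])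
  obtain ⟨P, hP⟩ := (hpg (y : G) hy').exists_le_sylow
  obtain ⟨Q, hQ⟩ := (hpg x hx).exists_le_sylow
  have hP' := hcardS P (y : G) hy' hP
  obtain ⟨g, hg⟩ := MulAction.exists_smul_eq G P Q
  have hxQ : x ∈ (Q : Subgroup G) := hQ (Subgroup.mem_zpowers x)
  rw [← hg, Sylow.coe_subgroup_smul, Subgroup.mem_pointwise_smul_iff_inv_smul_mem, ← hP'] at hxQ
  have hmem : (MulAut.conj g)⁻¹ • x ∈ N :=
    (Subgroup.zpowers_le.mpr y.2) hxQ
  have hconj : (MulAut.conj g)⁻¹ • x = g⁻¹ * x * g := by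
    rw [← map_inv, MulAut.smul_def, MulAut.conj_apply, inv_inv]
  rw [hconj] at hmem
  have := Subgroup.Normal.conj_mem ‹N.Normal› _ hmem g
  simpa [mul_assoc] using this

/-- A finite subgroup of J1 given by a closed table of codes. -/
theorem exists_codeSubgroup (n : ℕ) (SC RK RC : ℕ → ℕ) (MT : ℕ → ℕ → ℕ) (h0 : SC 0 = cI)
    (hn : 0 < n)
    (hrep : allLt n (fun i => Nat.blt (RK i) 3080 && Nat.blt (RC i) 57 &&
      mulEq (U (RK i)) (Kt (RC i)) (SC i) cI) = true)
    (hmul : allLt n (fun i => allLt n fun j => Nat.blt (MT i j) n &&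
      mulEq (SC i) (SC j) (SC (MT i j)) cI) = true)
    (hinj : allLt n (fun i => allLt n fun j => Nat.beq i j || !(mulEq (SC i) cI (SC j) cI)) = true) :
    ∃ H : Subgroup ↥J1, Nat.card H = n ∧ ∀ g : ↥J1, g ∈ H ↔ ∃ i < n, IsCode g (SC i) := by
  have hmulS : ∀ g h : ↥J1, (∃ i < n, IsCode g (SC i)) → (∃ i < n, IsCode h (SC i)) →
      ∃ i < n, IsCode (g * h) (SC i) := by
    rintro g h ⟨i, hi, hgi⟩ ⟨j, hj, hhj⟩
    have := (allLt_iff _ _).mp ((allLt_iff _ _).mp hmul i hi) j hj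
    rw [Bool.and_eq_true] at this
    exact ⟨MT i j, Nat.le_of_ble_eq_true this.1, hgi.mul hhj this.2⟩
  have honeS : ∃ i < n, IsCode (1 : ↥J1) (SC i) := ⟨0, hn, by rw [h0]; exact isCode_one⟩
  have hpowS : ∀ (g : ↥J1) (m : ℕ), (∃ i < n, IsCode g (SC i)) → ∃ i < n, IsCode (g ^ m) (SC i) := by
    intro g m hg
    induction m with
    | zero => rw [pow_zero]; exact honeS
    | succ m ih => rw [pow_succ]; exact hmulS _ _ ih hg
  have : Finite ↥J1 := Nat.finite_of_card_ne_zero (by rw [card_J1]; norm_num)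
  let H : Subgroup ↥J1 :=
    { carrier := {g | ∃ i < n, IsCode g (SC i)}
      mul_mem' := fun {g h} hg hh => hmulS g h hg hh
      one_mem' := honeS
      inv_mem' := by
        intro g hg
        have h1 : g⁻¹ = g ^ (orderOf g - 1) := by
          rw [inv_eq_iff_mul_eq_one, ← pow_succ', Nat.sub_add_cancel (orderOf_pos g),
            pow_orderOf_eq_one]
        show ∃ i < n, IsCode g⁻¹ (SC i)
        rw [h1]
        exact hpowS g _ hg }
  refine ⟨H, ?_, fun g => Iff.rfl⟩
  have hex : ∀ i : Fin n, ∃ g : ↥J1, IsCode g (SC i.val) := by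
    intro i
    have := (allLt_iff _ _).mp hrep i.val i.isLt
    rw [Bool.and_eq_true, Bool.and_eq_true] at this
    exact exists_isCode _ _ _ this.1.1 this.1.2 this.2
  choose f hf using hex
  let F : Fin n → ↥H := fun i => ⟨f i, i.val, i.isLt, hf i⟩
  have hFinj : Function.Injective F := by
    intro i j hij
    by_contra hne
    have hne' : i.val ≠ j.val := fun h => hne (Fin.ext h)
    have := (allLt_iff _ _).mp ((allLt_iff _ _).mp hinj i.val i.isLt) j.val j.isLt
    rw [Bool.or_eq_true] at this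
    rcases this with h | h
    · exact hne' (Nat.eq_of_beq_eq_true h)
    · have h' : mulEq (SC i.val) cI (SC j.val) cI = false := by simpa using h
      exact (hf i).ne (hf j) h' (congrArg Subtype.val hij)
  have hFsurj : Function.Surjective F := by
    rintro ⟨g, i, hi, hgi⟩
    exact ⟨⟨i, hi⟩, Subtype.ext ((hf ⟨i, hi⟩).ext hgi)⟩
  rw [← Nat.card_congr (Equiv.ofBijective F ⟨hFinj, hFsurj⟩), Nat.card_fin]

end Cfsg.Agent.Lib.Helper70.J1
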