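import Mathlib
import Cfsg.Agent.Lib.Helper48.QADefs

/-!
# Project QA (helper48, S2787): piece QA-QSUB (backup copy by helper70)

The graph subgroup of `Rˣ × SL₂(ℤ[X] ⧸ 𝔪)` defined by the relation `Rel`.
-/

set_option autoImplicit false

universe u

namespace Cfsg.Agent.Lib.Helper48.QA

open Matrix Polynomial

local notation "SL2" F => Matrix.SpecialLinearGroup (Fin 2) F
local notation "PSL2" F => Matrix.ProjectiveSpecialLinearGroup (Fin 2) F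
local notation "M2" F => Matrix (Fin 2) (Fin 2) F

/-- QA-QSUB -/
theorem exists_graph {R : Type*} [Ring R] (M P e : R) (𝔪 : Ideal ℤ[X])
    (hmul : ∀ (s s' : R) (A A' : M2 ℤ[X]), Rel M P e s A → Rel M P e s' A' →
      Rel M P e (s * s') (A * A'))
    (hinv : ∀ (s t : R), t * s = 1 → ∀ A : M2 ℤ[X], A.det = 1 → Rel M P e s A →
      Rel M P e t A.adjugate)
    (hone : ∀ A : M2 ℤ[X], Rel M P e 1 A →
      (A 0 0 - 1) ∈ 𝔪 ∧ A 0 1 ∈ 𝔪 ∧ A 1 0 ∈ 𝔪 ∧ (A 1 1 - 1) ∈ 𝔪) :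
    ∃ 𝒯 : Subgroup (Rˣ × SL2 (ℤ[X] ⧸ 𝔪)),
      (∀ b, ((1 : Rˣ), b) ∈ 𝒯 → b = 1) ∧
      ∀ (s : Rˣ) (A : SL2 ℤ[X]), Rel M P e (s : R) (A : M2 ℤ[X]) →
        (s, Matrix.SpecialLinearGroup.map (Ideal.Quotient.mk 𝔪) A) ∈ 𝒯 := by
  refine ⟨{ carrier := {x | ∃ A : SL2 ℤ[X], Rel M P e (x.1 : R) (A : M2 ℤ[X]) ∧
              Matrix.SpecialLinearGroup.map (Ideal.Quotient.mk 𝔪) A = x.2}
            mul_mem' := ?_
            one_mem' := ?_
            inv_mem' := ?_ }, ?_, ?_⟩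
  · rintro ⟨s, B⟩ ⟨s', B'⟩ ⟨A, hA, hAB⟩ ⟨A', hA', hAB'⟩
    refine ⟨A * A', ?_, ?_⟩
    · have h := hmul (s : R) (s' : R) (A : M2 ℤ[X]) (A' : M2 ℤ[X]) hA hA'
      simpa using h
    · simp only [map_mul] at hAB hAB' ⊢
      rw [hAB, hAB']
      rfl
  · refine ⟨1, ?_, ?_⟩
    · simp [Rel]
    · simp
  · rintro ⟨s, B⟩ ⟨A, hA, hAB⟩
    refine ⟨A⁻¹, ?_, ?_⟩
    · have h := hinv (s : R) ((s⁻¹ : Rˣ) : R) (Units.inv_mul s) (A : M2 ℤ[X]) A.det_coe hA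
      simpa [Matrix.SpecialLinearGroup.coe_inv] using h
    · simp only [map_inv] at hAB ⊢
      rw [hAB]
      rfl
  · rintro b ⟨A, hA, hAB⟩
    have h := hone (A : M2 ℤ[X]) (by simpa using hA)
    obtain ⟨h00, h01, h10, h11⟩ := h
    have hAB' : Matrix.SpecialLinearGroup.map (Ideal.Quotient.mk 𝔪) A = b := hAB
    rw [← hAB']
    have e00 : Ideal.Quotient.mk 𝔪 ((A : M2 ℤ[X]) 0 0) = 1 := by
      have := Ideal.Quotient.eq_zero_iff_mem.mpr h00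
      rw [map_sub, map_one, sub_eq_zero] at this
      exact this
    have e11 : Ideal.Quotient.mk 𝔪 ((A : M2 ℤ[X]) 1 1) = 1 := by
      have := Ideal.Quotient.eq_zero_iff_mem.mpr h11
      rw [map_sub, map_one, sub_eq_zero] at this
      exact this
    have e01 : Ideal.Quotient.mk 𝔪 ((A : M2 ℤ[X]) 0 1) = 0 :=
      Ideal.Quotient.eq_zero_iff_mem.mpr h01
    have e10 : Ideal.Quotient.mk 𝔪 ((A : M2 ℤ[X]) 1 0) = 0 :=
      Ideal.Quotient.eq_zero_iff_mem.mpr h10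
    ext i j
    fin_cases i <;> fin_cases j <;>
      simp [Matrix.SpecialLinearGroup.map_apply_coe, RingHom.mapMatrix_apply, e00, e01, e10, e11]
  · intro s A hA
    exact ⟨A, hA, rfl⟩

end Cfsg.Agent.Lib.Helper48.QA
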