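import Mathlib
import Cfsg.Agent.Lib.Helper52.SP8EBDefs

/-!
# SP8-EB (sub-project of S5823, architect helper52): piece NRMS

Conjugation by the standard tensor-wreath group preserves the pure tensors of quaternion elements.
-/

set_option autoImplicit false

namespace Cfsg.Agent.Lib.Helper52.SP8EB

open Matrix Cfsg.Geo Cfsg.Agent.Lib.Helper71.Asch

variable {n : ℕ} {F : Type*} [Field F] [Fintype F]

/-- the predicate of NRMS -/
def NRMS_Pr (F : Type*) [Field F] (s : GL (Fin 3 → Fin 2) F) : Prop :=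
  ∀ cs : Fin 3 → Matrix (Fin 2) (Fin 2) F, (∀ i, IsQ (cs i)) →
    ∃ cs' : Fin 3 → Matrix (Fin 2) (Fin 2) F, (∀ i, IsQ (cs' i)) ∧
      s.1 * pt cs * (s⁻¹ : GL (Fin 3 → Fin 2) F).1 = pt cs'

theorem NRMS_inv_val (s : GL (Fin 3 → Fin 2) F) (B : Matrix (Fin 3 → Fin 2) (Fin 3 → Fin 2) F)
    (h : s.1 * B = 1) : (s⁻¹ : GL (Fin 3 → Fin 2) F).1 = B := by
  calc (s⁻¹ : GL (Fin 3 → Fin 2) F).1
      = (s⁻¹ : GL (Fin 3 → Fin 2) F).1 * (s.1 * B) := by rw [h, mul_one]
    _ = ((s⁻¹ : GL (Fin 3 → Fin 2) F).1 * s.1) * B := by rw [mul_assoc]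
    _ = B := by rw [← Units.val_mul, inv_mul_cancel, Units.val_one, one_mul]

theorem NRMS_pure (h1 : HQconj F) (s : GL (Fin 3 → Fin 2) F)
    (a b : Fin 3 → Matrix (Fin 2) (Fin 2) F) (hab : ∀ i, a i * b i = 1)
    (hba : ∀ i, b i * a i = 1) (hs : s.1 = pt a) : NRMS_Pr F s ∧ NRMS_Pr F s⁻¹ := by
  have hsi : (s⁻¹ : GL (Fin 3 → Fin 2) F).1 = pt b := by
    apply NRMS_inv_val
    rw [hs, pt_mul]
    simp only [hab]
    exact pt_one
  constructor
  · intro cs hcs
    refine ⟨fun i => a i * cs i * b i, fun i => h1 (cs i) (hcs i) (a i) (b i) (hab i), ?_⟩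
    rw [hs, hsi, pt_mul, pt_mul]
  · intro cs hcs
    refine ⟨fun i => b i * cs i * a i, fun i => h1 (cs i) (hcs i) (b i) (a i) (hba i), ?_⟩
    rw [inv_inv, hs, hsi, pt_mul, pt_mul]

theorem NRMS_perm (hpc : HPermConj F) (s : GL (Fin 3 → Fin 2) F) (σ : Equiv.Perm (Fin 3))
    (hs : s.1 = permM σ) : NRMS_Pr F s ∧ NRMS_Pr F s⁻¹ := by
  have hsi : (s⁻¹ : GL (Fin 3 → Fin 2) F).1 = permM σ.symm := by
    apply NRMS_inv_val
    have h := hpc σ (fun _ => (1 : Matrix (Fin 2) (Fin 2) F))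
    simp only [pt_one, mul_one] at h
    rw [hs]
    exact h
  constructor
  · intro cs hcs
    refine ⟨fun j => cs (σ.symm j), fun j => hcs _, ?_⟩
    rw [hs, hsi]
    exact hpc σ cs
  · intro cs hcs
    refine ⟨fun j => cs (σ j), fun j => hcs _, ?_⟩
    rw [inv_inv, hs, hsi]
    have h := hpc σ.symm cs
    rw [Equiv.symm_symm] at h
    exact h

/-- NRMS. -/
theorem NRMS (h1 : HQconj F) (hpc : HPermConj F) : HNrmS F := by
  intro s hs
  have key : NRMS_Pr F s := by
    unfold tensorWreathStandard at hs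
    induction hs using Subgroup.closure_induction'' with
    | mem x hx =>
      rcases hx with ⟨gs, hgs⟩ | ⟨σ, hσ⟩
      · refine (NRMS_pure h1 x (fun i => (gs i).1)
          (fun i => ((gs i)⁻¹ : GL (Fin 2) F).1) (fun i => ?_) (fun i => ?_) ?_).1
        · rw [← Units.val_mul, mul_inv_cancel, Units.val_one]
        · rw [← Units.val_mul, inv_mul_cancel, Units.val_one]
        · ext x' y'
          rw [hgs, pt_apply]
      · refine (NRMS_perm hpc x σ ?_).1
        ext x' y'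
        rw [hσ]
        rfl
    | inv_mem x hx =>
      rcases hx with ⟨gs, hgs⟩ | ⟨σ, hσ⟩
      · refine (NRMS_pure h1 x (fun i => (gs i).1)
          (fun i => ((gs i)⁻¹ : GL (Fin 2) F).1) (fun i => ?_) (fun i => ?_) ?_).2
        · rw [← Units.val_mul, mul_inv_cancel, Units.val_one]
        · rw [← Units.val_mul, inv_mul_cancel, Units.val_one]
        · ext x' y'
          rw [hgs, pt_apply]
      · refine (NRMS_perm hpc x σ ?_).2
        ext x' y'
        rw [hσ]
        rfl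
    | one =>
      intro cs hcs
      exact ⟨cs, hcs, by simp⟩
    | mul x y _ _ hx hy =>
      intro cs hcs
      obtain ⟨cs1, hcs1, e1⟩ := hy cs hcs
      obtain ⟨cs2, hcs2, e2⟩ := hx cs1 hcs1
      refine ⟨cs2, hcs2, ?_⟩
      rw [_root_.mul_inv_rev, Units.val_mul, Units.val_mul, ← e2, ← e1]
      simp only [mul_assoc]
  exact key

end Cfsg.Agent.Lib.Helper52.SP8EB
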